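import Cfsg.Agent.Lib.Flavell42.BackBase

/-!
No nontrivial quadratic element of `pInv` centralises a pair fixed by `R`.
-/

set_option linter.style.haveILetI false
set_option linter.unusedSimpArgs false

namespace Cfsg.Agent.Lib.Flavell42

open QuadPair Subgroup

variable {p : ℕ} [Fact p.Prime] {V : Type} [AddCommGroup V] [Module (ZMod p) V]

local notation "GLV" => LinearMap.GeneralLinearGroup (ZMod p) V
local notation "E" => (V →ₗ[ZMod p] V)

variable {R G : Subgroup (LinearMap.GeneralLinearGroup (ZMod p) V)} {α φ : V →ₗ[ZMod p] V}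

theorem torus_mul (h : Units2 α φ) {c d : ZMod p} (hc : c ≠ 0) (hd : d ≠ 0) :
    torus α φ c * torus α φ d = torus α φ (c * d) := by
  refine Units.ext ?_
  rw [Units.val_mul, val_torus h hc, val_torus h hd, val_torus h (mul_ne_zero hc hd)]
  simp only [e0, add_mul, mul_add, sub_mul, mul_sub, one_mul, mul_one, smul_mul_assoc,
    mul_smul_comm, smul_smul, mul_assoc, h.aa, h.ff, h.aa', h.ff', h.afa1, h.faf1, h.afa', h.faf',
    smul_zero, add_zero, zero_add, sub_zero, zero_sub, mul_zero, zero_mul, sub_self]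
  match_scalars <;> field_simp <;> ring

theorem torus_one (h : Units2 α φ) : torus α φ 1 = 1 := by
  refine Units.ext ?_
  rw [val_torus h one_ne_zero, e0, inv_one, one_smul, one_smul, Units.val_one]
  abel

/-- The torus of a pair. -/
noncomputable def torusHom (h : Units2 α φ) :
    (ZMod p)ˣ →* LinearMap.GeneralLinearGroup (ZMod p) V where
  toFun c := torus α φ (c : ZMod p)
  map_one' := by rw [Units.val_one]; exact torus_one h
  map_mul' c d := by rw [Units.val_mul]; exact (torus_mul h c.ne_zero d.ne_zero).symm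

theorem coprime_card_torus (h : Units2 α φ) : (Nat.card (torusHom h).range).Coprime p := by
  refine Nat.Coprime.coprime_dvd_left (Subgroup.card_range_dvd (torusHom h)) ?_
  rw [Nat.card_eq_fintype_card, ZMod.card_units p]
  have hp : p.Prime := Fact.out
  have := hp.two_le
  refine (hp.coprime_iff_not_dvd.mpr fun hd => ?_).symm
  have := Nat.le_of_dvd (by omega) hd
  omega

theorem isSolvable_torus (h : Units2 α φ) : Group.IsSolvable (torusHom h).range := by
  haveI : IsMulCommutative (torusHom h).range := ⟨⟨fun a b => by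
    obtain ⟨_, x, rfl⟩ := a
    obtain ⟨_, y, rfl⟩ := b
    exact Subtype.ext (by
      show torusHom h x * torusHom h y = torusHom h y * torusHom h x
      rw [← map_mul, mul_comm, map_mul])⟩⟩
  exact Coprime.isSolvable_of_isMulCommutative _

variable [Finite V]

/-- An element commuting with the idempotents of a pair commutes with both of its members. -/
theorem commute_of_idem (hp : 5 ≤ p) (h : IsPair G α φ) {Z : E} (hZ : IsMin G Z)
    (c1 : α * φ * Z = Z * (α * φ)) (c2 : φ * α * Z = Z * (φ * α)) : α * Z = Z * α := by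
  have h2 := two_ne hp
  have hz : α * Z * α = 0 := by
    calc α * Z * α = α * φ * α * Z * α := by rw [h.rel.afa]
      _ = α * (φ * α * Z) * α := by noncomm_ring
      _ = α * Z * φ * (α * α) := by rw [c2]; noncomm_ring
      _ = 0 := by rw [h.rel.aa, mul_zero]
  by_contra hne
  have hs : Skew G α Z := ⟨h.min_left, hZ, hz, mul_mul_zero_symm h2 h.min_left hZ hz, hne⟩
  set L := α * Z - Z * α with hL
  have hLm : IsMin G L := hs.isMin_comm h2
  have hcls : InCls G α L := by
    refine ⟨hLm.good, ?_, fun v hv => ?_⟩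
    · rintro _ ⟨v, rfl⟩
      rw [hL, LinearMap.sub_apply]
      refine sub_mem ⟨Z v, rfl⟩ ⟨φ (Z (α v)), ?_⟩
      have e : α * φ * Z * α = Z * α := by
        rw [c1, mul_assoc Z, h.rel.afa]
      exact LinearMap.congr_fun e v
    · have e : α * Z = α * Z * (φ * α) := by
        conv_lhs => rw [← h.rel.afa, mul_assoc α φ α, mul_assoc α, c2, ← mul_assoc]
      have e' := LinearMap.congr_fun e v
      simp only [Module.End.mul_apply, LinearMap.mem_ker.mp hv, map_zero] at e'
      simp [hL, Module.End.mul_apply, e', LinearMap.mem_ker.mp hv]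
  obtain ⟨k1, k2⟩ := hs.symm.mul_comm_eq_zero
  have e1 : Z * α - α * Z = -L := by rw [hL]; abel
  rw [e1] at k1 k2
  rw [neg_mul, neg_eq_zero] at k1
  rw [mul_neg, neg_eq_zero] at k2
  exact hne (commute_cls_left h2 (card_ne_three hp) hLm hZ (k1.trans k2.symm)
    (hcls.symm h.min_left hLm.ne_zero))

theorem rk_lt_of_kills {b b' f : E} (hle : LinearMap.range b' ≤ (LinearMap.range b).map f)
    {w : V} (hw : w ∈ LinearMap.range b) (hw0 : w ≠ 0) (hfw : f w = 0) : rk b' < rk b := by
  have h1 := IsMin.finrank_inf_ker f (LinearMap.range b)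
  have h2 : 0 < Module.finrank (ZMod p) (LinearMap.range b ⊓ LinearMap.ker f : Submodule (ZMod p) V) := by
    rw [Nat.pos_iff_ne_zero, Ne, Submodule.finrank_eq_zero]
    intro e
    have hmem : w ∈ LinearMap.range b ⊓ LinearMap.ker f := ⟨hw, hfw⟩
    rw [e] at hmem
    exact hw0 ((Submodule.mem_bot _).mp hmem)
  have h3 := Submodule.finrank_mono hle
  unfold rk
  omega

namespace Bad

/-- The roots generate a subgroup containing `O^p(G)`. -/
theorem pRes_le_roots (hb : Bad R G) :
    pRes p G ≤ closure {τ : GLV | ∃ X : E, IsMin G X ∧ τ = tau X} := by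
  set Nr := closure {τ : GLV | ∃ X : E, IsMin G X ∧ τ = tau X} with hNr
  have hNG : Nr ≤ G := (closure_le _).mpr fun τ ⟨X, hX, e⟩ => e ▸ tau_mem hX.good
  have hNn : ∀ S : Subgroup GLV, S ≤ normalizer (G : Set GLV) → S ≤ normalizer (Nr : Set GLV) := by
    intro S hS g hg
    refine mem_normalizer_of_forall (X := GLV) fun x hx => ?_
    have hle : Nr ≤ Nr.comap (MulAut.conj g).toMonoidHom := by
      refine (closure_le _).mpr ?_
      rintro _ ⟨X, hX, rfl⟩
      exact subset_closure ⟨cj g X, IsMin.cjN hX (hS hg), conj_tau g hX.good.sq⟩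
    exact hle hx
  obtain ⟨X, hX⟩ := hb.exists_min
  exact hb.pRes_le_of_noncentral hNG (hNn G le_normalizer) (hNn R hb.act.norm)
    fun hle => hb.tau_ne_central hX (hle (subset_closure ⟨X, hX, rfl⟩))

theorem eq_zero_of_tau_central (hb : Bad R G) {X : E} (hX : Good G X)
    (hc : tau X ∈ centralizer (G : Set GLV)) : X = 0 := by
  have hle : zpowers (tau X) ≤ pCoreOf p G := by
    refine CosetGraph.SylowIn.le_pCoreOf (zpowers_le.mpr (tau_mem hX)) ?_ ?_
    · intro g hg
      refine mem_normalizer_of_forall (X := GLV) fun y hy => ?_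
      obtain ⟨j, rfl⟩ := mem_zpowers_iff.mp hy
      rw [← conj_zpow, mem_centralizer_iff.mp hc g hg, mul_inv_cancel_right]
      exact zpow_mem (mem_zpowers _) j
    · rintro ⟨y, hy⟩
      obtain ⟨j, rfl⟩ := mem_zpowers_iff.mp hy
      refine ⟨1, Subtype.ext ?_⟩
      show (tau X ^ j) ^ p ^ 1 = 1
      rw [pow_one, ← zpow_natCast, ← zpow_mul, mul_comm, zpow_mul, zpow_natCast,
        tau_pow hX.sq, ZMod.natCast_self, zero_smul, tau_zero, one_zpow]
  have := hle (mem_zpowers (tau X))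
  rwa [hb.pCoreOf_eq_bot, mem_bot, tau_eq_one_iff hX.sq] at this

theorem back (hb : Bad R G) (h : IsPair G α φ) (hR : ∀ a ∈ R, cj a α = α ∧ cj a φ = φ)
    {t : GLV} (ht : IsQP R G t) (ht1 : t ≠ 1) (hta : cj t α = α) (htf : cj t φ = φ) : False := by
  classical
  have hp := hb.hp
  have h2 := two_ne hp
  set CE := CCls G α with hCE
  set CF := CCls G φ with hCF
  have hRn : ∀ {α φ : E}, IsPair G α φ → (∀ a ∈ R, cj a α = α) →
      R ≤ normalizer (CCls G α : Set GLV) := fun {α φ} h hR a ha =>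
    mem_normalizer_CCls h.min_left (hb.act.norm ha) (inCls_of_fix h.min_left (hR a ha))
  set J := pCoreOf p CE ⊓ pCoreOf p CF with hJ
  have htJ : t ∈ J := mem_inf.mpr
    ⟨hb.fact (CCls_lt hp h) (hRn h fun a ha => (hR a ha).1) ht.1 ht.2
      (quad_mem_CCls hp h (pInv_le ht.1) ht.2 hta),
     hb.fact (CCls_lt hp h.symm) (hRn h.symm fun a ha => (hR a ha).2) ht.1 ht.2
      (quad_mem_CCls hp h.symm (pInv_le ht.1) ht.2 htf)⟩
  have hJp : IsPGroup p J := (CosetGraph.SylowIn.isPGroup_pCoreOf p CE).to_le inf_le_left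
  have hJE : J ≤ CE := inf_le_left.trans (CosetGraph.SylowIn.pCoreOf_le p CE)
  have hJF : J ≤ CF := inf_le_right.trans (CosetGraph.SylowIn.pCoreOf_le p CF)
  have hJG : J ≤ G := hJE.trans (CCls_le α)
  have hkill : ∀ u ∈ J, ((u : E) - 1) * α = 0 ∧ α * ((u : E) - 1) = 0 ∧
      ((u : E) - 1) * φ = 0 ∧ φ * ((u : E) - 1) = 0 := by
    intro u hu
    have e1 := hb.core_mul_eq h u hu.1
    have e2 := hb.core_mul_eq h.symm u hu.2
    have c1 := (cj_eq_iff_commute u α).mp (CCls_le_CG h.min_left.good (hJE hu)).2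
    have c2 := (cj_eq_iff_commute u φ).mp (CCls_le_CG h.min_right.good (hJF hu)).2
    refine ⟨e1, ?_, e2, ?_⟩
    · rw [mul_sub, mul_one, ← c1, ← e1, sub_mul, one_mul]
    · rw [mul_sub, mul_one, ← c2, ← e2, sub_mul, one_mul]
  have hex : ∃ n, ∃ X : E, X * X = 0 ∧ X ≠ 0 ∧ tau X ∈ J ∧ rk X = n :=
    ⟨_, (t : E) - 1, ht.2, fun e => ht1 (Units.ext (sub_eq_zero.mp e)),
      by rw [tau_of_val ht.2]; exact htJ, rfl⟩
  obtain ⟨b, hbb, hb0, hbJ, hbr⟩ := Nat.find_spec hex
  have hmin : ∀ X : E, X * X = 0 → X ≠ 0 → tau X ∈ J → rk b ≤ rk X := fun X h1 h3 h4 => by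
    rw [hbr]; exact Nat.find_min' hex ⟨X, h1, h3, h4, rfl⟩
  have hbG : Good G b := good_of_tau hbb (hJG hbJ)
  obtain ⟨kba, kab, kbf, kfb⟩ := hkill _ hbJ
  rw [tau_sub_one hbb] at kba kab kbf kfb
  by_cases hK : Kill G b
  · refine hb0 (hb.eq_zero_of_tau_central hbG ?_)
    refine hb.centralizer_pRes_le (mem_inf.mpr ⟨tau_mem hbG, ?_⟩)
    refine centralizer_le (hb.pRes_le_roots) ?_
    rw [centralizer_closure, mem_centralizer_iff]
    rintro _ ⟨X, hX, rfl⟩
    rw [commute_sub_one_iff, tau_sub_one hX.good.sq, tau_sub_one hbb]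
    exact (commute_of_kill_of hp hb.noCore hbG hK hX).symm
  unfold Kill at hK
  push Not at hK
  obtain ⟨P, hP, hPb⟩ := hK
  obtain ⟨a, ha, hab, hba, har, hak, hrk⟩ :=
    exists_peel_full h2 (card_ne_three hp) hbG hP hPb
  have kills : ∀ {X : E}, b * X = 0 → X * b = 0 → a * X = 0 ∧ X * a = 0 := fun {X} e1 e2 => by
    refine ⟨LinearMap.ext fun v => LinearMap.mem_ker.mp (hak ?_), LinearMap.ext fun v => ?_⟩
    · rw [LinearMap.mem_ker]; exact LinearMap.congr_fun e1 v
    · obtain ⟨w, hw⟩ := har ⟨v, rfl⟩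
      rw [Module.End.mul_apply, ← hw, LinearMap.zero_apply]
      exact LinearMap.congr_fun e2 w
  obtain ⟨haα, hαa⟩ := kills kba kab
  obtain ⟨haφ, hφa⟩ := kills kbf kfb
  obtain ⟨g, hg, hT⟩ := exists_partner_of hp hb.noCore ha
  obtain ⟨ψ₀, -, hψ₀⟩ := exists_isPair hp hT
  set Tz := (torusHom h.rel).range with hTz
  have hTzG : Tz ≤ G := by
    rintro _ ⟨c, rfl⟩
    exact torus_mem h.rel h.min_left.good h.min_right.good _
  have hfixa : ∀ z ∈ Tz, cj z a = a := by
    rintro _ ⟨c, rfl⟩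
    refine cj_torus_fixed h.rel c.ne_zero ?_ ?_
    · rw [mul_assoc, hφa, mul_zero, ← mul_assoc, haα, zero_mul]
    · rw [mul_assoc, hαa, mul_zero, ← mul_assoc, haφ, zero_mul]
  obtain ⟨ψ, hψ, hψT, -⟩ := exists_fixed_partner hp hψ₀ (A := Tz) (B := ⊥)
    (hTzG.trans le_normalizer) bot_le (coprime_card_torus h.rel) (by simp)
    (isSolvable_torus h.rel) inferInstance
    (fun z hz => by rw [hfixa z hz]; exact inCls_self ha.good)
    (fun z hz => by rw [mem_bot.mp hz, cj_one']; exact inCls_self ha.good) bot_le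
  have hψfix : ∀ z ∈ Tz, cj z ψ = ψ := fun z hz => hψ.unique hp (hψT z hz) (by
    conv_lhs => rw [← hfixa z hz, cj_mul, cj_mul, hψ.rel.afa, hfixa z hz])
  obtain ⟨c1, c2⟩ := commute_idem h.rel hp fun c hc => hψfix _ ⟨Units.mk0 c hc, rfl⟩
  have cα : α * ψ = ψ * α := commute_of_idem hp h hψ.min_right c1 c2
  have cφ : φ * ψ = ψ * φ := commute_of_idem hp h.symm hψ.min_right c2 c1
  have hmem : ∀ {α φ X : E}, IsPair G α φ → IsMin G X → α * X = X * α → tau X ∈ CCls G α :=
    fun {α φ X} h hX e => quad_mem_CCls hp h (tau_mem hX.good)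
      (by rw [IsQuad, tau_sub_one hX.good.sq, hX.good.sq])
      (by rw [cj_eq_iff_commute, val_tau hX.good.sq, add_mul, mul_add, one_mul, mul_one, e])
  have nJ : ∀ {X : E}, IsMin G X → α * X = X * α → φ * X = X * φ →
      tau X ∈ normalizer (J : Set GLV) := fun {X} hX e1 e2 =>
    Coprime.le_normalizer_inf (CosetGraph.SylowIn.le_normalizer_pCoreOf p CE |>.trans' inf_le_left)
      (CosetGraph.SylowIn.le_normalizer_pCoreOf p CF |>.trans' inf_le_right)
      (mem_inf.mpr ⟨hmem h hX e1, hmem h.symm hX e2⟩)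
  have hψJ := nJ hψ.min_right cα cφ
  have haJ := nJ ha (hαa.trans haα.symm) (hφa.trans haφ.symm)
  have hzp : IsPGroup p (zpowers (tau ψ)) := by
    rintro ⟨y, hy⟩
    obtain ⟨j, rfl⟩ := mem_zpowers_iff.mp hy
    refine ⟨1, Subtype.ext ?_⟩
    show (tau ψ ^ j) ^ p ^ 1 = 1
    rw [pow_one, ← zpow_natCast, ← zpow_mul, mul_comm, zpow_mul, zpow_natCast,
      tau_pow hψ.min_right.good.sq, ZMod.natCast_self, zero_smul, tau_zero, one_zpow]
  have hU : IsPGroup p (zpowers (tau ψ) ⊔ J : Subgroup GLV) :=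
    IsPGroup.to_sup_of_normal_right' hzp hJp (zpowers_le.mpr hψJ)
  have hψb : ψ * b * ψ = 0 := sandwich_zero hp hU hbG hψ.min_right (mem_sup_right hbJ)
    (mem_sup_left (mem_zpowers _))
  have r := hψ.rel
  have haba : a * b * a = 0 := by rw [hab, zero_mul]
  have hp1 : part1 ψ a b = 0 := by
    rw [part1, mul_assoc ψ a b, hab, ← mul_assoc (e0 ψ a * b) a ψ, mul_assoc (e0 ψ a) b a, hba]
    simp
  set b1 := part1 a ψ b with hb1
  set f0 := e0 a ψ with hf0
  have hp0 : part0 a ψ b = f0 * b * f0 := by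
    rw [part0, ← hf0]
    have x1 : a * ψ * b * (a * ψ) = 0 := by
      rw [← mul_assoc (a * ψ * b), mul_assoc (a * ψ), hba]; simp
    have x2 : ψ * a * b * (ψ * a) = 0 := by rw [mul_assoc ψ, hab]; simp
    rw [x1, x2, zero_add, zero_add]
  set b0 := f0 * b * f0 with hb0'
  have hsum : b = b1 + b0 := by
    conv_lhs => rw [← part_sum r haba hψb, hp1, hp0, add_zero]
  have hw := wt1_part1 r b
  rw [← hb1] at hw
  have ef : a * ψ * f0 = 0 := by
    rw [hf0, e0]
    simp only [mul_sub, mul_one, mul_assoc, r.aa, r.ff, r.aa', r.ff', r.afa1, r.faf1, r.afa',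
      r.faf', mul_zero, sub_zero, sub_self]
  set m := torus a ψ (-1) with hm
  have hmb : cj m b = -b1 + b0 := by
    rw [hm, cj_torus_parts r (neg_ne_zero.mpr one_ne_zero) haba hψb, hp1, hp0, ← hb1, smul_zero,
      add_zero, neg_one_smul]
  have hsq' : (-b1 + b0) * (-b1 + b0) = 0 := by rw [← hmb, cj_mul, hbb, cj_zero]
  have hsq : (b1 + b0) * (b1 + b0) = 0 := by rw [← hsum]; exact hbb
  have hA : b1 * b1 + b0 * b0 = 0 := by
    refine (smul_eq_zero.mp (?_ : (2 : ZMod p) • (b1 * b1 + b0 * b0) = 0)).resolve_left h2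
    rw [show (2 : ZMod p) • (b1 * b1 + b0 * b0) =
      (b1 + b0) * (b1 + b0) + (-b1 + b0) * (-b1 + b0) by
        simp only [add_mul, mul_add, neg_mul, mul_neg, neg_neg, two_smul]; abel, hsq, hsq', add_zero]
  have hB : b1 * b0 + b0 * b1 = 0 := by
    rw [show b1 * b0 + b0 * b1 = (b1 + b0) * (b1 + b0) - (b1 * b1 + b0 * b0) by noncomm_ring,
      hsq, hA, sub_zero]
  have z11 : b1 * b1 = 0 := by
    have e : a * ψ * (b1 * b1) = b1 * b1 := by
      have e' := Wt1.mul_mul_eq r hw hw
      rw [e']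
      simp only [← mul_assoc]
      rw [show a * ψ * a = a from r.afa]
    have := congrArg (a * ψ * ·) hA
    simp only [mul_add, mul_zero, e] at this
    rwa [hb0', show a * ψ * (f0 * b * f0 * (f0 * b * f0)) =
      a * ψ * f0 * (b * f0 * (f0 * b * f0)) by noncomm_ring, ef, zero_mul, add_zero] at this
  have z00 : b0 * b0 = 0 := by rwa [z11, zero_add] at hA
  have z10 : b1 * b0 = 0 := by
    have e1 : a * ψ * (b0 * b1) = 0 := by
      rw [hb0', show a * ψ * (f0 * b * f0 * b1) = a * ψ * f0 * (b * f0 * b1) by noncomm_ring, ef,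
        zero_mul]
    have e2 : ψ * a * b1 = 0 := by rw [mul_assoc, hw.al, mul_zero]
    have e3 : ψ * a * b0 = 0 := by
      rw [hb0', hf0, e0]
      simp only [sub_mul, mul_sub, one_mul, mul_one, mul_assoc, r.aa, r.ff, r.aa', r.ff', r.afa1,
        r.faf1, r.afa', r.faf', mul_zero, sub_zero, sub_self, zero_mul]
    have e4 : a * ψ * (b1 * b0) = b1 * b0 := by
      conv_rhs => rw [hw.eq, add_mul, mul_assoc b1, e3, mul_zero, add_zero]
      rw [← mul_assoc]
    have := congrArg (a * ψ * ·) hB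
    simpa only [mul_add, mul_zero, e1, e4, add_zero] using this
  have z01 : b0 * b1 = 0 := by rwa [z10, zero_add] at hB
  have hmJ : m ∈ normalizer (J : Set GLV) := by
    have hw' : ∀ c : ZMod p, weyl a ψ c ∈ normalizer (J : Set GLV) := fun c => by
      have hs : ∀ {X : E}, X * X = 0 → tau X ∈ normalizer (J : Set GLV) → ∀ d : ZMod p,
          tau (d • X) ∈ normalizer (J : Set GLV) := fun {X} hX hm d => by
        have : d • X = ((d.val : ℕ) : ZMod p) • X := by rw [ZMod.natCast_val, ZMod.cast_id]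
        rw [this, ← tau_pow hX]
        exact pow_mem hm _
      exact mul_mem (mul_mem (hs r.aa haJ _) (hs r.ff hψJ _)) (hs r.aa haJ _)
    exact mul_mem (hw' _) (hw' _)
  have hmbJ : tau (-b1 + b0) ∈ J := by
    rw [← hmb, ← conj_tau m hbb]; exact conj_mem hmJ hbJ
  have hb0J : tau ((2 : ZMod p) • b0) ∈ J := by
    have := mul_mem hbJ hmbJ
    rw [tau_mul hbb hsq' (by rw [hsum]; simp [add_mul, mul_add, z11, z00, z10, z01])
      (by rw [hsum]; simp [add_mul, mul_add, z11, z00, z10, z01])] at this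
    convert this using 2
    rw [hsum, two_smul]; abel
  obtain ⟨w, hw0⟩ : ∃ w, a w ≠ 0 := by
    by_contra hc; push Not at hc; exact ha.ne_zero (LinearMap.ext hc)
  have f0a : f0 * a = 0 := by
    rw [hf0, e0]
    simp only [sub_mul, one_mul, mul_assoc, r.aa, r.afa1, mul_zero, sub_zero, sub_self]
  have hb00 : b0 = 0 := by
    by_contra hne
    have h1 := hmin _ (smul_sq z00 _) (smul_ne_zero h2 hne) hb0J
    have h3 : rk ((2 : ZMod p) • b0) < rk b := by
      refine rk_lt_of_kills (f := f0) ?_ (har ⟨w, rfl⟩) hw0 (LinearMap.congr_fun f0a w)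
      rintro _ ⟨v, rfl⟩
      exact ⟨(2 : ZMod p) • b (f0 v), Submodule.smul_mem _ _ ⟨_, rfl⟩, by simp [hb0', map_smul]⟩
    omega
  have eb : b = a * ψ * b + b * (ψ * a) := by
    rw [hsum, hb00, add_zero]; exact hw.eq
  have af0 : a * f0 = 0 := by
    rw [hf0, e0]
    simp only [mul_sub, mul_one, r.aa', r.afa1, sub_self, sub_zero]
  have f0b : f0 * (b - a) = f0 * b := by rw [mul_sub, f0a, sub_zero]
  have h1 := IsMin.finrank_inf_ker f0 (LinearMap.range b)
  have h3 := IsMin.finrank_inf_ker f0 (LinearMap.range (b - a))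
  have e1 : (LinearMap.range b).map f0 = (LinearMap.range (b - a)).map f0 := by
    rw [← range_mul, ← range_mul, f0b]
  have h4 : Module.finrank (ZMod p) (LinearMap.range b ⊓ LinearMap.ker f0 : Submodule (ZMod p) V) ≤
      Module.finrank (ZMod p)
        (LinearMap.range (b - a) ⊓ LinearMap.ker f0 : Submodule (ZMod p) V) := by
    refine Submodule.finrank_mono ?_
    rintro _ ⟨⟨w, rfl⟩, hy⟩
    refine ⟨⟨f0 w, ?_⟩, hy⟩
    have hfy : f0 (b w) = 0 := hy
    have hbw : b (ψ (a w)) = 0 := by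
      have i1 : ψ * a * b = 0 := by rw [mul_assoc, hab, mul_zero]
      have i2 : a * ψ * b * (ψ * a) = 0 := by
        rw [show a * ψ * b * (ψ * a) = a * (ψ * b * ψ) * a by noncomm_ring, hψb]; simp
      have e : b * (ψ * a) = f0 * b * (ψ * a) := by
        rw [hf0, e0, show (1 - a * ψ - ψ * a) * b * (ψ * a) =
          b * (ψ * a) - a * ψ * b * (ψ * a) - ψ * a * b * (ψ * a) by noncomm_ring, i1, i2,
          zero_mul, sub_zero, sub_zero]
      have i3 : f0 * b = f0 * b * (ψ * a) := by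
        conv_lhs => rw [eb, mul_add, ← mul_assoc, show f0 * (a * ψ) = 0 by
          rw [← mul_assoc, f0a, zero_mul], zero_mul, zero_add, ← mul_assoc]
      have := LinearMap.congr_fun (e.trans i3.symm) w
      simp only [Module.End.mul_apply] at this
      rw [this, hfy]
    have hbaψ : b (a (ψ w)) = 0 := LinearMap.congr_fun hba (ψ w)
    have ha0 : a (f0 w) = 0 := LinearMap.congr_fun af0 w
    rw [LinearMap.sub_apply, ha0, sub_zero, hf0, e0]
    simp [map_sub, hbw, hbaψ]
  rw [e1] at h1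
  unfold rk at hrk
  omega

end Bad

end Cfsg.Agent.Lib.Flavell42
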