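import Cfsg.Agent.Lib.Flavell42.Reduce

/-!
Centralisers of a class, and the invariant subspace built from the fixed points of `O_p(C(E))`:
`O_p(C(E))` acts trivially on the range of the class.
-/

set_option linter.style.haveILetI false
set_option linter.unusedSimpArgs false

namespace Cfsg.Agent.Lib.Flavell42

open QuadPair Subgroup

variable {p : ℕ} [Fact p.Prime] {V : Type} [AddCommGroup V] [Module (ZMod p) V] [Finite V]

local notation "GLV" => LinearMap.GeneralLinearGroup (ZMod p) V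
local notation "E" => (V →ₗ[ZMod p] V)

variable {R G : Subgroup (LinearMap.GeneralLinearGroup (ZMod p) V)} {α φ : V →ₗ[ZMod p] V}

omit [Finite V] in
/-- The centraliser in `G` of one element. -/
def CG (G : Subgroup (LinearMap.GeneralLinearGroup (ZMod p) V)) (α : E) : Subgroup GLV where
  carrier := {g | g ∈ G ∧ cj g α = α}
  one_mem' := ⟨one_mem _, cj_one' α⟩
  mul_mem' := fun hx hy => ⟨mul_mem hx.1 hy.1, by rw [cj_comp, hy.2, hx.2]⟩
  inv_mem' := fun {x} hx => ⟨inv_mem hx.1, by
    conv_lhs => rw [← hx.2]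
    rw [cj_inv_cj]⟩

omit [Finite V] in
/-- The centraliser in `G` of a whole class. -/
def CCls (G : Subgroup (LinearMap.GeneralLinearGroup (ZMod p) V)) (α : E) : Subgroup GLV where
  carrier := {g | g ∈ G ∧ ∀ ε, InCls G α ε → cj g ε = ε}
  one_mem' := ⟨one_mem _, fun ε _ => cj_one' ε⟩
  mul_mem' := fun hx hy => ⟨mul_mem hx.1 hy.1, fun ε hε => by
    rw [cj_comp, hy.2 ε hε, hx.2 ε hε]⟩
  inv_mem' := fun {x} hx => ⟨inv_mem hx.1, fun ε hε => by
    conv_lhs => rw [← hx.2 ε hε]
    rw [cj_inv_cj]⟩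

omit [Finite V] in
theorem CCls_le_CG (hα : Good G α) : CCls G α ≤ CG G α := fun _ hg =>
  ⟨hg.1, hg.2 α (inCls_self hα)⟩

omit [Finite V] in
theorem CCls_le (α : E) : CCls G α ≤ G := fun _ hg => hg.1

omit [Finite V] in
theorem CG_le (α : E) : CG G α ≤ G := fun _ hg => hg.1

/-- An element commuting with `α` preserves its class. -/
theorem inCls_of_fix (hα : IsMin G α) {g : GLV} (hg : cj g α = α) : InCls G α (cj g α) := by
  rw [hg]; exact inCls_self hα.good

theorem mem_normalizer_CCls (hα : IsMin G α) {g : GLV} (hgG : g ∈ normalizer (G : Set GLV))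
    (hg : InCls G α (cj g α)) : g ∈ normalizer (CCls G α : Set GLV) := by
  refine mem_normalizer_of_forall (X := GLV) fun x hx => ⟨conj_mem hgG hx.1, fun ε hε => ?_⟩
  have hs := hg.sameAct hα (IsMin.cjN hα hgG).ne_zero
  have h1 : InCls G α (cj g⁻¹ ε) := by
    have := InCls.cjN (hε.trans_sameAct ⟨hs.1.symm, hs.2.symm⟩) (inv_mem hgG)
    rwa [cj_inv_cj] at this
  rw [cj_comp, cj_comp, hx.2 _ h1, cj_cj_inv]

/-- A quadratic element centralising `α` centralises its class. -/
theorem quad_mem_CCls (hp : 5 ≤ p) (h : IsPair G α φ) {t : GLV} (ht : t ∈ G) (hq : IsQuad t)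
    (hta : cj t α = α) : t ∈ CCls G α := by
  refine ⟨ht, fun ε hε => ?_⟩
  set b : E := (t : E) - 1 with hb
  have hbb : b * b = 0 := hq
  have htau : tau b = t := tau_of_val hq
  have hab : α * b = b * α := by
    have e := (cj_eq_iff_commute t α).mp hta
    rw [hb, mul_sub, sub_mul, mul_one, one_mul, e]
  have hmap : ∀ {s : GLV}, s ∈ G → cj s α = α → InCls G α (cj s ε) := fun {s} hs hsa => by
    have := hε.cj hs; rwa [hsa] at this
  have hti : cj t⁻¹ α = α := by conv_lhs => rw [← hta, cj_inv_cj]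
  have h1 := hmap ht hta
  have h2 := hmap (inv_mem ht) hti
  rw [← htau, tau_inv hbb, cj_tau (neg_sq hbb)] at h2
  rw [← htau, cj_tau hbb] at h1
  have hε' : ε * φ * α = ε ∧ α * φ * ε = ε :=
    mul_mul_eq_of_inCls h.rel.symm hε |> fun ⟨k1, k2⟩ => ⟨by rw [mul_assoc]; exact k1, k2⟩
  have hwb : ∀ w : E, b * (b * w) = 0 := fun w => by rw [← mul_assoc, hbb, zero_mul]
  have hmid : ε * b * φ * b * ε = 0 := by
    calc ε * b * φ * b * ε = ε * φ * α * b * φ * b * (α * φ * ε) := by rw [hε'.1, hε'.2]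
      _ = ε * φ * (α * b) * φ * (b * α) * φ * ε := by noncomm_ring
      _ = ε * φ * (b * α) * φ * (α * b) * φ * ε := by rw [hab]
      _ = ε * φ * b * (α * φ * α) * b * φ * ε := by noncomm_ring
      _ = ε * φ * b * (α * b) * φ * ε := by rw [h.rel.afa]; noncomm_ring
      _ = 0 := by rw [hab]; simp [mul_assoc, hwb]
  have hsub : ∀ {X Y : E}, InCls G α X → InCls G α Y → InCls G α (X - Y) := fun {X Y} hX hY => by
    rw [sub_eq_add_neg, ← neg_one_smul (ZMod p) Y]
    exact hX.add h.rel.aa (hY.smul _)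
  have hsand : ∀ X : E, InCls G α X → X * φ * X = 0 → X = 0 := fun X hX hz => by
    by_contra hne
    exact ((h.typeTwo hp).congr hX hne (inCls_self h.min_right.good) h.min_right.ne_zero).ne_zero hz
  have hbeb : b * ε * b = 0 := by
    refine hsand _ ?_ (by
      rw [show b * ε * b * φ * (b * ε * b) = b * (ε * b * φ * b * ε) * b by noncomm_ring, hmid]
      simp)
    have := hsub (InCls.add h.rel.aa (hε) (hε)) (InCls.add h.rel.aa h1 h2)
    have := this.smul (2 : ZMod p)⁻¹
    convert this using 1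
    simp only [neg_mul, mul_neg, neg_neg]
    rw [show ε + ε - (ε + (b * ε - ε * b) - b * ε * b + (ε + (-(b * ε) - -(ε * b)) - b * ε * b)) =
      (2 : ZMod p) • (b * ε * b) by module, smul_smul, inv_mul_cancel₀ (two_ne hp), one_smul]
  have hD : InCls G α (b * ε - ε * b) := by
    have := hsub h1 hε
    rwa [hbeb, sub_zero, add_sub_cancel_left] at this
  have e1 : ε * b * φ = ε * φ * b * (α * φ) := by
    conv_lhs => rw [← hε'.1]
    rw [mul_assoc _ α b, hab]; noncomm_ring
  have hee : b * (ε * φ * ε) * b = 0 := by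
    refine hsand _ ?_ ?_
    · have k1 := hmap ht hta
      have hsq := sq_mem_cls hp h hε
      have j1 : InCls G α (cj t (ε * φ * ε)) := by have := hsq.cj ht; rwa [hta] at this
      have j2 : InCls G α (cj t⁻¹ (ε * φ * ε)) := by have := hsq.cj (inv_mem ht); rwa [hti] at this
      rw [← htau, cj_tau hbb] at j1
      rw [← htau, tau_inv hbb, cj_tau (neg_sq hbb)] at j2
      have := (hsub (InCls.add h.rel.aa hsq hsq) (InCls.add h.rel.aa j1 j2)).smul (2 : ZMod p)⁻¹
      convert this using 1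
      simp only [neg_mul, mul_neg, neg_neg]
      set Y := ε * φ * ε
      rw [show Y + Y - (Y + (b * Y - Y * b) - b * Y * b + (Y + (-(b * Y) - -(Y * b)) - b * Y * b)) =
        (2 : ZMod p) • (b * Y * b) by module, smul_smul, inv_mul_cancel₀ (two_ne hp), one_smul]
    · rw [show b * (ε * φ * ε) * b * φ * (b * (ε * φ * ε) * b) =
        b * (ε * φ) * (ε * b * φ * b * ε) * (φ * ε) * b by noncomm_ring, hmid]
      simp
  have e2 : b * ε * φ * b * ε = 0 := by
    have k : φ * b * ε = φ * α * b * φ * ε := by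
      conv_lhs => rw [← hε'.2]
      calc φ * b * (α * φ * ε) = φ * (b * α) * φ * ε := by noncomm_ring
        _ = _ := by rw [← hab]; noncomm_ring
    calc b * ε * φ * b * ε = b * ε * (φ * b * ε) := by noncomm_ring
      _ = b * (ε * φ * α) * b * φ * ε := by rw [k]; noncomm_ring
      _ = 0 := by rw [hε'.1, hbeb]; simp
  have e3 : ε * b * φ * ε * b = 0 := by
    calc ε * b * φ * ε * b = ε * φ * b * (α * φ * ε) * b := by rw [e1]; noncomm_ring
      _ = ε * φ * (b * ε * b) := by rw [hε'.2]; noncomm_ring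
      _ = 0 := by rw [hbeb, mul_zero]
  have hDz : b * ε - ε * b = 0 := hsand _ hD (by
    calc (b * ε - ε * b) * φ * (b * ε - ε * b)
        = b * ε * φ * b * ε - b * (ε * φ * ε) * b - ε * b * φ * b * ε + ε * b * φ * ε * b := by
          noncomm_ring
      _ = 0 := by rw [e2, hee, hmid, e3]; simp)
  rw [← htau, cj_tau hbb, hbeb, hDz]
  simp

theorem CCls_lt (hp : 5 ≤ p) (h : IsPair G α φ) : CCls G α < G := by
  refine lt_of_le_of_ne (CCls_le α) fun e => ?_
  have hm : tau φ ∈ CCls G α := by rw [e]; exact tau_mem h.min_right.good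
  have := (mul_tau_comm_iff h.rel.aa).mpr ((CCls_le_CG h.min_left.good hm).2)
  rw [commute_sub_one_iff, tau_sub_one h.rel.aa, tau_sub_one h.rel.ff] at this
  haveI hnt : Nontrivial E := nontrivial_of_ne α 0 h.min_left.ne_zero
  exact h.rel.left_ne h.min_left.ne_zero this.symm

/-- The fixed points of `O_p(C(E))` in the range of `α`. -/
def fixW (G : Subgroup (LinearMap.GeneralLinearGroup (ZMod p) V)) (α : E) : Submodule (ZMod p) V :=
  LinearMap.range α ⊓
    ⨅ u ∈ pCoreOf p (CCls G α), LinearMap.ker (((u : GLV) : E) - 1)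

theorem mem_fixW {w : V} : w ∈ fixW G α ↔
    w ∈ LinearMap.range α ∧ ∀ u ∈ pCoreOf p (CCls G α), (u : E) w = w := by
  simp [fixW, Submodule.mem_iInf, sub_eq_zero]

theorem fixW_invariant (hα : IsMin G α) {g : GLV} (hgG : g ∈ G) (hg : InCls G α (cj g α)) {w : V}
    (hw : w ∈ fixW G α) : (g : E) w ∈ fixW G α := by
  obtain ⟨hr, hu⟩ := mem_fixW.mp hw
  refine mem_fixW.mpr ⟨?_, fun u hu' => ?_⟩
  · rw [← (cj_range_ker_eq hα (le_normalizer hgG) hg).1]
    exact ⟨w, hr, rfl⟩
  · have h1 : g⁻¹ * u * g ∈ pCoreOf p (CCls G α) := by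
      simpa using conj_mem (normalizer_le_normalizer_pCoreOf
        (inv_mem (mem_normalizer_CCls hα (le_normalizer hgG) hg))) hu'
    have := congrArg (g : E) (hu _ h1)
    rwa [Units.val_mul, Units.val_mul, Module.End.mul_apply, Module.End.mul_apply,
      units_apply_inv] at this

/-- The subspace grown from `fixW`. -/
def growU (G : Subgroup (LinearMap.GeneralLinearGroup (ZMod p) V)) (α φ : E) :
    Submodule (ZMod p) V :=
  fixW G α ⊔ (fixW G α).map φ ⊔
    ⨆ q ∈ Q1 G α, (fixW G α).map (((((q : GLV) : E) - 1) * φ : E))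

theorem map_phi_fix (hp : 5 ≤ p) (h : IsPair G α φ) {q : GLV} (hq : q ∈ Q1 G α) {w : V}
    (hw : w ∈ fixW G α) : α (φ (((q : E) - 1) (φ w))) ∈ fixW G α := by
  set P := cj q φ with hP
  have hPm : IsMin G P := h.min_right.cj (Q1_le hq)
  have hPP := hPm.good.sq
  have h2 := two_ne hp
  obtain ⟨s, hs, hne⟩ : ∃ s : ZMod p, s ≠ 0 ∧ φ * cj (tau (s • P)) α * φ ≠ 0 := by
    by_contra hc
    push Not at hc
    set A := φ * (P * α - α * P) * φ with hA
    set B := φ * (P * α * P) * φ with hB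
    have key : ∀ s : ZMod p, s ≠ 0 → φ + s • A - (s * s) • B = 0 := fun s hs => by
      have := hc s hs
      rw [cj_tau (smul_sq hPP s)] at this
      rw [← this]
      simp only [hA, hB, mul_add, add_mul, mul_sub, sub_mul, smul_mul_assoc, mul_smul_comm,
        smul_smul, smul_sub, h.rel.faf]
    have a1 := key 1 one_ne_zero
    have a2 := key (-1) (neg_ne_zero.mpr one_ne_zero)
    have a3 := key 2 h2
    have a4 := key (-2) (neg_ne_zero.mpr h2)
    have : (2 * 3 : ZMod p) • φ = 0 := by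
      calc (2 * 3 : ZMod p) • φ
          = (4 : ZMod p) • ((φ + (1 : ZMod p) • A - ((1 : ZMod p) * 1) • B) +
              (φ + (-1 : ZMod p) • A - ((-1 : ZMod p) * -1) • B)) -
            ((φ + (2 : ZMod p) • A - ((2 : ZMod p) * 2) • B) +
              (φ + (-2 : ZMod p) • A - ((-2 : ZMod p) * -2) • B)) := by module
        _ = 0 := by rw [a1, a2, a3, a4]; simp
    exact h.min_right.ne_zero ((smul_eq_zero.mp this).resolve_left (mul_ne_zero h2 (three_ne hp)))
  have hsP : tau (s • P) ∈ G := tau_smul_mem hPm.good s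
  have hT : TypeTwo G φ (cj (tau (s • P)) α) :=
    typeTwo_of_ne h2 (card_ne_three hp) h.min_right (h.min_left.cj hsP) hne
  obtain ⟨α'', hc, hα''⟩ := exists_isPair hp hT
  obtain ⟨q', hq', hqa⟩ := exists_Q1_conj hp h.symm hα''
  set n := q'⁻¹ * tau (s • P) with hn
  have hnG : n ∈ G := mul_mem (inv_mem (Q1_le hq')) hsP
  have hncls : InCls G α (cj n α) := by
    rw [hn, cj_comp]
    have := (hc.symm hT.min_right hα''.min_right.ne_zero).cj (inv_mem (Q1_le hq'))
    rwa [← hqa, cj_inv_cj] at this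
  have hmem := fixW_invariant h.min_left hnG hncls hw
  obtain ⟨hwr, -⟩ := mem_fixW.mp hw
  have hαφ : ∀ x ∈ LinearMap.range α, α (φ x) = x := by
    rintro _ ⟨u, rfl⟩
    rw [← Module.End.mul_apply, ← Module.End.mul_apply, h.rel.afa]
  have hqw : ((q⁻¹ : GLV) : E) w = w := by
    obtain ⟨u, hu⟩ := hwr
    rw [← hu, ← Module.End.mul_apply, (inv_mem hq : q⁻¹ ∈ Q1 G α).2.1]
  have hzero : α (φ (φ w)) = 0 := by
    rw [← Module.End.mul_apply φ φ, h.rel.ff, LinearMap.zero_apply, map_zero]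
  have e : (n : E) w = w + s • α (φ (((q : E) - 1) (φ w))) := by
    rw [← hαφ _ (mem_fixW.mp hmem).1, hn, Units.val_mul, Module.End.mul_apply,
      ← Module.End.mul_apply φ, (inv_mem hq' : q'⁻¹ ∈ Q1 G φ).2.2.1, val_tau (smul_sq hPP s),
      LinearMap.add_apply, Module.End.one_apply, LinearMap.smul_apply, hP, cj, Module.End.mul_apply,
      Module.End.mul_apply, hqw, map_add, map_add, map_smul, map_smul, hαφ w hwr,
      LinearMap.sub_apply, Module.End.one_apply, map_sub, map_sub, hzero, sub_zero]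
  rw [e] at hmem
  have h3 : s • α (φ (((q : E) - 1) (φ w))) ∈ fixW G α := by
    simpa using sub_mem hmem hw
  have h4 := (fixW G α).smul_mem s⁻¹ h3
  rwa [smul_smul, inv_mul_cancel₀ hs, one_smul] at h4

theorem growU_inv_CG (hp : 5 ≤ p) (h : IsPair G α φ) : Inv (CG G α) (growU G α φ) := by
  intro g hg
  have hcls := inCls_of_fix h.min_left hg.2
  have hgN : g ∈ normalizer (G : Set GLV) := le_normalizer hg.1
  have hw' : ∀ w ∈ fixW G α, (g : E) w ∈ fixW G α := fun w hw => fixW_invariant h.min_left hg.1 hcls hw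
  have hpair : IsPair G α (cj g φ) := by
    have := h.cjN hgN; rwa [hg.2] at this
  obtain ⟨q₀, hq₀, hP⟩ := exists_Q1_conj hp h hpair
  have hgphi : ∀ w ∈ fixW G α, (g : E) (φ w) = φ ((g : E) w) + ((q₀ : E) - 1) (φ ((g : E) w)) := by
    intro w hw
    have e1 : (g : E) (φ w) = (cj g φ : E) ((g : E) w) := by
      simp [cj, units_inv_apply]
    obtain ⟨u, hu⟩ := (mem_fixW.mp (hw' w hw)).1
    rw [e1, ← hP, cj, Module.End.mul_apply, Module.End.mul_apply, ← hu,
      ← Module.End.mul_apply ((q₀⁻¹ : GLV) : E) α, (inv_mem hq₀ : q₀⁻¹ ∈ Q1 G α).2.1,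
      LinearMap.sub_apply, Module.End.one_apply]
    abel
  have hle : (growU G α φ).map (g : E) ≤ growU G α φ := by
    rw [growU, Submodule.map_sup, Submodule.map_sup]
    refine sup_le (sup_le ?_ ?_) ?_
    · rintro _ ⟨w, hw, rfl⟩
      exact Submodule.mem_sup_left (Submodule.mem_sup_left (hw' w hw))
    · rintro _ ⟨_, ⟨w, hw, rfl⟩, rfl⟩
      rw [hgphi w hw]
      exact add_mem (Submodule.mem_sup_left (Submodule.mem_sup_right ⟨_, hw' w hw, rfl⟩))
        (Submodule.mem_sup_right (Submodule.mem_iSup_of_mem q₀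
          (Submodule.mem_iSup_of_mem hq₀ ⟨_, hw' w hw, rfl⟩)))
    · simp only [Submodule.map_iSup]
      refine iSup₂_le fun q hq => ?_
      rintro _ ⟨_, ⟨w, hw, rfl⟩, rfl⟩
      have hq'' : g * q * g⁻¹ * q₀ ∈ Q1 G α :=
        mul_mem (conj_mem (mem_normalizer_Q1 h.min_left hgN hcls) hq) hq₀
      have e : (g : E) ((((q : E) - 1) * φ : E) w) =
          ((((g * q * g⁻¹ * q₀ : GLV) : E) - 1) * φ : E) ((g : E) w) -
            ((((q₀ : GLV) : E) - 1) * φ : E) ((g : E) w) := by
        have e2 := hgphi w hw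
        rw [LinearMap.sub_apply, Module.End.one_apply, add_sub_cancel] at e2
        simp only [Module.End.mul_apply, LinearMap.sub_apply, Module.End.one_apply, Units.val_mul,
          map_sub]
        rw [← e2, units_inv_apply]
        abel
      rw [e]
      exact sub_mem (Submodule.mem_sup_right (Submodule.mem_iSup_of_mem _
          (Submodule.mem_iSup_of_mem hq'' ⟨_, hw' w hw, rfl⟩)))
        (Submodule.mem_sup_right (Submodule.mem_iSup_of_mem q₀
          (Submodule.mem_iSup_of_mem hq₀ ⟨_, hw' w hw, rfl⟩)))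
  exact fun v hv => hle ⟨v, hv, rfl⟩

theorem growU_phi (hp : 5 ≤ p) (h : IsPair G α φ) {v : V} (hv : v ∈ growU G α φ) :
    φ v ∈ growU G α φ ∧ α v ∈ fixW G α := by
  have hle : growU G α φ ≤ (growU G α φ).comap φ ⊓ (fixW G α).comap α := by
    refine sup_le (sup_le ?_ ?_) (iSup₂_le fun q hq => ?_)
    · intro w hw
      refine ⟨Submodule.mem_sup_left (Submodule.mem_sup_right ⟨w, hw, rfl⟩), ?_⟩
      obtain ⟨u, hu⟩ := (mem_fixW.mp hw).1
      show α w ∈ fixW G α
      rw [← hu, ← Module.End.mul_apply, h.rel.aa]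
      exact zero_mem _
    · rintro _ ⟨w, hw, rfl⟩
      refine ⟨?_, ?_⟩
      · show φ (φ w) ∈ growU G α φ
        rw [← Module.End.mul_apply, h.rel.ff]
        exact zero_mem _
      · show α (φ w) ∈ fixW G α
        obtain ⟨u, hu⟩ := (mem_fixW.mp hw).1
        rw [← hu, ← Module.End.mul_apply, ← Module.End.mul_apply, h.rel.afa, hu]
        exact hw
    · rintro _ ⟨w, hw, rfl⟩
      refine ⟨?_, ?_⟩
      · show φ ((((q : E) - 1) * φ : E) w) ∈ growU G α φ
        have e : φ ((((q : E) - 1) * φ : E) w) = φ (α (φ (((q : E) - 1) (φ w)))) := by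
          have := LinearMap.congr_fun h.rel.faf (((q : E) - 1) (φ w))
          simpa [Module.End.mul_apply] using this.symm
        rw [e]
        exact Submodule.mem_sup_left (Submodule.mem_sup_right ⟨_, map_phi_fix hp h hq hw, rfl⟩)
      · show α ((((q : E) - 1) * φ : E) w) ∈ fixW G α
        rw [Module.End.mul_apply, ← Module.End.mul_apply, mul_sub, mul_one, hq.2.2.1, sub_self]
        exact zero_mem _
  exact hle hv

theorem CG_neg_conj (h : IsPair G α φ) : CG G φ ≤
    (CG G α).map (MulAut.conj (weyl α φ 1)).toMonoidHom := by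
  intro g hg
  have hw : weyl α φ 1 ∈ G := mul_mem (mul_mem (tau_smul_mem h.min_left.good _)
    (tau_smul_mem h.min_right.good _)) (tau_smul_mem h.min_left.good _)
  refine ⟨(weyl α φ 1)⁻¹ * g * weyl α φ 1, ⟨mul_mem (mul_mem (inv_mem hw) hg.1) hw, ?_⟩, ?_⟩
  · rw [cj_comp, cj_comp, cj_weyl_left h.rel, cj_neg, hg.2, ← cj_weyl_left h.rel, cj_inv_cj]
  · show weyl α φ 1 * ((weyl α φ 1)⁻¹ * g * weyl α φ 1) * (weyl α φ 1)⁻¹ = g
    group

/-- The roots lie in `⟨C(α), C(φ)⟩`. -/
theorem root_mem_join (hp : 5 ≤ p) (h : IsPair G α φ) {a : E} (ha : IsMin G a) :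
    tau a ∈ CG G α ⊔ CG G φ := by
  have h2 := two_ne hp
  have hk3 := card_ne_three hp
  have hfix : ∀ {X b : E}, IsMin G X → IsMin G b → X * b = b * X → tau b ∈ CG G X :=
    fun {X b} hX hb hc => ⟨tau_mem hb.good, by
      rw [cj_eq_iff_commute, val_tau hb.good.sq, add_mul, mul_add, one_mul, mul_one, hc]⟩
  by_cases hc : α * a = a * α
  · exact mem_sup_left (hfix h.min_left ha hc)
  rcases type_cases h2 hk3 h.min_left ha with ⟨z1, z2⟩ | ⟨r1, r2⟩
  swap
  · obtain ⟨ψ, hcl, hψ⟩ := exists_isPair hp ⟨h.min_left, ha, r1, r2⟩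
    obtain ⟨q, hq, hqa⟩ := exists_Q1_conj hp h hψ
    have hqC : q ∈ CG G α := ⟨Q1_le hq, cj_of_mem_Q1 hq⟩
    have h1 : InCls G φ (cj q⁻¹ a) := by
      have := (hcl.symm ha hψ.min_right.ne_zero).cj (inv_mem (Q1_le hq))
      rwa [← hqa, cj_inv_cj] at this
    have h3 : φ * cj q⁻¹ a = cj q⁻¹ a * φ := by
      rw [h1.mul_eq_zero h.rel.ff (inCls_self h.min_right.good),
        (inCls_self h.min_right.good).mul_eq_zero h.rel.ff h1]
    have h4 := hfix h.min_right (ha.cj (inv_mem (Q1_le hq))) h3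
    have e : tau a = q * tau (cj q⁻¹ a) * q⁻¹ := by
      rw [conj_tau q (by rw [cj_mul, ha.good.sq, cj_zero]), cj_cj_inv]
    rw [e]
    exact mul_mem (mul_mem (mem_sup_left hqC) (mem_sup_right h4)) (inv_mem (mem_sup_left hqC))
  have hs : Skew G α a := ⟨h.min_left, ha, z1, z2, hc⟩
  set L := α * a - a * α with hL
  have hLm : IsMin G L := hs.isMin_comm h2
  obtain ⟨k1, k2⟩ := hs.mul_comm_eq_zero
  rw [← hL] at k1 k2
  obtain ⟨k3, k4⟩ := hs.symm.mul_comm_eq_zero
  have haL : L * a = a * L := by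
    have e1 : L * a = 0 := by
      have := k3; rw [show a * α - α * a = -L by rw [hL]; abel, neg_mul, neg_eq_zero] at this
      exact this
    have e2 : a * L = 0 := by
      have := k4; rw [show a * α - α * a = -L by rw [hL]; abel, mul_neg, neg_eq_zero] at this
      exact this
    rw [e1, e2]
  by_cases hz : φ * L * φ = 0
  swap
  · obtain ⟨α'', hcl, hα''⟩ := exists_isPair hp (typeTwo_of_ne h2 hk3 h.min_right hLm hz)
    obtain ⟨q, hq, hqa⟩ := exists_Q1_conj hp h.symm hα''
    have hqC : q ∈ CG G φ := ⟨Q1_le hq, cj_of_mem_Q1 hq⟩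
    have h1 : α'' * a = a * α'' := commute_cls_left h2 hk3 hLm ha haL hcl
    have h3 : α * cj q⁻¹ a = cj q⁻¹ a * α := by
      have : cj q⁻¹ α'' = α := by rw [← hqa, cj_inv_cj]
      rw [← this, cj_mul, cj_mul, h1]
    have h4 := hfix h.min_left (ha.cj (inv_mem (Q1_le hq))) h3
    have e : tau a = q * tau (cj q⁻¹ a) * q⁻¹ := by
      rw [conj_tau q (by rw [cj_mul, ha.good.sq, cj_zero]), cj_cj_inv]
    rw [e]
    exact mul_mem (mul_mem (mem_sup_right hqC) (mem_sup_left h4)) (inv_mem (mem_sup_right hqC))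
  have hLw : Wt1 α φ L := by
    refine ⟨k2, k1, hz, ?_⟩
    have e : α * φ * L + L * (φ * α) = L + α * (φ * L * φ) * α := by
      rw [hL]
      have r := h.rel
      have hz' : α * (a * α) = 0 := by rw [← mul_assoc, z1]
      have hz'' : ∀ w, α * (a * (α * w)) = 0 := fun w => by
        rw [← mul_assoc, ← mul_assoc, z1, zero_mul]
      simp only [mul_sub, sub_mul, mul_assoc, r.aa, r.aa', r.afa1, r.afa', hz', hz'', mul_zero,
        sub_zero]
      abel
    rw [e, hz]; simp
  have hsk : Skew G φ L := ⟨h.min_right, hLm, hz, mul_mul_zero_symm h2 h.min_right hLm hz,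
    hLw.ne_commute h.rel hLm.ne_zero⟩
  set M := φ * L - L * φ with hM
  have hMm : IsMin G M := hsk.isMin_comm h2
  obtain ⟨m1, m2⟩ := hsk.mul_comm_eq_zero
  rw [← hM] at m1 m2
  have hMC : tau M ∈ CG G φ := hfix h.min_right hMm (by rw [m1, m2])
  have hMa : α * M - M * α = L := hLw.bracket_bracket h.rel
  have haMa : α * M * α = 0 := by
    rw [hM, mul_sub, sub_mul, show α * (φ * L) * α = α * φ * (L * α) by noncomm_ring,
      show α * (L * φ) * α = α * L * (φ * α) by noncomm_ring, k1, k2]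
    simp
  have hMaM : M * α * M = 0 := mul_mul_zero_symm h2 h.min_left hMm haMa
  have f1 : cj (tau M) α = α - L := by
    rw [cj_tau hMm.good.sq, hMaM, ← hMa]; abel
  have f2 : cj (tau a) α = α - L := by
    rw [cj_tau ha.good.sq, z2, hL]; abel
  have hg : (tau M)⁻¹ * tau a ∈ CG G α :=
    ⟨mul_mem (inv_mem (tau_mem hMm.good)) (tau_mem ha.good), by
      rw [cj_comp, f2, ← f1, cj_inv_cj]⟩
  have := mul_mem (mem_sup_right (S := CG G α) hMC) (mem_sup_left (T := CG G φ) hg)
  rwa [mul_inv_cancel_left] at this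

/-- The elements mapping a subspace onto itself. -/
def stabSub (U : Submodule (ZMod p) V) : Subgroup GLV where
  carrier := {g | U.map (g : E) = U}
  one_mem' := by simp [Module.End.one_eq_id]
  mul_mem' := fun {x y} hx hy => by
    show U.map ((x * y : GLV) : E) = U
    rw [Units.val_mul, Module.End.mul_eq_comp, Submodule.map_comp]
    exact (congrArg (Submodule.map (x : E)) hy).trans hx
  inv_mem' := fun {x} hx => by
    show U.map ((x⁻¹ : GLV) : E) = U
    conv_lhs => rw [← show U.map (x : E) = U from hx]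
    rw [← Submodule.map_comp, ← Module.End.mul_eq_comp, Units.inv_mul, Module.End.one_eq_id,
      Submodule.map_id]

theorem le_stabSub {U : Submodule (ZMod p) V} {H : Subgroup GLV} :
    H ≤ stabSub U ↔ Inv H U := by
  constructor
  · intro hle g hg v hv
    rw [← show U.map (g : E) = U from hle hg]
    exact ⟨v, hv, rfl⟩
  · intro hI g hg
    refine Submodule.eq_of_le_of_finrank_le (fun y ⟨x, hx, e⟩ => e ▸ hI g hg x hx) ?_
    exact le_of_eq (Submodule.equivMapOfInjective _ (fun a b e => by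
      rw [← units_inv_apply g a, e, units_inv_apply]) U).finrank_eq

namespace Bad

theorem compl_group {R G : Subgroup (LinearMap.GeneralLinearGroup (ZMod p) V)} (hb : Bad R G) :
    Compl G :=
  compl_of_normal (compl_of_irr hb.irr) le_sup_left (sup_le le_normalizer hb.act.norm)

/-- `O_p(C(E))` is trivial on the range of the class. -/
theorem core_mul_eq (hb : Bad R G) (h : IsPair G α φ) :
    ∀ u ∈ pCoreOf p (CCls G α), ((u : E) - 1) * α = 0 := by
  have hp := hb.hp
  set U := growU G α φ with hU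
  set Γ := CG G α ⊔ CG G φ with hΓ
  have htα : ∀ c : ZMod p, tau (c • α) ∈ CG G α := fun c =>
    ⟨tau_smul_mem h.min_left.good c, by
      rw [cj_eq_iff_commute, val_tau (smul_sq h.rel.aa c), add_mul, mul_add, one_mul, mul_one,
        smul_mul_assoc, mul_smul_comm]⟩
  have hA : CG G α ≤ stabSub U := le_stabSub.mpr (growU_inv_CG hp h)
  have hw : weyl α φ 1 ∈ stabSub U := by
    refine mul_mem (mul_mem (hA (htα _)) ?_) (hA (htα _))
    show U.map ((tau (-(1 : ZMod p)⁻¹ • φ) : GLV) : E) = U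
    refine Submodule.eq_of_le_of_finrank_le ?_ ?_
    · rintro _ ⟨v, hv, rfl⟩
      rw [val_tau (smul_sq h.rel.ff _), LinearMap.add_apply, Module.End.one_apply,
        LinearMap.smul_apply]
      exact add_mem hv (U.smul_mem _ (growU_phi hp h hv).1)
    · exact le_of_eq (Submodule.equivMapOfInjective _ (fun a b e => by
        rw [← units_inv_apply (tau (-(1 : ZMod p)⁻¹ • φ)) a, e, units_inv_apply]) U).finrank_eq
  have hΓU : Γ ≤ stabSub U := by
    refine sup_le hA ((CG_neg_conj h).trans ?_)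
    rintro _ ⟨x, hx, rfl⟩
    exact mul_mem (mul_mem hw (hA hx)) (inv_mem hw)
  set Nr := closure {τ : GLV | ∃ X : E, IsMin G X ∧ τ = tau X} with hNr
  have hNG : Nr ≤ G := (closure_le _).mpr fun τ ⟨X, hX, e⟩ => e ▸ tau_mem hX.good
  have hNn : ∀ S : Subgroup GLV, S ≤ normalizer (G : Set GLV) → S ≤ normalizer (Nr : Set GLV) := by
    intro S hS g hg
    refine mem_normalizer_of_forall (X := GLV) fun x hx => ?_
    have hle : Nr ≤ Nr.comap (MulAut.conj g).toMonoidHom := by
      refine (closure_le _).mpr ?_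
      rintro _ ⟨X, hX, rfl⟩
      exact subset_closure ⟨cj g X, IsMin.cjN hX (hS hg), conj_tau g hX.good.sq⟩
    exact hle hx
  have hO : pRes p G ≤ Nr := hb.pRes_le_of_noncentral hNG (hNn G le_normalizer) (hNn R hb.act.norm)
    fun hle => hb.tau_ne_central h.min_left (hle (subset_closure ⟨α, h.min_left, rfl⟩))
  have hNΓ : Nr ≤ Γ := by
    refine (closure_le _).mpr ?_
    rintro _ ⟨X, hX, rfl⟩
    exact root_mem_join hp h hX
  have hC : Compl Γ := compl_of_pResidue hb.compl_group pRes_le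
    (le_normalizer.trans normalizer_le_normalizer_pRes) (fun g hg => exists_pow_mem_pRes hg)
    (hO.trans hNΓ) (sup_le (CG_le α) (CG_le φ))
  obtain ⟨U', hU', hcompl⟩ := hC U (le_stabSub.mp hΓU)
  have hαU' : ∀ v ∈ U', α v ∈ U' := fun v hv => by
    have := hU' _ (mem_sup_left (htα 1)) v hv
    rw [one_smul, val_tau h.rel.aa, LinearMap.add_apply, Module.End.one_apply] at this
    simpa using sub_mem this hv
  have hzero : U'.map α = ⊥ := by
    by_contra hne
    have hcomm : ∀ u ∈ pCoreOf p (CCls G α), u ∈ CG G α := fun u hu =>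
      CCls_le_CG h.min_left.good (CosetGraph.SylowIn.pCoreOf_le p _ hu)
    have hinv : Inv (pCoreOf p (CCls G α)) (U'.map α) := by
      rintro u hu _ ⟨v, hv, rfl⟩
      refine ⟨(u : E) v, hU' _ (mem_sup_left (hcomm u hu)) v hv, ?_⟩
      rw [← Module.End.mul_apply, ← Module.End.mul_apply,
        (cj_eq_iff_commute u α).mp (hcomm u hu).2]
    obtain ⟨w, ⟨v, hv, rfl⟩, hw0, hfix⟩ :=
      exists_fixed (CosetGraph.SylowIn.isPGroup_pCoreOf p _) hinv hne
    have h1 : α v ∈ U := Submodule.mem_sup_left (Submodule.mem_sup_left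
      (mem_fixW.mpr ⟨⟨v, rfl⟩, hfix⟩))
    exact hw0 ((Submodule.disjoint_def.mp hcompl.disjoint) _ h1 (hαU' v hv))
  intro u hu
  refine LinearMap.ext fun v => ?_
  obtain ⟨x, hx, y, hy, rfl⟩ := Submodule.mem_sup.mp
    (show v ∈ U ⊔ U' by rw [hcompl.sup_eq_top]; trivial)
  have hy0 : α y = 0 := by
    have : α y ∈ U'.map α := ⟨y, hy, rfl⟩
    rwa [hzero, Submodule.mem_bot] at this
  have := (mem_fixW.mp (growU_phi hp h hx).2).2 u hu
  rw [Module.End.mul_apply, map_add, hy0, add_zero, LinearMap.sub_apply, Module.End.one_apply, this,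
    sub_self, LinearMap.zero_apply]

end Bad

end Cfsg.Agent.Lib.Flavell42
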