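import Cfsg.Agent.Lib.Flavell42.Semisimple
import Mathlib

/-!
A cubic element in a completely reducible group preserves the alternating forms preserved by the
rest of the group.
-/

namespace Cfsg.Agent.Lib.Flavell42

open Subgroup

set_option linter.style.haveILetI false

variable {k : Type*} [Field k] {V : Type*} [AddCommGroup V] [Module k V] [FiniteDimensional k V]
  {W : Type*} [AddCommGroup W] [Module k W]

local notation "GLV" => LinearMap.GeneralLinearGroup k V

/-- An element `u` with `u³ = 0` is not `[c, u] - 1`. -/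
theorem eq_zero_of_bracket {A : Type*} [Ring A] [Module k A] (h2 : (2 : k) ≠ 0) (h3 : (3 : k) ≠ 0)
    {c u : A} (hu : u * (u * u) = 0) (h : c * u - u * c = 1 + u) : (1 : A) = 0 := by
  have e3 : (3 : k) • (u * u) = 0 := by
    have : c * (u * (u * u)) - u * (u * u) * c =
        (c * u - u * c) * (u * u) + u * (c * u - u * c) * u + u * u * (c * u - u * c) := by
      noncomm_ring
    rw [hu, h] at this
    have e : (1 + u) * (u * u) + u * (1 + u) * u + u * u * (1 + u) =
        (3 : k) • (u * u) + (3 : k) • (u * (u * u)) := by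
      simp only [add_mul, mul_add, one_mul, mul_one, mul_assoc]
      module
    rw [e, hu, smul_zero, add_zero, mul_zero, zero_mul, sub_zero] at this
    exact this.symm
  have huu : u * u = 0 := (smul_eq_zero.mp e3).resolve_left h3
  have e2 : (2 : k) • u = 0 := by
    have : c * (u * u) - u * u * c = (c * u - u * c) * u + u * (c * u - u * c) := by noncomm_ring
    rw [huu, h] at this
    simp only [add_mul, mul_add, one_mul, mul_one, huu, mul_zero, zero_mul, sub_zero,
      add_zero] at this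
    rw [two_smul]; exact this.symm
  have hu0 : u = 0 := (smul_eq_zero.mp e2).resolve_left h2
  rw [hu0, mul_zero, zero_mul, sub_zero, add_zero] at h
  exact h.symm

omit [FiniteDimensional k V] in
/-- The elements preserving a form, as a subgroup. -/
def formStab (φ₀ : V →ₗ[k] V →ₗ[k] k) : Subgroup (LinearMap.GeneralLinearGroup k V) where
  carrier := {g | ∀ x y, φ₀ ((g : V →ₗ[k] V) x) ((g : V →ₗ[k] V) y) = φ₀ x y}
  one_mem' := fun x y => by simp
  mul_mem' := fun {a b} ha hb x y => by simp [ha _ _, hb x y]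
  inv_mem' := fun {a} ha x y => by
    conv_rhs => rw [← units_apply_inv a x, ← units_apply_inv a y, ha]

/-- The forms fixed by the group and a cubic element. -/
theorem cubic_fixed {O : Subgroup (LinearMap.GeneralLinearGroup k V)}
    {m : LinearMap.GeneralLinearGroup k V} (h2 : (2 : k) ≠ 0) (h3 : (3 : k) ≠ 0)
    (hL : Compl (O ⊔ zpowers m)) (hm : ((m : V →ₗ[k] V) - 1) ^ 3 = 0)
    (c : V →ₗ[k] V →ₗ[k] W) (halt : ∀ x, c x x = 0)
    (hO : ∀ g ∈ O, ∀ x y, c ((g : V →ₗ[k] V) x) ((g : V →ₗ[k] V) y) = c x y)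
    (σ : W →ₗ[k] W) (hσ : ∃ N : ℕ, (σ - 1) ^ N = 0)
    (hmc : ∀ x y, c ((m : V →ₗ[k] V) x) ((m : V →ₗ[k] V) y) = σ (c x y)) :
    ∀ x y, c ((m : V →ₗ[k] V) x) ((m : V →ₗ[k] V) y) = c x y := by
  classical
  by_contra hne
  push Not at hne
  obtain ⟨x0, y0, hxy⟩ := hne
  obtain ⟨N, hN⟩ := hσ
  have hex : ∃ j : ℕ, ∀ x y, ((σ - 1) ^ j) (c x y) = 0 := ⟨N, fun x y => by rw [hN]; rfl⟩
  obtain ⟨j, hj⟩ : ∃ j, Nat.find hex = j + 2 := by
    refine ⟨Nat.find hex - 2, ?_⟩
    have h0 : ¬ ∀ x y, ((σ - 1) ^ (0 : ℕ)) (c x y) = 0 := fun hall => hxy (by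
      have e1 := hall x0 y0
      have e2 := hall ((m : V →ₗ[k] V) x0) ((m : V →ₗ[k] V) y0)
      rw [pow_zero, Module.End.one_apply] at e1 e2
      rw [e1, e2])
    have h1 : ¬ ∀ x y, ((σ - 1) ^ (1 : ℕ)) (c x y) = 0 := fun hall => hxy (by
      have e1 := hall x0 y0
      rwa [pow_one, LinearMap.sub_apply, Module.End.one_apply, sub_eq_zero, ← hmc] at e1)
    have a1 : Nat.find hex ≠ 0 := fun e => h0 (e ▸ Nat.find_spec hex)
    have a2 : Nat.find hex ≠ 1 := fun e => h1 (e ▸ Nat.find_spec hex)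
    omega
  have htop : ∀ x y, ((σ - 1) ^ (j + 2)) (c x y) = 0 := hj ▸ Nat.find_spec hex
  have hlow : ¬ ∀ x y, ((σ - 1) ^ (j + 1)) (c x y) = 0 := Nat.find_min hex (by omega)
  push Not at hlow
  obtain ⟨x1, y1, hd⟩ := hlow
  obtain ⟨l, hl⟩ : ∃ l : Module.Dual k W, l (((σ - 1) ^ (j + 1)) (c x1 y1)) ≠ 0 := by
    by_contra hc
    push Not at hc
    exact hd ((Module.forall_dual_apply_eq_zero_iff k _).mp hc)
  set φ₀ : V →ₗ[k] V →ₗ[k] k := c.compr₂ (l ∘ₗ ((σ - 1) ^ (j + 1))) with hφ₀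
  set ψ : V →ₗ[k] V →ₗ[k] k := c.compr₂ (l ∘ₗ ((σ - 1) ^ j)) with hψ
  have hstep : ∀ (i : ℕ) (w : W), ((σ - 1) ^ i) (σ w) =
      ((σ - 1) ^ i) w + ((σ - 1) ^ (i + 1)) w := fun i w => by
    rw [pow_succ, Module.End.mul_apply, LinearMap.sub_apply, Module.End.one_apply, map_sub]
    abel
  have hm0 : ∀ x y, φ₀ ((m : V →ₗ[k] V) x) ((m : V →ₗ[k] V) y) = φ₀ x y := fun x y => by
    simp only [hφ₀, LinearMap.compr₂_apply, LinearMap.comp_apply, hmc, hstep, htop, add_zero]
  have hmψ : ∀ x y, ψ ((m : V →ₗ[k] V) x) ((m : V →ₗ[k] V) y) = ψ x y + φ₀ x y := fun x y => by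
    simp only [hψ, hφ₀, LinearMap.compr₂_apply, LinearMap.comp_apply, hmc, hstep, map_add]
  have hskew : ∀ x y, φ₀ x y = -φ₀ y x := fun x y => by
    have hz : ∀ z, φ₀ z z = 0 := fun z => by
      simp only [hφ₀, LinearMap.compr₂_apply, LinearMap.comp_apply, halt, map_zero]
    have e := hz (x + y)
    simp only [map_add, LinearMap.add_apply, hz, zero_add, add_zero] at e
    exact eq_neg_of_add_eq_zero_right e
  have hLst : O ⊔ zpowers m ≤ formStab φ₀ := by
    refine sup_le (fun g hg x y => ?_) (zpowers_le.mpr hm0)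
    simp only [hφ₀, LinearMap.compr₂_apply, hO g hg]
  set K := LinearMap.ker φ₀ with hK
  have hKinv : Inv (O ⊔ zpowers m) K := by
    intro g hg v hv
    rw [hK, LinearMap.mem_ker] at hv ⊢
    refine LinearMap.ext fun y => ?_
    rw [← units_apply_inv g y, hLst hg, hv]
    rfl
  obtain ⟨U, hU, hc⟩ := hL K hKinv
  have hmU : ∀ v ∈ U, (m : V →ₗ[k] V) v ∈ U := hU m (mem_sup_right (mem_zpowers m))
  let β : U →ₗ[k] Module.Dual k U := φ₀.compl₁₂ U.subtype U.subtype
  have hβ : ∀ u v : U, β u v = φ₀ u.1 v.1 := fun u v => rfl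
  have hβi : Function.Injective β := (injective_iff_map_eq_zero β).mpr fun u hu => by
    refine Subtype.ext ((Submodule.disjoint_def.mp hc.disjoint) _ ?_ u.2)
    rw [hK, LinearMap.mem_ker]
    refine LinearMap.ext fun v => ?_
    obtain ⟨a, ha, b, hb, rfl⟩ := Submodule.mem_sup.mp
      (show v ∈ K ⊔ U by rw [hc.sup_eq_top]; trivial)
    have h1 : φ₀ u.1 b = 0 := LinearMap.congr_fun hu ⟨b, hb⟩
    have h4 : φ₀ u.1 a = 0 := by
      rw [hskew, LinearMap.mem_ker.mp ha]; simp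
    rw [map_add, h1, h4, add_zero]; rfl
  let eβ : U ≃ₗ[k] Module.Dual k U :=
    LinearEquiv.ofInjectiveOfFinrankEq β hβi Subspace.dual_finrank_eq.symm
  let C : U →ₗ[k] U := eβ.symm.toLinearMap ∘ₗ ψ.compl₁₂ U.subtype U.subtype
  have hC : ∀ u v : U, φ₀ (C u).1 v.1 = ψ u.1 v.1 := fun u v => by
    have e : β (C u) = ψ.compl₁₂ U.subtype U.subtype u := eβ.apply_symm_apply _
    exact LinearMap.congr_fun e v
  let M : U →ₗ[k] U := (m : V →ₗ[k] V).restrict hmU
  have hMsurj : Function.Surjective M := LinearMap.injective_iff_surjective.mp fun a b e =>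
    Subtype.ext (by
      rw [← units_inv_apply m a.1, ← units_inv_apply m b.1]
      exact congrArg _ (congrArg Subtype.val e))
  have hCM : C * M = M * C + M := by
    refine LinearMap.ext fun u => hβi (LinearMap.ext fun v => ?_)
    obtain ⟨v, rfl⟩ := hMsurj v
    rw [hβ, hβ, Module.End.mul_apply, hC]
    have e : ((M * C + M) u).1 = (m : V →ₗ[k] V) ((C u).1 + u.1) := by
      rw [map_add]; rfl
    rw [e]
    show ψ ((m : V →ₗ[k] V) u.1) ((m : V →ₗ[k] V) v.1) = φ₀ _ ((m : V →ₗ[k] V) v.1)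
    rw [hmψ, hm0, map_add, LinearMap.add_apply, hC]
  have hu3 : (M - 1) * ((M - 1) * (M - 1)) = 0 := LinearMap.ext fun u => Subtype.ext (by
    have := LinearMap.congr_fun hm u.1
    rw [pow_succ', pow_two] at this
    exact this)
  have h10 := eq_zero_of_bracket (k := k) h2 h3 (c := C) hu3 (by
    rw [mul_sub, sub_mul, hCM, mul_one, one_mul]; abel)
  refine hl ?_
  show φ₀ x1 y1 = 0
  obtain ⟨a, ha, b, hb, rfl⟩ := Submodule.mem_sup.mp
    (show x1 ∈ K ⊔ U by rw [hc.sup_eq_top]; trivial)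
  have hb0 : (⟨b, hb⟩ : U) = 0 := by
    have := LinearMap.congr_fun h10 ⟨b, hb⟩
    rwa [Module.End.one_apply, LinearMap.zero_apply] at this
  rw [show b = 0 from congrArg Subtype.val hb0, add_zero, LinearMap.mem_ker.mp ha]
  rfl

end Cfsg.Agent.Lib.Flavell42
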