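import Cfsg.Agent.Lib.Flavell42.PInv
import Cfsg.Agent.Lib.Puig.Basic

/-!
A pair of characteristic subgroups `eFun P ≤ oFun P` of a finite `p`-group `P`, obtained by
iterating an inclusion-reversing operation built from quadratic and cubic commutator conditions.
-/

namespace Cfsg.Agent.Lib.Flavell42

open Subgroup
open scoped commutatorElement

set_option linter.style.haveILetI false

variable {X Y : Type*} [Group X] [Group Y] {T U U' P P' A : Subgroup X}

/-- The admissible subgroups `T` for `U`. -/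
def Adm (T U : Subgroup X) : Prop :=
  (∀ A ≤ U, (∀ a ∈ A, ∀ b ∈ A, Commute a b) → T ≤ normalizer (A : Set X) →
      ∀ a ∈ A, ∀ t ∈ T, ∀ t' ∈ T, Commute ⁅a, t⁆ t') ∧
  (∀ M ≤ U, (∀ a ∈ M, ∀ b ∈ M, ∀ c ∈ M, Commute ⁅a, b⁆ c) → T ≤ normalizer (M : Set X) →
      ∀ m ∈ M, ∀ t ∈ T, ∀ t' ∈ T, ∀ c ∈ M, Commute ⁅⁅m, t⁆, t'⁆ c)

theorem Adm.antitone (h : Adm T U) (hU : U' ≤ U) : Adm T U' :=
  ⟨fun A hA => h.1 A (hA.trans hU), fun M hM => h.2 M (hM.trans hU)⟩

/-- The subgroup generated by the admissible subgroups of `P`. -/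
def fOp (P U : Subgroup X) : Subgroup X := ⨆ (T : Subgroup X) (_ : T ≤ P ∧ Adm T U), T

theorem le_fOp (hTP : T ≤ P) (h : Adm T U) : T ≤ fOp P U :=
  le_iSup₂ (f := fun (T : Subgroup X) (_ : T ≤ P ∧ Adm T U) => T) T ⟨hTP, h⟩

theorem fOp_le_iff {S : Subgroup X} :
    fOp P U ≤ S ↔ ∀ T, T ≤ P → Adm T U → T ≤ S := by
  simp only [fOp, iSup_le_iff, and_imp]

theorem fOp_le : fOp P U ≤ P := fOp_le_iff.mpr fun _ h _ => h

theorem fOp_antitone (hU : U' ≤ U) : fOp P U ≤ fOp P U' :=
  fOp_le_iff.mpr fun _ hT h => le_fOp hT (h.antitone hU)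

theorem fOp_mono (hP : P' ≤ P) : fOp P' U ≤ fOp P U :=
  fOp_le_iff.mpr fun _ hT h => le_fOp (hT.trans hP) h

theorem fOp_eq_of_le (hP : P' ≤ P) (h : fOp P U ≤ P') : fOp P' U = fOp P U :=
  le_antisymm (fOp_mono hP) (fOp_le_iff.mpr fun _ hT hA => le_fOp ((le_fOp hT hA).trans h) hA)

/-- Abelian subgroups normalised by `U` are admissible for it. -/
theorem adm_of_abelian (hA : ∀ a ∈ A, ∀ b ∈ A, Commute a b)
    (hn : U ≤ normalizer (A : Set X)) : Adm A U := by
  have key : ∀ m ∈ U, ∀ t ∈ A, ⁅m, t⁆ ∈ A := fun m hm t ht => by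
    rw [commutatorElement_def]
    exact mul_mem (conj_mem (hn hm) ht) (inv_mem ht)
  refine ⟨fun B hB _ _ a ha t ht t' ht' => hA _ (key a (hB ha) t ht) _ ht', ?_⟩
  intro M hM _ _ m hm t ht t' ht' c _
  have : ⁅⁅m, t⁆, t'⁆ = 1 :=
    commutatorElement_eq_one_iff_mul_comm.mpr (hA _ (key m (hM hm) t ht) _ ht')
  rw [this]
  exact Commute.one_left c

variable {j : X →* Y}

theorem Adm.map (hj : Function.Injective j) (h : Adm T U) : Adm (T.map j) (U.map j) := by
  have hn : ∀ {A : Subgroup Y}, A ≤ U.map j → T.map j ≤ normalizer (A : Set Y) →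
      A.comap j ≤ U ∧ T ≤ normalizer ((A.comap j : Subgroup X) : Set X) := fun {A} hA hTA => by
    refine ⟨fun a ha => (mem_map_iff_mem hj).mp (hA ha), fun t ht => mem_normalizer_iff.mpr
      fun x => ?_⟩
    simpa using mem_normalizer_iff.mp (hTA (mem_map_of_mem j ht)) (j x)
  constructor
  · rintro A hA hab hTA a ha _ ⟨t, ht, rfl⟩ _ ⟨t', ht', rfl⟩
    obtain ⟨a, -, rfl⟩ := hA ha
    obtain ⟨h1, h2⟩ := hn hA hTA
    rw [← map_commutatorElement]
    refine (h.1 _ h1 (fun b hb c hc => hj ?_) h2 a ha t ht t' ht').map j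
    simpa using (hab _ hb _ hc).eq
  · rintro M hM hcl hTM m hm _ ⟨t, ht, rfl⟩ _ ⟨t', ht', rfl⟩ c hc
    obtain ⟨m, -, rfl⟩ := hM hm
    obtain ⟨c, -, rfl⟩ := hM hc
    obtain ⟨h1, h2⟩ := hn hM hTM
    rw [← map_commutatorElement, ← map_commutatorElement]
    refine (h.2 _ h1 (fun x hx y hy z hz => hj ?_) h2 m hm t ht t' ht' c hc).map j
    simpa [map_commutatorElement] using (hcl _ hx _ hy _ hz).eq

theorem Adm.of_map (hj : Function.Injective j) (h : Adm (T.map j) (U.map j)) : Adm T U := by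
  have hn : ∀ {A : Subgroup X}, T ≤ normalizer (A : Set X) →
      T.map j ≤ normalizer ((A.map j : Subgroup Y) : Set Y) := fun {A} hTA =>
    (map_mono hTA).trans (le_normalizer_map j)
  constructor
  · intro A hA hab hTA a ha t ht t' ht'
    refine hj ?_
    have := (h.1 (A.map j) (map_mono hA) ?_ (hn hTA) _ (mem_map_of_mem j ha) _
      (mem_map_of_mem j ht) _ (mem_map_of_mem j ht')).eq
    · simpa [map_commutatorElement] using this
    · rintro _ ⟨b, hb, rfl⟩ _ ⟨c, hc, rfl⟩
      exact (hab b hb c hc).map j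
  · intro M hM hcl hTM m hm t ht t' ht' c hc
    refine hj ?_
    have := (h.2 (M.map j) (map_mono hM) ?_ (hn hTM) _ (mem_map_of_mem j hm) _
      (mem_map_of_mem j ht) _ (mem_map_of_mem j ht') _ (mem_map_of_mem j hc)).eq
    · simpa [map_commutatorElement] using this
    · rintro _ ⟨x, hx, rfl⟩ _ ⟨y, hy, rfl⟩ _ ⟨z, hz, rfl⟩
      rw [← map_commutatorElement]
      exact (hcl x hx y hy z hz).map j

theorem map_fOp (hj : Function.Injective j) (P U : Subgroup X) :
    (fOp P U).map j = fOp (P.map j) (U.map j) := by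
  refine le_antisymm ?_ ?_
  · rw [map_le_iff_le_comap]
    exact fOp_le_iff.mpr fun T hT h => map_le_iff_le_comap.mp (le_fOp (map_mono hT) (h.map hj))
  · refine fOp_le_iff.mpr fun T hT h => ?_
    have e : (T.comap j).map j = T := by
      rw [map_comap_eq, inf_eq_right.mpr (hT.trans (map_le_range j P))]
    rw [← e] at h ⊢
    refine map_mono (le_fOp (fun x hx => (mem_map_iff_mem hj).mp (hT hx)) (h.of_map hj))

/-- The iteration. -/
def iterOp (P : Subgroup X) : ℕ → Subgroup X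
  | 0 => P
  | n + 1 => fOp P (iterOp P n)

/-- The limit of the odd terms. -/
def eFun (P : Subgroup X) : Subgroup X := ⨆ n, iterOp P (2 * n + 1)

/-- The limit of the even terms. -/
def oFun (P : Subgroup X) : Subgroup X := fOp P (eFun P)

theorem map_iterOp (hj : Function.Injective j) (P : Subgroup X) :
    ∀ n, (iterOp P n).map j = iterOp (P.map j) n
  | 0 => rfl
  | n + 1 => by rw [iterOp, iterOp, map_fOp hj, map_iterOp hj P n]

theorem map_eFun (j : X →* Y) (hj : Function.Injective j) (P : Subgroup X) :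
    (eFun P).map j = eFun (P.map j) := by
  simp only [eFun, Subgroup.map_iSup, map_iterOp hj]

theorem iterOp_le : ∀ n, iterOp P n ≤ P
  | 0 => le_rfl
  | _ + 1 => fOp_le

theorem eFun_le : eFun P ≤ P := iSup_le fun _ => iterOp_le _

theorem iterOp_step : ∀ n, iterOp P (2 * n + 1) ≤ iterOp P (2 * n + 3) ∧
    iterOp P (2 * n + 2) ≤ iterOp P (2 * n)
  | 0 => ⟨fOp_antitone (iterOp_le 2), iterOp_le 2⟩
  | n + 1 =>
    have h : iterOp P (2 * n + 4) ≤ iterOp P (2 * n + 2) := fOp_antitone (iterOp_step n).1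
    ⟨show iterOp P (2 * n + 3) ≤ iterOp P (2 * n + 5) from fOp_antitone h, h⟩

theorem iterOp_odd_mono : Monotone fun n => iterOp P (2 * n + 1) :=
  monotone_nat_of_le_succ fun n => (iterOp_step n).1

variable [Finite X]

theorem exists_eFun_eq : ∃ N, ∀ n, N ≤ n → eFun P = iterOp P (2 * n + 1) := by
  obtain ⟨N, hN⟩ := WellFoundedGT.monotone_chain_condition
    (⟨_, iterOp_odd_mono (P := P)⟩ : ℕ →o Subgroup X)
  refine ⟨N, fun n hn => ?_⟩
  refine le_antisymm (iSup_le fun m => ?_) (le_iSup (fun k => iterOp P (2 * k + 1)) n)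
  exact (iterOp_odd_mono (le_max_left m n)).trans
    (le_of_eq ((hN _ (hn.trans (le_max_right m n))).symm.trans (hN n hn)))

theorem fOp_oFun : fOp P (oFun P) = eFun P := by
  obtain ⟨N, hN⟩ := exists_eFun_eq (P := P)
  rw [oFun, hN N le_rfl]
  exact ((hN (N + 1) (Nat.le_succ N)).symm.trans (hN N le_rfl))

omit [Finite X] in
theorem oFun_le_iterOp (n : ℕ) : oFun P ≤ iterOp P (2 * n) := by
  cases n with
  | zero => exact fOp_le
  | succ n => exact fOp_antitone (le_iSup (fun k => iterOp P (2 * k + 1)) n)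

theorem eFun_le_oFun : eFun P ≤ oFun P := by
  obtain ⟨N, hN⟩ := exists_eFun_eq (P := P)
  have key : ∀ m, iterOp P (2 * m + 1) ≤ iterOp P (2 * m + 2) := by
    intro m
    induction m with
    | zero => exact fOp_antitone (iterOp_le 1)
    | succ m ih => exact fOp_antitone (fOp_antitone ih)
  have h1 := hN N le_rfl
  rw [oFun, h1]
  exact key N

omit [Finite X] in
/-- Abelian normal subgroups lie in `eFun`. -/
theorem le_eFun_of_abelian (hAP : A ≤ P) (hA : IsMulCommutative A)
    (hn : P ≤ normalizer (A : Set X)) : A ≤ eFun P := by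
  refine le_trans ?_ (le_iSup (fun k => iterOp P (2 * k + 1)) 0)
  exact le_fOp hAP (adm_of_abelian (fun a ha b hb =>
    congrArg Subtype.val (hA.is_comm.comm ⟨a, ha⟩ ⟨b, hb⟩)) hn)

/-- If `oFun P` lies in `P'` then both groups have the same limits. -/
theorem eFun_eq_of_oFun_le (hP : P' ≤ P) (h : oFun P ≤ P') :
    eFun P' = eFun P ∧ oFun P' = oFun P := by
  have hodd : ∀ {U : Subgroup X}, oFun P ≤ U → fOp P' U ≤ eFun P := fun {U} hU => by
    rw [← fOp_oFun]
    exact (fOp_mono hP).trans (fOp_antitone hU)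
  have hup : ∀ n, oFun P ≤ iterOp P' (2 * n) := by
    intro n
    induction n with
    | zero => exact h
    | succ n ih =>
      show oFun P ≤ fOp P' (iterOp P' (2 * n + 1))
      exact (le_of_eq (fOp_eq_of_le hP h).symm).trans (fOp_antitone (hodd ih))
  have hlow : ∀ n, iterOp P' (2 * n) ≤ iterOp P (2 * n) := by
    intro n
    induction n with
    | zero => exact hP
    | succ n ih =>
      refine (fOp_mono hP).trans (fOp_antitone ?_)
      show fOp P (iterOp P (2 * n)) ≤ fOp P' (iterOp P' (2 * n))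
      have hle : fOp P (iterOp P (2 * n)) ≤ P' :=
        (le_iSup (fun k => iterOp P (2 * k + 1)) n).trans (eFun_le_oFun.trans h)
      rw [← fOp_eq_of_le hP hle]
      exact fOp_antitone ih
  have he : eFun P' = eFun P := by
    refine le_antisymm (iSup_le fun n => hodd (hup n)) (iSup_le fun n => ?_)
    refine le_trans ?_ (le_iSup (fun k => iterOp P' (2 * k + 1)) n)
    have hle : iterOp P (2 * n + 1) ≤ P' :=
      (le_iSup (fun k => iterOp P (2 * k + 1)) n).trans (eFun_le_oFun.trans h)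
    show fOp P (iterOp P (2 * n)) ≤ fOp P' (iterOp P' (2 * n))
    rw [← fOp_eq_of_le hP hle]
    exact fOp_antitone (hlow n)
  exact ⟨he, by rw [oFun, he]; exact fOp_eq_of_le hP h⟩

variable {p : ℕ} [Fact p.Prime]

omit [Finite X] in
/-- An element normalising `P` normalises `eFun P`. -/
theorem normalizer_le_normalizer_eFun :
    normalizer (P : Set X) ≤ normalizer (eFun P : Set X) := fun g hg => by
  rw [mem_normalizer_iff_map_conj_eq]
  rw [map_eFun _ (MulAut.conj g).injective, mem_normalizer_iff_map_conj_eq.mp hg]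

/-- In a `p`-group, `eFun` contains its centraliser. -/
theorem centralizer_inf_le_eFun (hP : IsPGroup p P) :
    P ⊓ centralizer (eFun P : Set X) ≤ eFun P := by
  haveI := hP.isNilpotent
  obtain ⟨A, hAn, hAc, hA⟩ := Puig.Basic.exists_normal_self_centralizing P
  have hn : P ≤ normalizer (A.map P.subtype : Set X) := fun g hg => by
    refine mem_normalizer_of_forall ?_
    rintro _ ⟨a, ha, rfl⟩
    exact ⟨⟨g, hg⟩ * a * ⟨g, hg⟩⁻¹, hAn.conj_mem a ha _, rfl⟩
  have hAe : A.map P.subtype ≤ eFun P := le_eFun_of_abelian (map_subtype_le A) inferInstance hn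
  rintro x ⟨hxP, hxc⟩
  refine hAe ⟨⟨x, hxP⟩, hA.le ?_, rfl⟩
  exact mem_centralizer_iff.mpr fun a ha =>
    Subtype.ext ((mem_centralizer_iff.mp hxc) _ (hAe ⟨a, ha, rfl⟩))

end Cfsg.Agent.Lib.Flavell42
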