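import Cfsg.Agent.Lib.Flavell42.Stab
import Cfsg.Agent.Lib.Flavell42.Cubic

/-!
A minimal normal section `Y/A` above a central subgroup `A` is admissible for `oFun`.
-/

namespace Cfsg.Agent.Lib.Flavell42

open Subgroup
open scoped commutatorElement

set_option linter.style.haveILetI false

variable {X : Type*} [Group X] {p : ℕ} {A B C R G Y : Subgroup X}

theorem comm_mul_right_central {x a b : X} (h : Commute ⁅x, b⁆ a) :
    ⁅x, a * b⁆ = ⁅x, a⁆ * ⁅x, b⁆ := by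
  rw [show ⁅x, a * b⁆ = ⁅x, a⁆ * (a * ⁅x, b⁆ * a⁻¹) by simp only [commutatorElement_def]; group,
    ← h.eq, mul_inv_cancel_right]

theorem comm_mul_left_central {x a b : X} (h : Commute ⁅b, x⁆ a) (h' : Commute ⁅b, x⁆ ⁅a, x⁆) :
    ⁅a * b, x⁆ = ⁅a, x⁆ * ⁅b, x⁆ := by
  rw [show ⁅a * b, x⁆ = (a * ⁅b, x⁆ * a⁻¹) * ⁅a, x⁆ by simp only [commutatorElement_def]; group,
    ← h.eq, mul_inv_cancel_right, h'.eq]

variable [Finite X] [Fact p.Prime]

/-- The subgroup generated by the commutators of `Y`. -/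
def commGen (Y : Subgroup X) : Subgroup X := closure {z | ∃ x ∈ Y, ∃ y ∈ Y, ⁅x, y⁆ = z}

/-- The hypotheses on a minimal normal section above `A`. -/
structure IsStep (p : ℕ) (R G A Y : Subgroup X) : Prop where
  le : Y ≤ pCoreOf p G
  norm : G ⊔ R ≤ normalizer (Y : Set X)
  normA : G ⊔ R ≤ normalizer (A : Set X)
  lt : A < Y
  cent : ∀ a ∈ A, ∀ x ∈ Y, Commute a x
  comm : ∀ q ∈ pCoreOf p G, ∀ x ∈ Y, ⁅q, x⁆ ∈ A
  min : ∀ Z : Subgroup X, G ⊔ R ≤ normalizer (Z : Set X) → A ≤ Z → Z ≤ Y → Z = A ∨ Z = Y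

theorem IsStep.comm' (hs : IsStep p R G A Y) {x y : X} (hx : x ∈ Y) (hy : y ∈ Y) : ⁅x, y⁆ ∈ A :=
  hs.comm x (hs.le hx) y hy

theorem IsStep.pow_memA (hs : IsStep p R G A Y) {x : X} (hx : x ∈ Y) : x ^ p ∈ A := by
  have hlt : powGen p Y A < Y :=
    powGen_lt ((CosetGraph.SylowIn.isPGroup_pCoreOf p G).to_le hs.le) hs.lt
  have := (hs.min (powGen p Y A) (fun g hg => normalizer_powGen (hs.norm hg) (hs.normA hg))
    le_sup_left (powGen_le hs.lt.le)).resolve_right hlt.ne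
  exact this.le (pow_mem_powGen hx)

theorem IsStep.exists_irr (hs : IsStep p R G A Y) :
    ∃ Sc : SecRep p Y A (G ⊔ R), Irr (Sc.ρ.range) := by
  obtain ⟨Sc⟩ := exists_secRep hs.lt.le (fun a ha => hs.pow_memA ha)
    (fun a ha b hb => hs.comm' ha hb) hs.norm hs.normA
  refine ⟨Sc, ?_, fun W hW => ?_⟩
  · obtain ⟨x, hxY, hxA⟩ := SetLike.exists_of_lt hs.lt
    exact nontrivial_of_ne (Sc.π x) 0 fun e => hxA ((Sc.eq_zero x hxY).mp e)
  let Z : Subgroup X :=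
    { carrier := {x | x ∈ Y ∧ Sc.π x ∈ W}
      one_mem' := ⟨one_mem _, by rw [Sc.map_one]; exact zero_mem _⟩
      mul_mem' := fun hx hy => ⟨mul_mem hx.1 hy.1, by
        rw [Sc.map_mul _ hx.1 _ hy.1]; exact add_mem hx.2 hy.2⟩
      inv_mem' := fun hx => ⟨inv_mem hx.1, by rw [Sc.map_inv hx.1]; exact neg_mem hx.2⟩ }
  have hZn : G ⊔ R ≤ normalizer (Z : Set X) := fun g hg => mem_normalizer_of_forall fun x hx =>
    ⟨conj_mem (hs.norm hg) hx.1, by
      rw [Sc.equiv ⟨g, hg⟩ x hx.1]; exact hW _ ⟨⟨g, hg⟩, rfl⟩ _ hx.2⟩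
  have hAZ : A ≤ Z := fun a ha => ⟨hs.lt.le ha, by
    rw [(Sc.eq_zero a (hs.lt.le ha)).mpr ha]
    exact zero_mem _⟩
  rcases hs.min Z hZn hAZ (fun x hx => hx.1) with e | e
  · left
    rw [Submodule.eq_bot_iff]
    intro w hw
    obtain ⟨x, hx, rfl⟩ := Sc.surj w
    exact (Sc.eq_zero x hx).mpr (e.le ⟨hx, hw⟩)
  · right
    refine Submodule.eq_top_iff'.mpr fun w => ?_
    obtain ⟨x, hx, rfl⟩ := Sc.surj w
    exact (e.ge hx).2

theorem pCoreOf_map_rho_eq_bot {n : ℕ} {L : Subgroup X}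
    {ρ : L →* LinearMap.GeneralLinearGroup (ZMod p) (Fin n → ZMod p)} (hirr : Irr ρ.range)
    {G' : Subgroup L} (hn : G'.Normal) : pCoreOf p (G'.map ρ) = ⊥ := by
  refine eq_bot_of_irr hirr (CosetGraph.SylowIn.isPGroup_pCoreOf p _) ?_
  rintro _ ⟨l, rfl⟩
  refine normalizer_le_normalizer_pCoreOf (mem_normalizer_of_forall ?_)
  rintro _ ⟨z, hz, rfl⟩
  exact ⟨l * z * l⁻¹, hn.conj_mem z hz l, by rw [map_mul, map_mul, map_inv]⟩

theorem normal_subgroupOf_sup (h : Act R G) : (G.subgroupOf (G ⊔ R)).Normal :=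
  (normal_subgroupOf_iff_le_normalizer le_sup_left).mpr (sup_le le_normalizer h.norm)

/-- A step is admissible for `oFun`. -/
theorem IsStep.adm (hp : 5 ≤ p) (h : Act R G) (hs : IsStep p R G A Y)
    (hOA : pRes p G ≤ centralizer (A : Set X)) {U : Subgroup X} (hU : U ≤ pInv p R G) :
    Adm Y U := by
  obtain ⟨Sc, hirr⟩ := hs.exists_irr
  have hact := h.subgroupOf (le_sup_left : G ≤ (G ⊔ R)) (le_sup_right : R ≤ (G ⊔ R))
  haveI hnG := normal_subgroupOf_sup h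
  have hbot := pCoreOf_map_rho_eq_bot hirr hnG
  constructor
  · intro M hM hMc hYM b hb x hx x' hx'
    have hbP := hU (hM hb)
    set l : ↥(G ⊔ R) := ⟨b, mem_sup_left (pInv_le hbP)⟩ with hl
    have hq : ∀ y ∈ Y, ⁅(l : X), ⁅(l : X), y⁆⁆ ∈ A := fun y hy => by
      have hby : ⁅b, y⁆ ∈ M := by
        rw [show ⁅b, y⁆ = b * (y * b⁻¹ * y⁻¹) by simp only [commutatorElement_def]; group]
        exact mul_mem hb (conj_mem (hYM hy) (inv_mem hb))
      have : ⁅b, ⁅b, y⁆⁆ = 1 :=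
        commutatorElement_eq_one_iff_mul_comm.mpr (hMc _ hb _ hby).eq
      show ⁅b, ⁅b, y⁆⁆ ∈ A
      rw [this]; exact one_mem _
    have h1 : Sc.ρ l ∈ pCoreOf p ((G.subgroupOf (G ⊔ R)).map Sc.ρ) :=
      quad_mem_pCoreOf hp (hact.map Sc.ρ)
        (map_pInv_le hact Sc.ρ ⟨l, mem_pInv_subgroupOf h le_sup_left le_sup_right hbP, rfl⟩)
        (Sc.quad_of l hq)
    rw [hbot, mem_bot] at h1
    exact hs.cent _ ((Sc.eq_one_iff l).mp h1 x hx) _ hx'
  intro M hM hcl hYM m₀ hm₀ x hx x' hx' m hm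
  set Q := pCoreOf p G with hQdef
  set A1 := commGen Y with hA1
  have hA1A : A1 ≤ A := (closure_le _).mpr (by rintro _ ⟨u, hu, v, hv, rfl⟩; exact hs.comm' hu hv)
  have hAY : ∀ {a}, a ∈ A → ∀ {u}, u ∈ Y → Commute a u := fun ha _ hu => hs.cent _ ha _ hu
  have hA1c : ∀ a ∈ A1, ∀ b ∈ A1, ⁅a, b⁆ ∈ (⊥ : Subgroup X) := fun a ha b hb => mem_bot.mpr
    (commutatorElement_eq_one_iff_mul_comm.mpr (hAY (hA1A ha) (hs.lt.le (hA1A hb))).eq)
  have hA1n : G ⊔ R ≤ normalizer (A1 : Set X) := fun g hg => by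
    refine mem_normalizer_of_forall fun y hy => ?_
    have hle : A1 ≤ A1.comap (MulAut.conj g).toMonoidHom := (closure_le _).mpr (by
      rintro _ ⟨u, hu, v, hv, rfl⟩
      show MulAut.conj g ⁅u, v⁆ ∈ A1
      rw [map_commutatorElement]
      exact subset_closure ⟨_, conj_mem (hs.norm hg) hu, _, conj_mem (hs.norm hg) hv, rfl⟩)
    exact hle hy
  have hA1p : ∀ a ∈ A1, a ^ p ∈ (⊥ : Subgroup X) := by
    intro a ha
    rw [mem_bot]
    induction ha using closure_induction with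
    | mem z hz =>
      obtain ⟨u, hu, v, hv, rfl⟩ := hz
      have e : ∀ i : ℕ, ⁅u ^ i, v⁆ = ⁅u, v⁆ ^ i := fun i => by
        induction i with
        | zero => simp
        | succ i ih =>
          rw [pow_succ', pow_succ', comm_mul_left_central
            (hAY (hs.comm' (pow_mem hu i) hv) hu)
            (hAY (hs.comm' (pow_mem hu i) hv) (hs.lt.le (hs.comm' hu hv))), ih]
      rw [← e, commutatorElement_eq_one_iff_mul_comm]
      exact (hAY (hs.pow_memA hu) hv).eq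
    | one => exact one_pow p
    | mul a b ha hb iha ihb =>
      rw [(hAY (hA1A ha) (hs.lt.le (hA1A hb))).mul_pow, iha, ihb, one_mul]
    | inv a _ iha => rw [inv_pow, iha, inv_one]
  have hb : G ⊔ R ≤ normalizer ((⊥ : Subgroup X) : Set X) := by rw [normalizer_eq_top]; exact le_top
  obtain ⟨S1⟩ := exists_secRep bot_le hA1p hA1c hA1n hb
  choose s hsY hsπ using Sc.surj
  have hgen : ∀ u v, u ∈ Y → v ∈ Y → ⁅u, v⁆ ∈ A1 := fun u v hu hv =>
    subset_closure ⟨u, hu, v, hv, rfl⟩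
  have hcong : ∀ u v u' v', u ∈ Y → v ∈ Y → u' ∈ Y → v' ∈ Y → Sc.π u = Sc.π u' →
      Sc.π v = Sc.π v' → S1.π ⁅u, v⁆ = S1.π ⁅u', v'⁆ := by
    intro u v u' v' hu hv hu' hv' e e'
    have key : ∀ {a b : X}, a ∈ Y → b ∈ Y → Sc.π a = Sc.π b → a⁻¹ * b ∈ A := fun {a b} ha hb e => by
      rw [← Sc.eq_zero _ (mul_mem (inv_mem ha) hb), Sc.map_mul _ (inv_mem ha) _ hb, Sc.map_inv ha, e,
        neg_add_cancel]
    have r1 : ⁅u', v⁆ = ⁅u, v⁆ := by
      have z : ⁅u⁻¹ * u', v⁆ = 1 :=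
        commutatorElement_eq_one_iff_mul_comm.mpr (hAY (key hu hu' e) hv).eq
      have := comm_mul_left_central (x := v) (a := u) (b := u⁻¹ * u')
        (by rw [z]; exact Commute.one_left _) (by rw [z]; exact Commute.one_left _)
      rwa [mul_inv_cancel_left, z, mul_one] at this
    have r2 : ⁅u', v'⁆ = ⁅u', v⁆ := by
      have z : ⁅u', v⁻¹ * v'⁆ = 1 :=
        commutatorElement_eq_one_iff_mul_comm.mpr (hAY (key hv hv' e') hu').symm.eq
      have := comm_mul_right_central (x := u') (a := v) (b := v⁻¹ * v')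
        (by rw [z]; exact Commute.one_left _)
      rwa [mul_inv_cancel_left, z, mul_one] at this
    rw [r2, r1]
  let f : (Fin Sc.n → ZMod p) → (Fin Sc.n → ZMod p) → (Fin S1.n → ZMod p) :=
    fun v w => S1.π ⁅s v, s w⁆
  have hf : ∀ u v, u ∈ Y → v ∈ Y → f (Sc.π u) (Sc.π v) = S1.π ⁅u, v⁆ := fun u v hu hv =>
    hcong _ _ _ _ (hsY _) (hsY _) hu hv (hsπ _) (hsπ _)
  have hfl : ∀ v v' w, f (v + v') w = f v w + f v' w := fun v v' w => by
    rw [← hsπ v, ← hsπ v', ← hsπ w, ← Sc.map_mul _ (hsY v) _ (hsY v'),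
      hf _ _ (mul_mem (hsY v) (hsY v')) (hsY w), hf _ _ (hsY v) (hsY w), hf _ _ (hsY v') (hsY w),
      comm_mul_left_central (hAY (hs.comm' (hsY v') (hsY w)) (hsY v))
        (hAY (hs.comm' (hsY v') (hsY w)) (hs.lt.le (hs.comm' (hsY v) (hsY w)))),
      S1.map_mul _ (hgen _ _ (hsY v) (hsY w)) _ (hgen _ _ (hsY v') (hsY w))]
  have hfr : ∀ v w w', f v (w + w') = f v w + f v w' := fun v w w' => by
    rw [← hsπ v, ← hsπ w, ← hsπ w', ← Sc.map_mul _ (hsY w) _ (hsY w'),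
      hf _ _ (hsY v) (mul_mem (hsY w) (hsY w')), hf _ _ (hsY v) (hsY w), hf _ _ (hsY v) (hsY w'),
      comm_mul_right_central (hAY (hs.comm' (hsY v) (hsY w')) (hsY w)),
      S1.map_mul _ (hgen _ _ (hsY v) (hsY w)) _ (hgen _ _ (hsY v) (hsY w'))]
  let c1 : (Fin Sc.n → ZMod p) →+ ((Fin Sc.n → ZMod p) →ₗ[ZMod p] (Fin S1.n → ZMod p)) :=
    AddMonoidHom.mk' (fun v => AddMonoidHom.toZModLinearMap p (AddMonoidHom.mk' (f v) (hfr v)))
      fun v v' => LinearMap.ext fun w => hfl v v' w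
  set cf := AddMonoidHom.toZModLinearMap p c1 with hcf
  have hcf' : ∀ v w, cf v w = f v w := fun v w => rfl
  have hequiv : ∀ (l : ↥(G ⊔ R)) (u v : X), u ∈ Y → v ∈ Y →
      cf ((Sc.ρ l : _ →ₗ[ZMod p] _) (Sc.π u)) ((Sc.ρ l : _ →ₗ[ZMod p] _) (Sc.π v)) =
        (S1.ρ l : _ →ₗ[ZMod p] _) (cf (Sc.π u) (Sc.π v)) := by
    intro l u v hu hv
    rw [hcf', hcf', ← Sc.equiv l u hu, ← Sc.equiv l v hv,
      hf _ _ (conj_mem (hs.norm l.2) hu) (conj_mem (hs.norm l.2) hv), hf _ _ hu hv,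
      ← S1.equiv l _ (hgen _ _ hu hv)]
    congr 1
    simp only [commutatorElement_def]; group
  have hmP := hU (hM hm)
  set lm : ↥(G ⊔ R) := ⟨m, mem_sup_left (pInv_le hmP)⟩ with hlm
  have hcube : ((Sc.ρ lm : (Fin Sc.n → ZMod p) →ₗ[ZMod p] (Fin Sc.n → ZMod p)) - 1) ^ 3 = 0 := by
    refine Sc.cube_of lm fun y hy => ?_
    show ⁅m, ⁅m, ⁅m, y⁆⁆⁆ ∈ A
    have hmy : ⁅m, y⁆ ∈ M := by
      rw [show ⁅m, y⁆ = m * (y * m⁻¹ * y⁻¹) by simp only [commutatorElement_def]; group]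
      exact mul_mem hm (conj_mem (hYM hy) (inv_mem hm))
    rw [commutatorElement_eq_one_iff_mul_comm.mpr (hcl _ hm _ hmy _ hm).symm.eq]
    exact one_mem _
  set O' := ((pRes p G).subgroupOf (G ⊔ R)).map Sc.ρ with hO'
  set G' := (G.subgroupOf (G ⊔ R)).map Sc.ρ with hG'
  have hcompl : Compl (O' ⊔ zpowers (Sc.ρ lm)) := by
    refine compl_of_pResidue (p := p) (G := G') ?_ (map_mono (comap_mono pRes_le)) ?_ ?_ le_sup_left
      (sup_le (map_mono (comap_mono pRes_le))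
        (zpowers_le.mpr ⟨lm, mem_subgroupOf.mpr (pInv_le hmP), rfl⟩))
    · refine compl_of_normal (compl_of_irr hirr) (fun _ ⟨z, _, e⟩ => ⟨z, e⟩) ?_
      rintro _ ⟨l, rfl⟩
      refine mem_normalizer_of_forall ?_
      rintro _ ⟨z, hz, rfl⟩
      exact ⟨l * z * l⁻¹, hnG.conj_mem z hz l, by rw [map_mul, map_mul, map_inv]⟩
    · rintro _ ⟨g, hg, rfl⟩
      refine mem_normalizer_of_forall ?_
      rintro _ ⟨z, hz, rfl⟩
      exact ⟨g * z * g⁻¹, mem_subgroupOf.mpr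
        (conj_mem ((le_normalizer.trans normalizer_le_normalizer_pRes) (mem_subgroupOf.mp hg)) hz),
        by rw [map_mul, map_mul, map_inv]⟩
    · rintro _ ⟨g, hg, rfl⟩
      obtain ⟨k, hk⟩ := exists_pow_mem_pRes (p := p) (mem_subgroupOf.mp hg)
      exact ⟨k, ⟨g ^ p ^ k, mem_subgroupOf.mpr (by rwa [SubmonoidClass.coe_pow]), map_pow _ _ _⟩⟩
  have hfix := cubic_fixed (two_ne hp) (three_ne hp) hcompl hcube cf
    (fun v => by
      rw [hcf']; show S1.π ⁅s v, s v⁆ = 0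
      rw [commutatorElement_self, S1.map_one])
    (by
      rintro _ ⟨o, ho, rfl⟩ v w
      conv_lhs => rw [← hsπ v, ← hsπ w, hequiv o _ _ (hsY v) (hsY w)]
      rw [hsπ v, hsπ w]
      have e1 : S1.ρ o = 1 := (S1.eq_one_iff o).mpr fun a ha => mem_bot.mpr
        (commutatorElement_eq_one_iff_mul_comm.mpr
          (mem_centralizer_iff.mp (hOA (mem_subgroupOf.mp ho)) a (hA1A ha)).symm)
      rw [e1]; rfl)
    ((S1.ρ lm : _ →ₗ[ZMod p] _)) (by
      obtain ⟨k, hk⟩ := isPGroup_pInv h ⟨m, hmP⟩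
      refine ⟨p ^ k, LinearMap.ext fun v => ?_⟩
      set σ : (Fin S1.n → ZMod p) →ₗ[ZMod p] (Fin S1.n → ZMod p) := ↑(S1.ρ lm) with hσ
      have hσk : σ ^ p ^ k = 1 := by
        rw [hσ, ← Units.val_pow_eq_pow_val, ← map_pow,
          show lm ^ p ^ k = 1 from Subtype.ext (by simpa [Subtype.ext_iff] using hk), map_one]
        rfl
      obtain ⟨r, hr⟩ := (Commute.one_right (σ - 1)).exists_add_pow_prime_pow_eq (Fact.out : p.Prime) k
      have hc0 : ((p : ℕ) : (Fin S1.n → ZMod p) →ₗ[ZMod p] (Fin S1.n → ZMod p)) = 0 := by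
        rw [← map_natCast (algebraMap (ZMod p) ((Fin S1.n → ZMod p) →ₗ[ZMod p] (Fin S1.n → ZMod p))),
          ZMod.natCast_self, map_zero]
      rw [sub_add_cancel, hσk, hc0, one_pow] at hr
      simp only [zero_mul, mul_zero, add_zero] at hr
      have : (σ - 1) ^ p ^ k = 0 := by
        have e := hr.symm
        rwa [add_eq_right] at e
      rw [this])
    (fun v w => by
      conv_lhs => rw [← hsπ v, ← hsπ w, hequiv lm _ _ (hsY v) (hsY w)]
      rw [hsπ v, hsπ w])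
  have hux : ⁅m₀, x⁆ ∈ Y :=
    mul_mem (conj_mem (hs.norm (mem_sup_left (pInv_le (hU (hM hm₀))))) hx) (inv_mem hx)
  set u := ⁅m₀, x⁆ with hu
  have e := hfix (Sc.π u) (Sc.π x')
  rw [hequiv lm u x' hux hx', hcf', hf _ _ hux hx'] at e
  have e1 := (S1.apply_eq_zero_iff lm (hgen u x' hux hx')).mp (by
    rw [LinearMap.sub_apply, Module.End.one_apply, e, sub_self])
  exact (commutatorElement_eq_one_iff_mul_comm.mp (mem_bot.mp e1)).symm

end Cfsg.Agent.Lib.Flavell42
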