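import Cfsg.Agent.Lib.Flavell42.Partner

/-!
Normalised pairs `(α, φ)`, the `p`-group `Q1 α` transitive on the partners of `α`, and partners fixed
by a coprime group.
-/

set_option linter.style.haveILetI false
set_option linter.unusedSimpArgs false

namespace Cfsg.Agent.Lib.Flavell42

open QuadPair Polynomial
open Cfsg.Agent.Lib.RootSubgroups

variable {p : ℕ} [Fact p.Prime] {V : Type} [AddCommGroup V] [Module (ZMod p) V]
  {G : Subgroup (LinearMap.GeneralLinearGroup (ZMod p) V)}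

local notation "GLV" => LinearMap.GeneralLinearGroup (ZMod p) V
local notation "E" => (V →ₗ[ZMod p] V)

theorem Good.cjN {X : E} (hX : Good G X) {g : GLV} (hg : g ∈ Subgroup.normalizer (G : Set GLV)) :
    Good G (cj g X) := by
  refine good_of_tau (by rw [cj_mul, hX.sq, cj_zero]) ?_
  rw [← conj_tau g hX.sq]
  exact conj_mem hg (tau_mem hX)

theorem ker_cj (g : GLV) (X : E) : LinearMap.ker (cj g X) = (LinearMap.ker X).map (g : E) := by
  ext m
  simp only [LinearMap.mem_ker, Submodule.mem_map, cj, Module.End.mul_apply]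
  constructor
  · intro h
    refine ⟨((g⁻¹ : GLV) : E) m, ?_, units_apply_inv g m⟩
    rw [← units_inv_apply g (X _), h, map_zero]
  · rintro ⟨x, hx, rfl⟩
    rw [units_inv_apply, hx, map_zero]

variable [Finite V]

theorem rk_cj (g : GLV) (X : E) : rk (cj g X) = rk X := by
  have hle : ∀ (g : GLV) (X : E), rk (cj g X) ≤ rk X := fun g X => by
    unfold rk; rw [range_cj]; exact Submodule.finrank_map_le _ _
  refine le_antisymm (hle g X) ?_
  have := hle g⁻¹ (cj g X)
  rwa [cj_inv_cj] at this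

theorem IsMin.cjN {X : E} (hX : IsMin G X) {g : GLV}
    (hg : g ∈ Subgroup.normalizer (G : Set GLV)) : IsMin G (cj g X) :=
  hX.of_rk_le (Good.cjN hX.good hg) (fun h => hX.ne_zero (cj_inj g (h.trans (cj_zero g).symm)))
    (rk_cj g X).le

theorem InCls.cjN {N X : E} (h : InCls G N X) {g : GLV}
    (hg : g ∈ Subgroup.normalizer (G : Set GLV)) : InCls G (cj g N) (cj g X) := by
  refine ⟨Good.cjN h.good hg, ?_, ?_⟩
  · rw [range_cj, range_cj]; exact Submodule.map_mono h.range_le
  · rw [ker_cj, ker_cj]; exact Submodule.map_mono h.ker_le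

/-- A normalised pair. -/
structure IsPair (G : Subgroup (LinearMap.GeneralLinearGroup (ZMod p) V)) (α φ : E) : Prop where
  min_left : IsMin G α
  min_right : IsMin G φ
  rel : Units2 α φ

omit [Finite V] in
theorem IsPair.symm {α φ : E} (h : IsPair G α φ) : IsPair G φ α :=
  ⟨h.min_right, h.min_left, h.rel.symm⟩

variable (hp : 5 ≤ p)
include hp

theorem IsPair.typeTwo {α φ : E} (h : IsPair G α φ) : TypeTwo G α φ :=
  typeTwo_of_ne (two_ne hp) (card_ne_three hp) h.min_left h.min_right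
    (by rw [h.rel.afa]; exact h.min_left.ne_zero)

/-- Every partner class holds a normalised partner. -/
theorem exists_isPair {N P : E} (h : TypeTwo G N P) : ∃ φ, InCls G P φ ∧ IsPair G N φ := by
  have h2 := two_ne hp
  have hk3 := card_ne_three hp
  have hN := h.min_left.good.sq
  have hP := h.min_right.good.sq
  obtain ⟨b, hb⟩ := h.isUnit_X.exists_right_inv
  obtain ⟨q, rfl⟩ := proj_surjective b
  have hq : proj N P (X * q - 1) = 0 := by rw [map_sub, map_mul, map_one, hb, sub_self]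
  have kN := proj_eq_zero.mp hq
  have kP := h.kills_right kN
  rw [map_sub, map_mul, map_one, aeval_X, sub_mul, one_mul, sub_eq_zero] at kN kP
  set φ := aeval (cu N P) q * P with hφ
  have cN := aeval_comm_left (k := ZMod p) (P := P) hN q
  have cP := aeval_comm_right (k := ZMod p) (N := N) hP q
  have comm : cu N P * aeval (cu N P) q = aeval (cu N P) q * cu N P := by
    have := congrArg (aeval (cu N P)) (mul_comm (X : (ZMod p)[X]) q)
    simpa using this
  have hNPN : N * φ * N = N := by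
    rw [hφ, ← mul_assoc, ← cN, mul_assoc, mul_assoc, NP_N hN hP, ← mul_assoc, ← comm]
    exact kN
  have hPNP : φ * N * φ = φ := by
    have e : P * (N * P) = cu N P * P := by rw [NP_N hP hN, cu_comm_symm]
    calc φ * N * φ = aeval (cu N P) q * P * N * (aeval (cu N P) q * P) := by rw [hφ]
      _ = aeval (cu N P) q * P * (N * aeval (cu N P) q) * P := by simp only [mul_assoc]
      _ = aeval (cu N P) q * P * (aeval (cu N P) q * N) * P := by rw [cN]
      _ = aeval (cu N P) q * (P * aeval (cu N P) q) * N * P := by simp only [mul_assoc]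
      _ = aeval (cu N P) q * aeval (cu N P) q * (P * (N * P)) := by rw [← cP]; simp only [mul_assoc]
      _ = aeval (cu N P) q * (cu N P * aeval (cu N P) q * P) := by
        rw [e, comm]; simp only [mul_assoc]
      _ = φ := by rw [kP]
  have hc : InCls G P φ := h.inCls_right h2 hk3 q
  have hne : φ ≠ 0 := fun e => h.min_left.ne_zero (by rw [← hNPN, e, mul_zero, zero_mul])
  exact ⟨φ, hc, h.min_left, hc.isMin h.min_right hne, hN, hc.good.sq, hNPN, hPNP⟩

/-- The normalised partner in a class is unique. -/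
theorem IsPair.unique {α φ ψ : E} (h : IsPair G α φ) (hc : InCls G φ ψ) (hψ : α * ψ * α = α) :
    ψ = φ := by
  have hsub : InCls G φ (ψ - φ) := by
    rw [sub_eq_add_neg, ← neg_one_smul (ZMod p) φ]
    exact hc.add h.rel.ff ((inCls_self h.min_right.good).smul _)
  by_contra hne
  refine ((h.typeTwo hp).congr (inCls_self h.min_left.good) h.min_left.ne_zero hsub
    (sub_ne_zero.mpr hne)).ne_zero ?_
  rw [mul_sub, sub_mul, hψ, h.rel.afa, sub_self]

theorem isPair_of {α φ : E} (hα : IsMin G α) (hφ : IsMin G φ) (h : α * φ * α = α) :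
    IsPair G α φ := by
  obtain ⟨ψ, hc, hψ⟩ := exists_isPair hp
    (typeTwo_of_ne (two_ne hp) (card_ne_three hp) hα hφ (by rw [h]; exact hα.ne_zero))
  rwa [hψ.unique hp (hc.symm hφ hψ.min_right.ne_zero) h]

omit [Finite V] hp in
theorem conj_torus (g : GLV) {α φ : E} (h : Units2 α φ) (c : ZMod p) :
    g * torus α φ c * g⁻¹ = torus (cj g α) (cj g φ) c := by
  have hc : ∀ x y : GLV, g * (x * y) * g⁻¹ = g * x * g⁻¹ * (g * y * g⁻¹) := fun x y => by group
  simp only [torus, weyl, hc, conj_tau g (smul_sq h.aa _), conj_tau g (smul_sq h.ff _), cj_smul]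

omit [Finite V] hp in
theorem units2_cj (g : GLV) {α φ : E} (h : Units2 α φ) : Units2 (cj g α) (cj g φ) :=
  ⟨by rw [cj_mul, h.aa, cj_zero], by rw [cj_mul, h.ff, cj_zero],
    by rw [cj_mul, cj_mul, h.afa], by rw [cj_mul, cj_mul, h.faf]⟩

omit hp in
theorem IsPair.cjN {α φ : E} (h : IsPair G α φ) {g : GLV}
    (hg : g ∈ Subgroup.normalizer (G : Set GLV)) : IsPair G (cj g α) (cj g φ) :=
  ⟨IsMin.cjN h.min_left hg, IsMin.cjN h.min_right hg, units2_cj g h.rel⟩

omit hp

section Basic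

omit [Finite V]

/-- The stabiliser chain of `range α ≤ ker α`. -/
def Q1 (G : Subgroup (LinearMap.GeneralLinearGroup (ZMod p) V)) (α : E) : Subgroup GLV where
  carrier := {x | x ∈ G ∧ (x : E) * α = α ∧ α * (x : E) = α ∧
    ∀ v, α v = 0 → (x : E) v - v ∈ LinearMap.range α}
  one_mem' := ⟨one_mem _, by simp, by simp, fun v _ => by simp⟩
  mul_mem' := by
    rintro x y ⟨hx, x1, x2, x3⟩ ⟨hy, y1, y2, y3⟩
    refine ⟨mul_mem hx hy, by rw [Units.val_mul, mul_assoc, y1, x1],
      by rw [Units.val_mul, ← mul_assoc, x2, y2], fun v hv => ?_⟩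
    have hyv : α ((y : E) v) = 0 := by rw [← Module.End.mul_apply, y2, hv]
    rw [Units.val_mul, Module.End.mul_apply,
      show (x : E) ((y : E) v) - v = ((x : E) ((y : E) v) - (y : E) v) + ((y : E) v - v) by abel]
    exact add_mem (x3 _ hyv) (y3 v hv)
  inv_mem' := by
    rintro x ⟨hx, x1, x2, x3⟩
    have i2 : α * ((x⁻¹ : GLV) : E) = α := by
      conv_lhs => rw [← x2]
      rw [mul_assoc, Units.mul_inv, mul_one]
    refine ⟨inv_mem hx, ?_, i2, fun v hv => ?_⟩
    · conv_lhs => rw [← x1]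
      rw [← mul_assoc, Units.inv_mul, one_mul]
    · have hv' : α (((x⁻¹ : GLV) : E) v) = 0 := by rw [← Module.End.mul_apply, i2, hv]
      have := x3 _ hv'
      rw [units_apply_inv] at this
      rw [← neg_sub]
      exact neg_mem this

variable {α φ : V →ₗ[ZMod p] V}

theorem Q1_le : Q1 G α ≤ G := fun _ hx => hx.1

theorem tau_mem_Q1 {ε : E} (hε : InCls G α ε) (hα : Good G α) : tau ε ∈ Q1 G α := by
  have e1 : ε * α = 0 := hε.mul_eq_zero hα.sq (inCls_self hα)
  have e2 : α * ε = 0 := (inCls_self hα).mul_eq_zero hα.sq hε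
  refine ⟨tau_mem hε.good, ?_, ?_, fun v hv => ?_⟩
  · rw [val_tau hε.good.sq, add_mul, one_mul, e1, add_zero]
  · rw [val_tau hε.good.sq, mul_add, mul_one, e2, add_zero]
  · rw [val_tau hε.good.sq, LinearMap.add_apply, Module.End.one_apply,
      LinearMap.mem_ker.mp (hε.ker_le (LinearMap.mem_ker.mpr hv))]
    simp

theorem cj_of_mem_Q1 {x : GLV} (hx : x ∈ Q1 G α) : cj x α = α := by
  rw [cj_eq_iff_commute, hx.2.1, hx.2.2.1]

theorem isPGroup_Q1 (hp : 5 ≤ p) (hα : α * α = 0) : IsPGroup p (Q1 G α) := by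
  rintro ⟨x, hxG, x1, x2, x3⟩
  refine ⟨1, Subtype.ext (Units.ext ?_)⟩
  show ((x ^ p ^ 1 : GLV) : E) = 1
  set D : E := (x : E) - 1 with hD
  have hz : D ^ 3 = 0 := by
    refine LinearMap.ext fun v => ?_
    have h1 : α (D v) = 0 := by
      rw [hD, ← Module.End.mul_apply, mul_sub, mul_one, x2, sub_self]; rfl
    obtain ⟨u, hu⟩ := x3 _ h1
    have h2 : D (D v) = α u := by rw [hu]; rfl
    rw [pow_succ, pow_two, Module.End.mul_apply, Module.End.mul_apply, h2, hD, LinearMap.sub_apply,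
      ← Module.End.mul_apply, x1]
    simp
  obtain ⟨r, hr⟩ := (Commute.one_right D).exists_add_pow_prime_pow_eq (Fact.out : p.Prime) 1
  rw [Units.val_pow_eq_pow_val, show (x : E) = D + 1 by rw [hD, sub_add_cancel], hr, pow_one,
    pow_eq_zero_of_le (show 3 ≤ p by omega) hz, one_pow]
  have hc : ((p : ℕ) : E) = 0 := by
    rw [← map_natCast (algebraMap (ZMod p) E), ZMod.natCast_self, map_zero]
  rw [hc]
  simp

theorem torus_neg_one_mul (h : Units2 α φ) :
    ((torus α φ (-1) : GLV) : E) * α = -α ∧ α * ((torus α φ (-1) : GLV) : E) = -α := by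
  rw [val_torus h (neg_ne_zero.mpr one_ne_zero)]
  constructor <;>
    simp only [e0, add_mul, mul_add, sub_mul, mul_sub, one_mul, mul_one, smul_mul_assoc,
      mul_smul_comm, mul_assoc, h.aa, h.ff, h.aa', h.ff', h.afa1, h.faf1, h.afa', h.faf',
      mul_zero, zero_mul, smul_zero, inv_neg, inv_one, neg_one_smul, sub_zero, add_zero, sub_self,
      zero_add, neg_zero, neg_mul, mul_neg]

theorem torus_neg_one_sq (h : Units2 α φ) : torus α φ (-1) * torus α φ (-1) = 1 := by
  have hc : (-1 : ZMod p) ≠ 0 := neg_ne_zero.mpr one_ne_zero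
  conv_lhs => enter [2]; rw [show torus α φ (-1) = (torus α φ (-1))⁻¹ from Units.ext (by
    rw [val_torus h hc, val_torus_inv h hc, inv_neg, inv_one])]
  exact mul_inv_cancel _

theorem torus_neg_one_ker (h : Units2 α φ) {v : V} (hv : α v = 0) :
    ((torus α φ (-1) : GLV) : E) v - v ∈ LinearMap.range α := by
  have he : ((torus α φ (-1) : GLV) : E) = 1 - (2 : ZMod p) • (α * φ + φ * α) := by
    rw [val_torus h (neg_ne_zero.mpr one_ne_zero), e0, inv_neg, inv_one]
    module
  rw [he]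
  refine ⟨-((2 : ZMod p) • φ v), ?_⟩
  simp [hv, map_neg, map_smul]

theorem mul_sum_eq {ψ : E} (hψ : Units2 α ψ) (hs : α * φ + φ * α = α * ψ + ψ * α) :
    ψ * (α * φ + φ * α) = ψ ∧ (α * φ + φ * α) * ψ = ψ := by
  rw [hs]
  constructor <;>
    simp only [add_mul, mul_add, mul_assoc, hψ.ff, hψ.faf1, hψ.ff', mul_zero, zero_mul, add_zero,
      zero_add]

/-- Two partners with the same idempotent differ by a translation. -/
theorem partner_identity (h : Units2 α φ) {ψ : E} (hψ : Units2 α ψ)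
    (hs : α * φ + φ * α = α * ψ + ψ * α) :
    ψ = φ + (α * φ * ψ * α * φ - φ * (α * φ * ψ * α)) - α * φ * ψ * α * φ * (α * φ * ψ * α) := by
  obtain ⟨s1, s2⟩ := mul_sum_eq hψ hs
  have hA : φ * α * ψ * (α * φ) = φ := by
    rw [show φ * α * ψ * (α * φ) = φ * (α * ψ * α) * φ by noncomm_ring, hψ.afa, h.faf]
  have hz : ψ * (α * φ + φ * α) * ψ = 0 := by rw [s1, hψ.ff]
  have hB : φ * α * ψ * (φ * α) = -(φ * ψ * α) := by
    have e1 : φ * α * ψ = φ - φ * ψ * α := by
      have := congrArg (φ * ·) hs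
      simp only [mul_add, ← mul_assoc, h.faf, h.ff, zero_mul, add_zero] at this
      exact eq_sub_of_add_eq this.symm
    rw [e1, sub_mul, ← mul_assoc φ φ, h.ff, zero_mul,
      show φ * ψ * α * (φ * α) = φ * ψ * (α * φ * α) by noncomm_ring, h.afa, zero_sub]
  have hC : α * φ * ψ * (φ * α) = -(α * φ * ψ * α * φ * ψ * α) := by
    have e1 : α * φ * (ψ * (α * φ + φ * α) * ψ) * α =
        α * φ * ψ * α * φ * ψ * α + α * φ * ψ * φ * (α * ψ * α) := by noncomm_ring
    rw [hz, hψ.afa] at e1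
    simp only [mul_zero, zero_mul] at e1
    rw [← mul_assoc, eq_neg_iff_add_eq_zero, add_comm]
    exact e1.symm
  calc ψ = (α * φ + φ * α) * ψ * (α * φ + φ * α) := by rw [s2, s1]
    _ = α * φ * ψ * (α * φ) + α * φ * ψ * (φ * α) +
        (φ * α * ψ * (α * φ) + φ * α * ψ * (φ * α)) := by noncomm_ring
    _ = _ := by
      rw [hA, hB, hC,
        show φ * (α * φ * ψ * α) = (φ * α * φ) * (ψ * α) by noncomm_ring, h.faf,
        show α * φ * ψ * α * φ * (α * φ * ψ * α) = α * φ * ψ * (α * φ * α) * (φ * ψ * α) by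
          noncomm_ring, h.afa]
      noncomm_ring

end Basic

variable {α φ : V →ₗ[ZMod p] V}

/-- `Q1 α` is transitive on the normalised partners of `α`. -/
theorem exists_Q1_conj (hp : 5 ≤ p) {φ' : E} (h : IsPair G α φ) (h' : IsPair G α φ') :
    ∃ q ∈ Q1 G α, cj q φ = φ' := by
  set i := torus α φ (-1) with hi
  set i' := torus α φ' (-1) with hi'
  obtain ⟨a1, a2⟩ := torus_neg_one_mul h.rel
  obtain ⟨b1, b2⟩ := torus_neg_one_mul h'.rel
  have hiG : i ∈ G := torus_mem h.rel h.min_left.good h.min_right.good _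
  have hiG' : i' ∈ G := torus_mem h'.rel h'.min_left.good h'.min_right.good _
  have hαα : α * α = 0 := h.rel.aa
  have hx : i * i' ∈ Q1 G α := by
    refine ⟨mul_mem hiG hiG', ?_, ?_, fun v hv => ?_⟩
    · rw [Units.val_mul, mul_assoc, b1, mul_neg, a1, neg_neg]
    · rw [Units.val_mul, ← mul_assoc, a2, neg_mul, b2, neg_neg]
    · have hv' : α ((i' : E) v) = 0 := by
        rw [← Module.End.mul_apply, b2, LinearMap.neg_apply, hv, neg_zero]
      rw [Units.val_mul, Module.End.mul_apply,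
        show (i : E) ((i' : E) v) - v = ((i : E) ((i' : E) v) - (i' : E) v) + ((i' : E) v - v) by
          abel]
      exact add_mem (torus_neg_one_ker h.rel hv') (torus_neg_one_ker h'.rel hv)
  have ii := torus_neg_one_sq h.rel
  have ii' := torus_neg_one_sq h'.rel
  rw [← hi] at ii
  rw [← hi'] at ii'
  obtain ⟨m, hm⟩ : ∃ m : ℕ, (i * i') ^ (m + m) = i * i' := by
    obtain ⟨n, hn⟩ := isPGroup_Q1 hp hαα ⟨_, hx⟩
    have hodd : Odd (p ^ n) := ((Fact.out : p.Prime).odd_of_ne_two (by omega)).pow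
    obtain ⟨j, hj⟩ := hodd
    refine ⟨j + 1, ?_⟩
    have hn' : (i * i') ^ p ^ n = 1 := by simpa [Subtype.ext_iff] using hn
    rw [show j + 1 + (j + 1) = p ^ n + 1 by omega, pow_succ, hn', one_mul]
  set y := (i * i') ^ m with hy
  have hyQ : y ∈ Q1 G α := pow_mem hx m
  have hii : i⁻¹ = i := inv_eq_of_mul_eq_one_right ii
  have hii' : i'⁻¹ = i' := inv_eq_of_mul_eq_one_right ii'
  have hinv : i * y * i⁻¹ = y⁻¹ := by
    rw [hy, ← conj_pow, ← inv_pow, hii, mul_inv_rev, hii']
    congr 1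
    rw [← mul_assoc, ii, one_mul, hii]
  have hyy : y * y = i * i' := by rw [hy, ← pow_add, hm]
  have hyi : y⁻¹ * i * y⁻¹⁻¹ = i' := by
    calc y⁻¹ * i * y⁻¹⁻¹ = y⁻¹ * (i * y * i⁻¹) * i := by group
      _ = (y * y)⁻¹ * i := by rw [hinv]; group
      _ = i' := by rw [hyy, mul_inv_rev, hii, hii', mul_assoc, ii, mul_one]
  set ψ := cj y⁻¹ φ with hψdef
  have hpψ : IsPair G α ψ := by
    have := h.cjN (g := y⁻¹) (Subgroup.le_normalizer (Q1_le (inv_mem hyQ)))
    rwa [cj_of_mem_Q1 (inv_mem hyQ)] at this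
  have hsame : torus α ψ (-1) = i' := by
    rw [← hyi, hi, conj_torus _ h.rel, cj_of_mem_Q1 (inv_mem hyQ)]
  have hsum : α * φ' + φ' * α = α * ψ + ψ * α := by
    have e := congrArg (fun g : GLV => (g : E)) hsame
    have h2 := two_ne hp
    have hc : (-1 : ZMod p) ≠ 0 := neg_ne_zero.mpr one_ne_zero
    simp only [hi'] at e
    rw [val_torus hpψ.rel hc, val_torus h'.rel hc] at e
    have e2 : (2 : ZMod p) • (α * φ' + φ' * α) = (2 : ZMod p) • (α * ψ + ψ * α) := by
      rw [e0, e0, inv_neg, inv_one] at e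
      rw [← sub_eq_zero] at e ⊢
      rw [← e]; module
    exact (IsUnit.smul_left_cancel (isUnit_iff_ne_zero.mpr h2)).mp e2
  set ε := α * φ' * ψ * α with hε
  have hεε : ε * ε = 0 := by
    rw [hε, show α * φ' * ψ * α * (α * φ' * ψ * α) = α * φ' * ψ * (α * α) * (φ' * ψ * α) by
      noncomm_ring, hαα]
    simp
  have hcj : cj (tau ε) φ' = ψ := by
    rw [cj_tau hεε]
    exact (partner_identity h'.rel hpψ.rel hsum).symm
  have h3 : (2 : ZMod p) * 2 - 1 ≠ 0 := by
    rw [show (2 : ZMod p) * 2 - 1 = 3 by norm_num]; exact three_ne hp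
  have hgood : Good G ε := by
    have hcq : (2 : ZMod p) ≠ 0 := two_ne hp
    have hct : cj (torus α φ' 2) ε = ((2 : ZMod p) * 2) • ε := by
      rw [hε, cj, val_torus h'.rel hcq, val_torus_inv h'.rel hcq]
      have r := h'.rel
      simp only [e0, add_mul, mul_add, sub_mul, mul_sub, one_mul, mul_one, smul_mul_assoc,
        mul_smul_comm, smul_smul, mul_assoc, r.aa, r.ff, r.aa', r.ff', r.afa1, r.faf1, r.afa',
        r.faf', mul_zero, zero_mul, smul_zero, sub_zero, add_zero, sub_self, zero_add]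
    have htau : tau ε * torus α φ' 2 * (tau ε)⁻¹ = torus α ψ 2 := by
      rw [conj_torus _ h'.rel, hcj]
      congr 1
      rw [cj_eq_iff_commute, val_tau hεε, add_mul, mul_add, one_mul, mul_one, hε,
        show α * φ' * ψ * α * α = α * φ' * ψ * (α * α) by noncomm_ring,
        show α * (α * φ' * ψ * α) = α * α * (φ' * ψ * α) by noncomm_ring, hαα]
      simp
    have hg : tau ε * (tau (cj (torus α φ' 2) ε))⁻¹ ∈ G := by
      have e : tau ε * (tau (cj (torus α φ' 2) ε))⁻¹ = torus α ψ 2 * (torus α φ' 2)⁻¹ := by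
        rw [← conj_tau _ hεε, ← htau]; group
      rw [e]
      exact mul_mem (torus_mem hpψ.rel h.min_left.good hpψ.min_right.good 2)
        (inv_mem (torus_mem h'.rel h.min_left.good h'.min_right.good 2))
    rw [hct, tau_inv (smul_sq hεε _), tau_mul hεε (neg_sq (smul_sq hεε _))
      (by simp [hεε, mul_smul_comm]) (by simp [hεε, smul_mul_assoc]),
      show ε + -(((2 : ZMod p) * 2) • ε) = (-((2 : ZMod p) * 2 - 1)) • ε by module] at hg
    have := (good_of_tau (smul_sq hεε _) hg).smul (-((2 : ZMod p) * 2 - 1))⁻¹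
    rwa [smul_smul, inv_mul_cancel₀ (neg_ne_zero.mpr h3), one_smul] at this
  have hεc : InCls G α ε := by
    refine ⟨hgood, ?_, fun v hv => ?_⟩
    · rw [hε, mul_assoc α φ', mul_assoc α]; exact LinearMap.range_comp_le_range _ α
    · rw [LinearMap.mem_ker, hε, Module.End.mul_apply, LinearMap.mem_ker.mp hv, map_zero]
  exact ⟨(tau ε)⁻¹ * y⁻¹, mul_mem (inv_mem (tau_mem_Q1 hεc h.min_left.good)) (inv_mem hyQ),
    by rw [cj_comp, ← hψdef, ← hcj, cj_inv_cj]⟩

theorem cj_range_ker_eq {g : GLV} {l : E} (hl : IsMin G l)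
    (hg : g ∈ Subgroup.normalizer (G : Set GLV)) (hc : InCls G l (cj g l)) :
    (LinearMap.range l).map (g : E) = LinearMap.range l ∧
      (LinearMap.ker l).map (g : E) = LinearMap.ker l := by
  have hs := hc.sameAct hl (IsMin.cjN hl hg).ne_zero
  exact ⟨by rw [← range_cj]; exact hs.1, by rw [← ker_cj]; exact hs.2⟩

theorem mem_normalizer_Q1 {g : GLV} {l : E} (hl : IsMin G l)
    (hg : g ∈ Subgroup.normalizer (G : Set GLV)) (hc : InCls G l (cj g l)) :
    g ∈ Subgroup.normalizer (Q1 G l : Set GLV) := by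
  obtain ⟨hr, hk⟩ := cj_range_ker_eq hl hg hc
  refine mem_normalizer_of_forall (X := GLV) ?_
  rintro x ⟨hx, x1, x2, x3⟩
  have r1 : ∀ w, l w ∈ LinearMap.range l := fun w => ⟨w, rfl⟩
  refine ⟨conj_mem hg hx, ?_, ?_, ?_⟩
  · refine LinearMap.ext fun v => ?_
    have h0 : l v ∈ (LinearMap.range l).map (g : E) := by rw [hr]; exact r1 v
    obtain ⟨_, ⟨u, rfl⟩, hu⟩ := h0
    rw [Units.val_mul, Units.val_mul, Module.End.mul_apply, Module.End.mul_apply,
      Module.End.mul_apply, ← hu, units_inv_apply, ← Module.End.mul_apply, ← Module.End.mul_apply,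
      ← Module.End.mul_apply, mul_assoc, x1]
  · refine LinearMap.ext fun v => ?_
    have h1 : (x : E) (((g⁻¹ : GLV) : E) v) - ((g⁻¹ : GLV) : E) v ∈ LinearMap.ker l := by
      rw [LinearMap.mem_ker, map_sub, ← Module.End.mul_apply, x2, sub_self]
    have h2 : (g : E) ((x : E) (((g⁻¹ : GLV) : E) v)) - v ∈ LinearMap.ker l := by
      rw [← hk]
      exact ⟨_, h1, by rw [map_sub, units_apply_inv]⟩
    rw [LinearMap.mem_ker, map_sub, sub_eq_zero] at h2
    rw [Units.val_mul, Units.val_mul, Module.End.mul_apply, Module.End.mul_apply,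
      Module.End.mul_apply]
    exact h2
  · intro v hv
    have h0 : v ∈ (LinearMap.ker l).map (g : E) := by rw [hk]; exact hv
    obtain ⟨u, hu, rfl⟩ := h0
    rw [Units.val_mul, Units.val_mul, Module.End.mul_apply, Module.End.mul_apply, units_inv_apply,
      ← map_sub, ← hr]
    exact ⟨_, x3 u hu, rfl⟩

/-- The class of an element as a point. -/
def clsPt (ψ : E) : Submodule (ZMod p) V × Submodule (ZMod p) V :=
  (LinearMap.range ψ, LinearMap.ker ψ)

/-- The action on classes. -/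
@[reducible] def clsAct :
    MulAction GLV (Submodule (ZMod p) V × Submodule (ZMod p) V) where
  smul g x := (x.1.map (g : E), x.2.map (g : E))
  one_smul x := by
    show (x.1.map ((1 : GLV) : E), x.2.map ((1 : GLV) : E)) = x
    simp [Module.End.one_eq_id, Submodule.map_id]
  mul_smul g g' x := by
    show (x.1.map ((g * g' : GLV) : E), x.2.map ((g * g' : GLV) : E)) = _
    simp only [Units.val_mul, Module.End.mul_eq_comp, Submodule.map_comp]
    rfl

theorem clsPt_cj (g : GLV) (ψ : E) :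
    clsPt (cj g ψ) = ((clsPt ψ).1.map (g : E), (clsPt ψ).2.map (g : E)) := by
  rw [clsPt, range_cj, ker_cj]; rfl

theorem inCls_of_clsPt {ψ ψ' : E} (hψ' : Good G ψ') (h : clsPt ψ' = clsPt ψ) : InCls G ψ ψ' :=
  ⟨hψ', (congrArg Prod.fst h).le, (congrArg Prod.snd h).ge⟩

/-- Partners whose classes are fixed by two coprime groups, the second centralising the first. -/
theorem exists_fixed_partner (hp : 5 ≤ p) {A B : Subgroup (LinearMap.GeneralLinearGroup (ZMod p) V)}
    {l : E} {ψ₀ : E} (h0 : IsPair G l ψ₀) (hAG : A ≤ Subgroup.normalizer (G : Set GLV))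
    (hBG : B ≤ Subgroup.normalizer (G : Set GLV)) (hA : (Nat.card A).Coprime p)
    (hB : (Nat.card B).Coprime p) (hAs : Group.IsSolvable A) (hBs : Group.IsSolvable B)
    (hAl : ∀ a ∈ A, InCls G l (cj a l)) (hBl : ∀ b ∈ B, InCls G l (cj b l))
    (hAB : B ≤ Subgroup.centralizer (A : Set GLV)) :
    ∃ ψ, IsPair G l ψ ∧ (∀ a ∈ A, InCls G ψ (cj a ψ)) ∧ ∀ b ∈ B, InCls G ψ (cj b ψ) := by
  letI := clsAct (p := p) (V := V)
  have hl := h0.min_left
  set K := Q1 G l with hK
  have hKp : IsPGroup p K := isPGroup_Q1 hp hl.good.sq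
  have hKN : ∀ g ∈ K, g ∈ Subgroup.normalizer (G : Set GLV) := fun g hg =>
    Subgroup.le_normalizer (Q1_le hg)
  have hcop : ∀ {A : Subgroup GLV} {K' : Subgroup GLV}, (Nat.card A).Coprime p → IsPGroup p K' →
      (Nat.card A).Coprime (Nat.card K') := fun {A K'} ha hk => by
    obtain ⟨n, hn⟩ := IsPGroup.iff_card.mp hk
    rw [hn]; exact ha.pow_right n
  set S := {x | ∃ ψ, IsPair G l ψ ∧ x = clsPt ψ} with hS
  have hmove : ∀ g ∈ Subgroup.normalizer (G : Set GLV), InCls G l (cj g l) →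
      ∀ x ∈ S, g • x ∈ S := by
    rintro g hg hgl _ ⟨ψ, hψ, rfl⟩
    have hpair := hψ.cjN hg
    obtain ⟨ψ', hc, hψ'⟩ := exists_isPair hp ((hpair.typeTwo hp).congr
      (hgl.symm hl hpair.min_left.ne_zero) hl.ne_zero (inCls_self hpair.min_right.good)
      hpair.min_right.ne_zero)
    refine ⟨ψ', hψ', ?_⟩
    have hs := hc.sameAct hpair.min_right hψ'.min_right.ne_zero
    show ((clsPt ψ).1.map (g : E), (clsPt ψ).2.map (g : E)) = _
    rw [← clsPt_cj, clsPt, clsPt, hs.1, hs.2]
  have hKl : ∀ g ∈ K, InCls G l (cj g l) := fun g hg => by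
    rw [cj_of_mem_Q1 hg]; exact inCls_self hl.good
  have htr : ∀ x ∈ S, ∀ y ∈ S, ∃ k ∈ K, k • x = y := by
    rintro _ ⟨ψ, hψ, rfl⟩ _ ⟨ψ', hψ', rfl⟩
    obtain ⟨q, hq, rfl⟩ := exists_Q1_conj hp hψ hψ'
    exact ⟨q, hq, (clsPt_cj q ψ).symm⟩
  have hnA : A ≤ Subgroup.normalizer (K : Set GLV) := fun a ha =>
    mem_normalizer_Q1 hl (hAG ha) (hAl a ha)
  obtain ⟨x, hx, hxA⟩ := Coprime.exists_fixed_point S ⟨_, ψ₀, h0, rfl⟩ hnA (hcop hA hKp) (.inl hAs)
    (fun a ha => hmove a (hAG ha) (hAl a ha)) (fun k hk => hmove k (hKN k hk) (hKl k hk)) htr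
  set S' := {y | y ∈ S ∧ ∀ a ∈ A, a • y = y} with hS'
  set K' := K ⊓ Subgroup.centralizer (A : Set GLV) with hK'
  have hcA : ∀ g ∈ Subgroup.centralizer (A : Set GLV),
      ∀ y : Submodule (ZMod p) V × Submodule (ZMod p) V, (∀ a ∈ A, a • y = y) →
      ∀ a ∈ A, a • g • y = g • y := fun g hg y hy a ha => by
    rw [← mul_smul, Subgroup.mem_centralizer_iff.mp hg a ha, mul_smul, hy a ha]
  obtain ⟨y, ⟨⟨ψ, hψ, rfl⟩, hyA⟩, hyB⟩ := Coprime.exists_fixed_point (K := K') S' ⟨x, hx, hxA⟩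
    (Coprime.le_normalizer_inf (fun b hb => mem_normalizer_Q1 hl (hBG hb) (hBl b hb))
      (fun b hb => Subgroup.le_normalizer (hAB hb)))
    (hcop hB (hKp.to_le inf_le_left)) (.inl hBs)
    (fun b hb y hy => ⟨hmove b (hBG hb) (hBl b hb) y hy.1, hcA b (hAB hb) y hy.2⟩)
    (fun k hk y hy => ⟨hmove k (hKN k hk.1) (hKl k hk.1) y hy.1, hcA k hk.2 y hy.2⟩)
    (fun y hy z hz =>
      Coprime.exists_fixed_smul_eq hnA (hcop hA hKp) (.inl hAs) (htr y hy.1 z hz.1) hy.2 hz.2)
  exact ⟨ψ, hψ,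
    fun a ha => inCls_of_clsPt (Good.cjN hψ.min_right.good (hAG ha))
      ((clsPt_cj a ψ).trans (hyA a ha)),
    fun b hb => inCls_of_clsPt (Good.cjN hψ.min_right.good (hBG hb))
      ((clsPt_cj b ψ).trans (hyB b hb))⟩

end Cfsg.Agent.Lib.Flavell42
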