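import Cfsg.Agent.Lib.Flavell42.Roots

/-!
The quadratic lemma: in a coprimely acted linear group in characteristic `p ≥ 5` every quadratic
element of `pInv` lies in `O_p`.
-/

set_option linter.style.haveILetI false
set_option linter.unusedSimpArgs false

namespace Cfsg.Agent.Lib.Flavell42

open QuadPair Subgroup

variable {p : ℕ} [Fact p.Prime] {V : Type} [AddCommGroup V] [Module (ZMod p) V]

local notation "GLV" => LinearMap.GeneralLinearGroup (ZMod p) V
local notation "E" => (V →ₗ[ZMod p] V)

/-- The action on an invariant subspace. -/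
noncomputable def resHom {L : Subgroup (LinearMap.GeneralLinearGroup (ZMod p) V)}
    {W : Submodule (ZMod p) V} (h : Inv L W) :
    L →* LinearMap.GeneralLinearGroup (ZMod p) W :=
  MonoidHom.toHomUnits
    { toFun := fun g => (g.1 : E).restrict (h g.1 g.2)
      map_one' := LinearMap.ext fun w => Subtype.ext (by simp [LinearMap.restrict_apply])
      map_mul' := fun g g' => LinearMap.ext fun w => Subtype.ext (by
        simp [LinearMap.restrict_apply]) }

theorem resHom_apply {L : Subgroup (LinearMap.GeneralLinearGroup (ZMod p) V)}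
    {W : Submodule (ZMod p) V} (h : Inv L W) (g : L) (w : W) :
    (((resHom h g : LinearMap.GeneralLinearGroup (ZMod p) W) : W →ₗ[ZMod p] W) w : V) =
      ((g.1 : GLV) : E) w := rfl

/-- The action on the quotient by an invariant subspace. -/
noncomputable def quoHom {L : Subgroup (LinearMap.GeneralLinearGroup (ZMod p) V)}
    {W : Submodule (ZMod p) V} (h : Inv L W) :
    L →* LinearMap.GeneralLinearGroup (ZMod p) (V ⧸ W) :=
  MonoidHom.toHomUnits
    { toFun := fun g => W.mapQ W (g.1 : E) (fun w hw => h g.1 g.2 w hw)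
      map_one' := Submodule.linearMap_qext _ (LinearMap.ext fun v => by simp)
      map_mul' := fun g g' => Submodule.linearMap_qext _ (LinearMap.ext fun v => by simp) }

theorem quoHom_apply {L : Subgroup (LinearMap.GeneralLinearGroup (ZMod p) V)}
    {W : Submodule (ZMod p) V} (h : Inv L W) (g : L) (v : V) :
    ((quoHom h g : LinearMap.GeneralLinearGroup (ZMod p) (V ⧸ W)) : (V ⧸ W) →ₗ[ZMod p] V ⧸ W)
      (Submodule.Quotient.mk v) = Submodule.Quotient.mk (((g.1 : GLV) : E) v) := rfl

theorem quad_mem_pCoreOf_aux (hp : 5 ≤ p) : ∀ (n : ℕ) (V : Type) [AddCommGroup V]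
    [Module (ZMod p) V] [Finite V] (R G : Subgroup (LinearMap.GeneralLinearGroup (ZMod p) V)),
    Nat.card G + Module.finrank (ZMod p) V ≤ n → Act R G →
    ∀ x ∈ pInv p R G, IsQuad x → x ∈ pCoreOf p G := by
  intro n
  induction n with
  | zero =>
    intro V _ _ _ R G hn
    have : 0 < Nat.card G := Nat.card_pos
    omega
  | succ n ih =>
    intro V _ _ _ R G hn hact x hx hq
    by_cases hirr : Irr (G ⊔ R)
    · have hc : Config R G := ⟨hp, hact, hirr, fun H hH R₁ h1 y hy hyq =>
        ih V R₁ H (by
          have : Nat.card H < Nat.card G := lt_of_le_of_ne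
            (Subgroup.card_le_of_le hH.le) fun e => hH.ne
            (Subgroup.eq_of_le_of_card_ge hH.le e.ge)
          omega) h1 y hy hyq⟩
      by_cases hx1 : x = 1
      · rw [hx1]; exact one_mem _
      exact (Bad.false ⟨hc, ⟨x, ⟨hx, hq⟩, hx1⟩⟩).elim
    by_cases hV : Nontrivial V
    swap
    · haveI := not_nontrivial_iff_subsingleton.mp hV
      rw [show x = 1 from Units.ext (LinearMap.ext fun v => Subsingleton.elim _ _)]
      exact one_mem _
    rw [Irr, not_and] at hirr
    have hex := hirr hV
    push Not at hex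
    obtain ⟨W, hW, hW0, hWtop⟩ := hex
    set L := G ⊔ R with hL
    set G' := G.subgroupOf L with hG'
    set R' := R.subgroupOf L with hR'
    have eG : G'.map L.subtype = G := map_subgroupOf_eq_of_le le_sup_left
    have eR : R'.map L.subtype = R := map_subgroupOf_eq_of_le le_sup_right
    haveI : Group.IsSolvable R' := by
      haveI := hact.solv
      exact Group.isSolvable_of_isSolvable_injective
        (f := (subgroupOfEquivOfLe (le_sup_right : R ≤ L)).toMonoidHom)
        (subgroupOfEquivOfLe (le_sup_right : R ≤ L)).injective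
    have hact' : Act R' G' := by
      refine ⟨fun a ha => mem_normalizer_of_forall fun y hy => ?_, ?_, ‹_›⟩
      · show (a : L).1 * y.1 * (a : L).1⁻¹ ∈ G
        exact conj_mem (hact.norm ha) hy
      · rw [Nat.card_congr (subgroupOfEquivOfLe (le_sup_left : G ≤ L)).toEquiv,
          Nat.card_congr (subgroupOfEquivOfLe (le_sup_right : R ≤ L)).toEquiv]
        exact hact.cop
    have hx' : x ∈ (pInv p R' G').map L.subtype := by
      rw [← pInv_map_injective hact' L.subtype L.subtype_injective, eG, eR]; exact hx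
    obtain ⟨x', hx', rfl⟩ := hx'
    have hcard : Nat.card G' = Nat.card G :=
      Nat.card_congr (subgroupOfEquivOfLe (le_sup_left : G ≤ L)).toEquiv
    have hd := Submodule.finrank_quotient_add_finrank W
    have hW1 : 0 < Module.finrank (ZMod p) W := by
      rw [Nat.pos_iff_ne_zero, Ne, Submodule.finrank_eq_zero]; exact hW0
    have hW2 : Module.finrank (ZMod p) W < Module.finrank (ZMod p) V := Submodule.finrank_lt hWtop
    haveI : Finite (V ⧸ W) := Finite.of_surjective _ (Submodule.mkQ_surjective W)
    set f := resHom hW with hf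
    set g := quoHom hW with hg
    have i1 : f x' ∈ pCoreOf p (G'.map f) := by
      refine ih W (R'.map f) (G'.map f) ?_ (hact'.map f) _ (map_pInv_le hact' f ⟨x', hx', rfl⟩) ?_
      · have := Nat.le_of_dvd Nat.card_pos (card_map_dvd G' f)
        omega
      · refine LinearMap.ext fun w => Subtype.ext ?_
        have := LinearMap.congr_fun hq (w : V)
        simp only [Module.End.mul_apply, LinearMap.sub_apply, Module.End.one_apply,
          LinearMap.zero_apply, map_sub, coe_subtype] at this
        simpa [Module.End.mul_apply, map_sub, hf, resHom_apply] using this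
    have i2 : g x' ∈ pCoreOf p (G'.map g) := by
      refine ih (V ⧸ W) (R'.map g) (G'.map g) ?_ (hact'.map g) _
        (map_pInv_le hact' g ⟨x', hx', rfl⟩) ?_
      · have := Nat.le_of_dvd Nat.card_pos (card_map_dvd G' g)
        omega
      · refine Submodule.linearMap_qext _ (LinearMap.ext fun v => ?_)
        have := congrArg (Submodule.Quotient.mk (p := W)) (LinearMap.congr_fun hq v)
        simp only [Module.End.mul_apply, LinearMap.sub_apply, Module.End.one_apply,
          LinearMap.zero_apply, map_sub, coe_subtype, Submodule.Quotient.mk_sub,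
          Submodule.Quotient.mk_zero] at this
        simpa [Module.End.mul_apply, map_sub, hg, quoHom_apply] using this
    set N := G' ⊓ ((pCoreOf p (G'.map f)).comap f ⊓ (pCoreOf p (G'.map g)).comap g) with hN
    have hker : ∀ y ∈ f.ker ⊓ g.ker, y ^ p = 1 := by
      rintro y ⟨h1, h3⟩
      have hyW : ∀ w ∈ W, ((y.1 : _) : V →ₗ[ZMod p] V) w = w := fun w hw => by
        rw [← resHom_apply hW y ⟨w, hw⟩, ← hf, MonoidHom.mem_ker.mp h1]; rfl
      have hyq : ∀ v, ((y.1 : _) : V →ₗ[ZMod p] V) v - v ∈ W := fun v => by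
        rw [← Submodule.Quotient.eq, ← quoHom_apply hW y v, ← hg, MonoidHom.mem_ker.mp h3]; rfl
      have hsq : ((y.1 : V →ₗ[ZMod p] V) - 1) * ((y.1 : V →ₗ[ZMod p] V) - 1) = 0 :=
        LinearMap.ext fun v => by
          have := hyW _ (hyq v)
          simp only [Module.End.mul_apply, LinearMap.sub_apply, Module.End.one_apply,
            LinearMap.zero_apply, map_sub] at this ⊢
          rw [this, sub_self]
      refine Subtype.ext ?_
      show y.1 ^ p = 1
      rw [← tau_of_val hsq, tau_pow hsq, ZMod.natCast_self, zero_smul, tau_zero]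
    have hNp : IsPGroup p N := by
      rintro ⟨y, hy⟩
      obtain ⟨a, ha⟩ := CosetGraph.SylowIn.isPGroup_pCoreOf p (G'.map f) ⟨f y, hy.2.1⟩
      obtain ⟨b, hb⟩ := CosetGraph.SylowIn.isPGroup_pCoreOf p (G'.map g) ⟨g y, hy.2.2⟩
      have ha' : f y ^ p ^ a = 1 := congrArg Subtype.val ha
      have hb' : g y ^ p ^ b = 1 := congrArg Subtype.val hb
      refine ⟨a + b + 1, Subtype.ext ?_⟩
      show y ^ p ^ (a + b + 1) = 1
      rw [pow_succ, pow_mul]
      refine hker _ ⟨?_, ?_⟩
      · show _ ∈ MonoidHom.ker _
        rw [MonoidHom.mem_ker, map_pow, pow_add, pow_mul, ha', one_pow]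
      · show _ ∈ MonoidHom.ker _
        rw [MonoidHom.mem_ker, map_pow, pow_add, mul_comm (p ^ a), pow_mul, hb', one_pow]
    have hNn : G' ≤ normalizer (N : Set L) := fun a ha => by
      refine mem_normalizer_of_forall fun y hy => mem_inf.mpr ⟨conj_mem (le_normalizer ha) hy.1,
        mem_inf.mpr ⟨?_, ?_⟩⟩ <;> rw [mem_comap, map_mul, map_mul, map_inv]
      · exact conj_mem (CosetGraph.SylowIn.le_normalizer_pCoreOf p _ (mem_map_of_mem f ha)) hy.2.1
      · exact conj_mem (CosetGraph.SylowIn.le_normalizer_pCoreOf p _ (mem_map_of_mem g ha)) hy.2.2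
    have := CosetGraph.SylowIn.le_pCoreOf inf_le_left hNn hNp
      (mem_inf.mpr ⟨pInv_le hx', mem_inf.mpr ⟨i1, i2⟩⟩ : x' ∈ N)
    rw [← eG, ← CosetGraph.SylowIn.pCoreOf_map p G' L.subtype L.subtype_injective]
    exact mem_map_of_mem _ this

/-- A quadratic element of `pInv` lies in `O_p`. -/
theorem quad_mem_pCoreOf (hp : 5 ≤ p) [Finite V]
    {R G : Subgroup (LinearMap.GeneralLinearGroup (ZMod p) V)} (h : Act R G) {x : GLV}
    (hx : x ∈ pInv p R G) (hq : IsQuad x) : x ∈ pCoreOf p G :=
  quad_mem_pCoreOf_aux hp _ V R G le_rfl h x hx hq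

end Cfsg.Agent.Lib.Flavell42
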