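import Cfsg.Agent.Lib.Flavell42.GoodStep

/-!
`eFun (pInv p R G)` is normalised by `G` when `C_G(O_p(G)) ≤ O_p(G)`.
-/

namespace Cfsg.Agent.Lib.Flavell42

open Subgroup
open scoped commutatorElement Pointwise

set_option linter.style.haveILetI false

variable {X : Type*} [Group X] [Finite X] {p : ℕ} [Fact p.Prime] {A R G : Subgroup X}

/-- The elements of `Q ⊓ C(A)` central modulo `A`. -/
def upA (Q A : Subgroup X) (hQ : Q ≤ normalizer (A : Set X)) : Subgroup X where
  carrier := {x | x ∈ Q ∧ x ∈ centralizer (A : Set X) ∧ ∀ q ∈ Q, ⁅q, x⁆ ∈ A}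
  one_mem' := ⟨one_mem _, one_mem _, fun q _ => by simp⟩
  mul_mem' := fun {x y} hx hy => ⟨mul_mem hx.1 hy.1, mul_mem hx.2.1 hy.2.1, fun q hq => by
    rw [show ⁅q, x * y⁆ = ⁅q, x⁆ * (x * ⁅q, y⁆ * x⁻¹) by simp only [commutatorElement_def]; group]
    exact mul_mem (hx.2.2 q hq) (conj_mem (hQ hx.1) (hy.2.2 q hq))⟩
  inv_mem' := fun {x} hx => ⟨inv_mem hx.1, inv_mem hx.2.1, fun q hq => by
    rw [show ⁅q, x⁻¹⁆ = x⁻¹ * ⁅q, x⁆⁻¹ * x⁻¹⁻¹ by simp only [commutatorElement_def]; group]
    exact conj_mem (hQ (inv_mem hx.1)) (inv_mem (hx.2.2 q hq))⟩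

/-- In a step above `A` inside a `p`-group `Q`, commutators with `Q` fall into `A`. -/
theorem comm_mem_of_min {L Q Y : Subgroup X} (hQ : IsPGroup p Q) (hYQ : Y ≤ Q)
    (hLQ : L ≤ normalizer (Q : Set X)) (hQL : Q ≤ L) (hY : L ≤ normalizer (Y : Set X))
    (hA : L ≤ normalizer (A : Set X)) (hlt : A < Y)
    (hmin : ∀ Z : Subgroup X, L ≤ normalizer (Z : Set X) → A ≤ Z → Z ≤ Y → Z = A ∨ Z = Y) :
    ∀ q ∈ Q, ∀ y ∈ Y, ⁅q, y⁆ ∈ A := by
  set Z := A ⊔ closure {z | ∃ q ∈ Q, ∃ y ∈ Y, ⁅q, y⁆ = z} with hZ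
  have hZY : Z ≤ Y := sup_le hlt.le ((closure_le _).mpr (by
    rintro _ ⟨q, hq, y, hy, rfl⟩
    exact mul_mem (conj_mem (hY (hQL hq)) hy) (inv_mem hy)))
  have hZn : L ≤ normalizer (Z : Set X) := fun g hg => by
    refine mem_normalizer_of_forall fun z hz => ?_
    have hle : Z ≤ Z.comap (MulAut.conj g).toMonoidHom :=
      sup_le (fun a ha => mem_sup_left (conj_mem (hA hg) ha)) ((closure_le _).mpr (by
        rintro _ ⟨q, hq, y, hy, rfl⟩
        show MulAut.conj g ⁅q, y⁆ ∈ Z
        rw [map_commutatorElement]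
        exact mem_sup_right (subset_closure ⟨_, conj_mem (hLQ hg) hq, _, conj_mem (hY hg) hy, rfl⟩)))
    exact hle hz
  rcases hmin Z hZn le_sup_left hZY with e | e
  · exact fun q hq y hy => e.le (mem_sup_right (subset_closure ⟨q, hq, y, hy, rfl⟩))
  exfalso
  haveI := hQ.isNilpotent
  obtain ⟨n, hn⟩ := (Subgroup.isNilpotent_iff_lowerCentralSeries Q).mp ‹_›
  have key : ∀ i, Y ≤ A ⊔ Q.lowerCentralSeries i := by
    intro i
    induction i with
    | zero => rw [Subgroup.lowerCentralSeries_zero]; exact hYQ.trans le_sup_right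
    | succ i ih =>
      refine e.ge.trans (sup_le le_sup_left ((closure_le _).mpr ?_))
      rintro _ ⟨q, hq, y, hy, rfl⟩
      have hnA : Q ≤ normalizer (A : Set X) := hQL.trans hA
      have hLA : Q.lowerCentralSeries i ≤ Q := by
        induction i with
        | zero => rw [Subgroup.lowerCentralSeries_zero]
        | succ i _ =>
          rw [Subgroup.lowerCentralSeries_succ]
          refine commutator_le.mpr fun a ha b hb => ?_
          have ha' : a ∈ Q := Q.lowerCentralSeries_le_self i ha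
          exact mul_mem (mul_mem (mul_mem ha' hb) (inv_mem ha')) (inv_mem hb)
      obtain ⟨a, ha, c, hc, rfl⟩ := (Set.mem_mul.mp (show y ∈ (A : Set X) * (Q.lowerCentralSeries i : Set X) by
        rw [← coe_mul_of_right_le_normalizer_left A _ (hLA.trans hnA)]; exact ih hy))
      rw [show ⁅q, a * c⁆ = ⁅q, a⁆ * (a * ⁅q, c⁆ * a⁻¹) by simp only [commutatorElement_def]; group]
      refine mul_mem (mem_sup_left (mul_mem (conj_mem (hnA hq) ha) (inv_mem ha))) ?_
      refine mul_mem (mul_mem (mem_sup_left ha) (mem_sup_right ?_)) (mem_sup_left (inv_mem ha))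
      rw [← commutatorElement_inv, Subgroup.lowerCentralSeries_succ]
      exact inv_mem (commutator_mem_commutator hc hq)
  refine hlt.not_ge ((key n).trans ?_)
  rw [hn, sup_bot_eq]

/-- The main induction. -/
theorem oFun_le_pCoreOf (hp : 5 ≤ p) : ∀ (n : ℕ) (G : Subgroup X), Nat.card G ≤ n → Act R G →
    G ⊓ centralizer (pCoreOf p G : Set X) ≤ pCoreOf p G →
    oFun (pInv p R G) ≤ pCoreOf p G := by
  intro n
  induction n with
  | zero =>
    intro G hn
    have : 0 < Nat.card G := Nat.card_pos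
    omega
  | succ n ih =>
    intro G hn h hC
    set P := pInv p R G with hPdef
    set Q := pCoreOf p G with hQdef
    have hQP : Q ≤ P := pCoreOf_le_pInv h
    have hQG : Q ≤ G := CosetGraph.SylowIn.pCoreOf_le p G
    have hQp : IsPGroup p Q := CosetGraph.SylowIn.isPGroup_pCoreOf p G
    have hoP : oFun P ≤ P := fOp_le
    have hnQ : G ⊔ R ≤ normalizer (Q : Set X) :=
      (sup_le le_normalizer h.norm).trans normalizer_le_normalizer_pCoreOf
    by_cases hex : ∃ H : Subgroup X, H < G ∧ G ⊔ R ≤ normalizer (H : Set X) ∧ Q ≤ H ∧ oFun P ≤ H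
    · obtain ⟨H, hHG, hHn, hQH, hoH⟩ := hex
      have hHR : R ≤ normalizer (H : Set X) := le_sup_right.trans hHn
      have hHG' : G ≤ normalizer (H : Set X) := le_sup_left.trans hHn
      have hPH := pInv_eq_inf (p := p) h hHG.le hHR hHG'
      have hcore : pCoreOf p H = Q := le_antisymm (pCoreOf_mono_normal hHG.le hHG')
        (CosetGraph.SylowIn.le_pCoreOf hQH
          (hHG.le.trans (CosetGraph.SylowIn.le_normalizer_pCoreOf p G)) hQp)
      have hlt : Nat.card H < Nat.card G := lt_of_le_of_ne (card_le_of_le hHG.le) fun e =>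
        hHG.ne (eq_of_le_of_card_ge hHG.le e.ge)
      have := ih H (by omega) (h.sub hHG.le hHR) (by
        rw [hcore]
        exact (inf_le_inf_right _ hHG.le).trans hC)
      rw [hcore, hPH] at this
      rw [← (eFun_eq_of_oFun_le (P := P) (P' := P ⊓ H) inf_le_left (le_inf hoP hoH)).2]
      exact this
    push Not at hex
    have hbn : G ⊔ R ≤ normalizer ((⊥ : Subgroup X) : Set X) := by rw [normalizer_eq_top]; exact le_top
    have hcen : ∀ B : Subgroup X, B ≤ Q → G ⊔ R ≤ normalizer (B : Set X) → IsMulCommutative B →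
        pRes p G ≤ centralizer (B : Set X) := by
      intro B hBQ hBn hBc
      have hBcomm : ∀ a ∈ B, ∀ b ∈ B, Commute a b := fun a ha b hb =>
        congrArg Subtype.val (hBc.is_comm.comm ⟨a, ha⟩ ⟨b, hb⟩)
      have hBe : B ≤ eFun P :=
        le_eFun_of_abelian (hBQ.trans hQP) hBc (pInv_le.trans (le_sup_left.trans hBn))
      obtain ⟨S, hS⟩ := exists_isStab hp h _ B ⊥ le_rfl bot_le (hQp.to_le hBQ)
        (fun a ha b hb => mem_bot.mpr (commutatorElement_eq_one_iff_mul_comm.mpr (hBcomm a ha b hb).eq))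
        hBn hbn
      have hoS : oFun P ≤ S := by
        refine fOp_le_iff.mpr fun T hT hAdm t ht => hS.quad t (hT ht) fun a ha => ?_
        have := hAdm.1 B hBe hBcomm
          (fun u hu => hBn (mem_sup_left (pInv_le (hT hu)))) a ha t ht t ht
        rw [← commutatorElement_inv a t, mem_bot, commutatorElement_eq_one_iff_mul_comm]
        exact this.inv_left.symm.eq
      have hSQ : S ⊔ Q = G := by
        by_contra hne
        exact hex (S ⊔ Q) (lt_of_le_of_ne (sup_le hS.le hQG) hne)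
          (Coprime.le_normalizer_sup (sup_le hS.normG hS.normR) hnQ) le_sup_right
          (hoS.trans le_sup_left)
      refine pRes_le_of fun g hg => ?_
      rw [← hSQ, sup_comm] at hg
      obtain ⟨i, hi⟩ := exists_pow_mem_of_sup hQp (hQG.trans hS.normG) hg
      obtain ⟨k, hk⟩ := hS.pow _ hi
      refine ⟨i + k, mem_centralizer_iff.mpr fun b hb => ?_⟩
      rw [pow_add, pow_mul]
      exact (commutatorElement_eq_one_iff_mul_comm.mp (mem_bot.mp (hk b hb))).symm
    obtain ⟨A, ⟨hAQ, hAn, hAc⟩, hAmax⟩ := Set.Finite.exists_maximalFor (id : Subgroup X → Subgroup X)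
      {A | A ≤ Q ∧ G ⊔ R ≤ normalizer (A : Set X) ∧ IsMulCommutative A} (Set.toFinite _)
      ⟨⊥, bot_le, hbn, inferInstance⟩
    have hAcomm : ∀ a ∈ A, ∀ b ∈ A, Commute a b := fun a ha b hb =>
      congrArg Subtype.val (hAc.is_comm.comm ⟨a, ha⟩ ⟨b, hb⟩)
    have hOA := hcen A hAQ hAn hAc
    have hQnA : Q ≤ normalizer (A : Set X) := hQG.trans (le_sup_left.trans hAn)
    set U := upA Q A hQnA with hU
    have hUn : G ⊔ R ≤ normalizer (U : Set X) := by
      intro g hg
      refine mem_normalizer_of_forall fun x hx => ⟨conj_mem (hnQ hg) hx.1,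
        mem_centralizer_iff.mpr fun a ha => ?_, fun q hq => ?_⟩
      · have h1 : g⁻¹ * a * g ∈ A := by simpa using conj_mem (inv_mem (hAn hg)) ha
        calc a * (g * x * g⁻¹) = g * ((g⁻¹ * a * g) * x) * g⁻¹ := by group
          _ = g * (x * (g⁻¹ * a * g)) * g⁻¹ := by rw [mem_centralizer_iff.mp hx.2.1 _ h1]
          _ = g * x * g⁻¹ * a := by group
      · have h1 : g⁻¹ * q * g ∈ Q := by simpa using conj_mem (inv_mem (hnQ hg)) hq
        rw [show ⁅q, g * x * g⁻¹⁆ = g * ⁅g⁻¹ * q * g, x⁆ * g⁻¹ by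
          simp only [commutatorElement_def]; group]
        exact conj_mem (hAn hg) (hx.2.2 _ h1)
    set D := A ⊔ ⨆ Y ∈ {Y | IsStep p R G A Y}, Y with hD
    have hDU : D ≤ U := sup_le
      (fun a ha => ⟨hAQ ha, mem_centralizer_iff.mpr fun b hb => hAcomm b hb a ha, fun q hq =>
        mul_mem (conj_mem (hQnA hq) ha) (inv_mem ha)⟩)
      (iSup₂_le fun Y hY x hx => ⟨hY.le hx,
        mem_centralizer_iff.mpr fun a ha => hY.cent a ha x hx, fun q hq => hY.comm q hq x hx⟩)
    have hUQ : U ≤ Q := fun x hx => hx.1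
    have hDn : G ⊔ R ≤ normalizer (D : Set X) := by
      refine Coprime.le_normalizer_sup hAn fun g hg => mem_normalizer_of_forall fun x hx => ?_
      have hle : (⨆ Y ∈ {Y | IsStep p R G A Y}, Y) ≤
          (⨆ Y ∈ {Y | IsStep p R G A Y}, Y).comap (MulAut.conj g).toMonoidHom :=
        iSup₂_le fun Y hY z hz => mem_iSup_of_mem Y (mem_iSup_of_mem hY (conj_mem (hY.norm hg) hz))
      exact hle hx
    have hcl : ∀ a ∈ D, ∀ b ∈ D, ∀ c ∈ D, Commute ⁅a, b⁆ c := fun a ha b hb c hc =>
      mem_centralizer_iff.mp (hDU hc).2.1 _ ((hDU hb).2.2 a (hUQ (hDU ha)))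
    have hCD : Q ⊓ centralizer (D : Set X) ≤ D := by
      set C := Q ⊓ centralizer (D : Set X) with hCdef
      have hCn : G ⊔ R ≤ normalizer (C : Set X) := by
        refine Coprime.le_normalizer_inf hnQ fun g hg => mem_normalizer_of_forall fun x hx =>
          mem_centralizer_iff.mpr fun d hd => ?_
        have h1 : g⁻¹ * d * g ∈ D := by simpa using conj_mem (inv_mem (hDn hg)) hd
        calc d * (g * x * g⁻¹) = g * ((g⁻¹ * d * g) * x) * g⁻¹ := by group
          _ = g * (x * (g⁻¹ * d * g)) * g⁻¹ := by rw [mem_centralizer_iff.mp hx _ h1]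
          _ = g * x * g⁻¹ * d := by group
      by_contra hnle
      have hAC : A ≤ C := fun a ha => mem_inf.mpr ⟨hAQ ha, mem_centralizer_iff.mpr fun d hd =>
        (mem_centralizer_iff.mp (hDU hd).2.1 a ha).symm⟩
      have hne : A < C := lt_of_le_of_ne hAC fun e => hnle (e ▸ le_sup_left)
      obtain ⟨Y, ⟨hAY, hYC, hYn⟩, hYmin⟩ := Set.Finite.exists_minimalFor
        (id : Subgroup X → Subgroup X)
        {Y | A < Y ∧ Y ≤ C ∧ G ⊔ R ≤ normalizer (Y : Set X)} (Set.toFinite _) ⟨C, hne, le_rfl, hCn⟩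
      have hmin : ∀ Z : Subgroup X, G ⊔ R ≤ normalizer (Z : Set X) → A ≤ Z → Z ≤ Y →
          Z = A ∨ Z = Y := fun Z hZn hAZ hZY => by
        rcases hAZ.eq_or_lt with e | e
        · exact .inl e.symm
        · exact .inr (le_antisymm hZY (hYmin ⟨e, hZY.trans hYC, hZn⟩ hZY))
      have hstep : IsStep p R G A Y := ⟨hYC.trans inf_le_left, hYn, hAn, hAY,
        fun a ha x hx => mem_centralizer_iff.mp (hYC hx).2 a (mem_sup_left ha),
        comm_mem_of_min hQp (hYC.trans inf_le_left) hnQ (hQG.trans le_sup_left) hYn hAn hAY hmin,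
        hmin⟩
      have hYc : IsMulCommutative Y := ⟨⟨fun a b => Subtype.ext
        ((mem_centralizer_iff.mp (hYC b.2).2 a.1 (mem_sup_right
          (mem_iSup_of_mem Y (mem_iSup_of_mem hstep a.2)))))⟩⟩
      exact hAY.not_ge (hAmax ⟨hstep.le, hYn, hYc⟩ hAY.le)
    have hDe : D ≤ eFun P := by
      refine sup_le (le_eFun_of_abelian (hAQ.trans hQP) hAc (pInv_le.trans (le_sup_left.trans hAn)))
        (iSup₂_le fun Y hY => ?_)
      rw [← fOp_oFun]
      exact le_fOp (hY.le.trans hQP) (hY.adm hp h hOA hoP)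
    exact fOp_le_pCoreOf hp h hC (hDU.trans hUQ) hDn hcl hCD hDe

/-- `G` normalises the characteristic subgroup `eFun` of `pInv p R G`. -/
theorem normalizer_eFun_pInv (hp : 5 ≤ p) (h : Act R G)
    (hC : G ⊓ centralizer (pCoreOf p G : Set X) ≤ pCoreOf p G) :
    G ≤ normalizer (eFun (pInv p R G) : Set X) := by
  rw [← (eFun_eq_of_oFun_le (pCoreOf_le_pInv h) (oFun_le_pCoreOf hp _ G le_rfl h hC)).1]
  exact (CosetGraph.SylowIn.le_normalizer_pCoreOf p G).trans normalizer_le_normalizer_eFun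

end Cfsg.Agent.Lib.Flavell42
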