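import Cfsg.Agent.Lib.Flavell42.IsPair

/-!
The stabiliser of a class has at most two orbits on its nonzero elements, so a coprime group of
odd order fixing the class fixes an element of it.
-/

set_option linter.style.haveILetI false
set_option linter.unusedSimpArgs false

namespace Cfsg.Agent.Lib.Flavell42

open QuadPair
open Cfsg.Agent.Lib.RootSubgroups

variable {p : ℕ} [Fact p.Prime]

section Jordan

variable {A : Type*} [Ring A] [Finite A] [Algebra (ZMod p) A]

/-- In a square closed subspace with `1` whose nonzero elements are units, equal squares differ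
by a sign. -/
theorem eq_or_eq_neg_of_sq_eq (hp : 5 ≤ p) {J : Submodule (ZMod p) A} (h1 : (1 : A) ∈ J)
    (hsq : ∀ x ∈ J, x * x ∈ J) (hu : ∀ x ∈ J, x ≠ 0 → IsUnit x) {x y : A} (hx : x ∈ J)
    (hy : y ∈ J) (h : x * x = y * y) : y = x ∨ y = -x := by
  rcases subsingleton_or_nontrivial A with hA | hA
  · exact .inl (Subsingleton.elim _ _)
  have zero_or : ∀ u ∈ J, ∀ v, u * v = 0 → u = 0 ∨ v = 0 := fun u huJ v e => by
    by_cases hu0 : u = 0
    · exact .inl hu0
    · exact .inr ((hu u huJ hu0).mul_right_eq_zero.mp e)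
  have commcase : Commute x y → y = x ∨ y = -x := fun hc => by
    have e : (y - x) * (y + x) = 0 := by
      rw [sub_mul, mul_add, mul_add, ← h, hc.eq]; abel
    rcases zero_or _ (sub_mem hy hx) _ e with e | e
    · exact .inl (sub_eq_zero.mp e)
    · exact .inr (eq_neg_of_add_eq_zero_left e)
  by_contra hne
  have hnc : ¬ Commute x y := fun hc => hne (commcase hc)
  have hx0 : x ≠ 0 := fun e => hnc (by rw [e]; exact Commute.zero_left _)
  set c := x * x with hc
  set s := x * y + y * x with hs
  have hcx : Commute c x := (Commute.refl x).mul_left (Commute.refl x)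
  have hcy : Commute c y := by rw [h]; exact (Commute.refl y).mul_left (Commute.refl y)
  have hsx : Commute s x := by
    show (x * y + y * x) * x = x * (x * y + y * x)
    rw [add_mul, mul_add, ← mul_assoc x x y, mul_assoc y x x, hcy.eq, mul_assoc x y x]
    abel
  have hsy : Commute s y := by
    show (x * y + y * x) * y = y * (x * y + y * x)
    rw [add_mul, mul_add, ← mul_assoc y y x, mul_assoc x y y, ← h, hcx.eq, mul_assoc y x y]
    abel
  have hsc : Commute s c := hsx.mul_right hsx
  have polar : ∀ u ∈ J, ∀ v ∈ J, Commute u v → u * v ∈ J := fun u hu' v hv' huv => by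
    have hm := sub_mem (sub_mem (hsq _ (add_mem hu' hv')) (hsq u hu')) (hsq v hv')
    have e : (u + v) * (u + v) - u * u - v * v = (2 : ZMod p) • (u * v) := by
      rw [add_mul, mul_add, mul_add, ← huv.eq]; module
    rw [e] at hm
    have := J.smul_mem (2 : ZMod p)⁻¹ hm
    rwa [smul_smul, inv_mul_cancel₀ (two_ne hp), one_smul] at this
  have hcJ : c ∈ J := hsq x hx
  have hsJ : s ∈ J := by
    have := sub_mem (sub_mem (hsq _ (add_mem hx hy)) (hsq x hx)) (hsq y hy)
    convert this using 1
    rw [hs]; noncomm_ring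
  set L := Algebra.adjoin (ZMod p) ({c, s} : Set A) with hL
  have hLc : ∀ z ∈ L, Commute z x ∧ Commute z y ∧ Commute z c ∧ Commute z s := by
    intro z hz
    induction hz using Algebra.adjoin_induction with
    | mem z hz =>
      rcases hz with rfl | rfl
      · exact ⟨hcx, hcy, Commute.refl _, hsc.symm⟩
      · exact ⟨hsx, hsy, hsc, Commute.refl _⟩
    | algebraMap r =>
      exact ⟨Algebra.commutes r x, Algebra.commutes r y, Algebra.commutes r c, Algebra.commutes r s⟩
    | add u v _ _ hu hv =>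
      exact ⟨hu.1.add_left hv.1, hu.2.1.add_left hv.2.1, hu.2.2.1.add_left hv.2.2.1,
        hu.2.2.2.add_left hv.2.2.2⟩
    | mul u v _ _ hu hv =>
      exact ⟨hu.1.mul_left hv.1, hu.2.1.mul_left hv.2.1, hu.2.2.1.mul_left hv.2.2.1,
        hu.2.2.2.mul_left hv.2.2.2⟩
  have hLcomm : ∀ z ∈ L, ∀ w ∈ L, Commute z w := by
    intro z hz w hw
    induction hw using Algebra.adjoin_induction with
    | mem w hw =>
      rcases hw with rfl | rfl
      exacts [(hLc z hz).2.2.1, (hLc z hz).2.2.2]
    | algebraMap r => exact (Algebra.commutes r z).symm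
    | add u v _ _ hu hv => exact hu.add_right hv
    | mul u v _ _ hu hv => exact hu.mul_right hv
  have hLJ : ∀ z ∈ L, z ∈ J := by
    intro z hz
    induction hz using Algebra.adjoin_induction with
    | mem z hz =>
      rcases hz with rfl | rfl
      exacts [hcJ, hsJ]
    | algebraMap r => rw [Algebra.algebraMap_eq_smul_one]; exact J.smul_mem r h1
    | add u v _ _ hu hv => exact add_mem hu hv
    | mul u v hu' hv' hu hv => exact polar u hu v hv (hLcomm u hu' v hv')
  letI : CommRing L :=
    { (inferInstance : Ring L) with mul_comm := fun a b => Subtype.ext (hLcomm a.1 a.2 b.1 b.2).eq }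
  haveI : NoZeroDivisors L := ⟨fun {a b} e => by
    rcases zero_or a.1 (hLJ a.1 a.2) b.1 (congrArg Subtype.val e) with e | e
    · exact .inl (Subtype.ext e)
    · exact .inr (Subtype.ext e)⟩
  haveI : Nontrivial L :=
    ⟨⟨0, 1, fun e => zero_ne_one (α := A) (congrArg Subtype.val e)⟩⟩
  haveI : IsDomain L := NoZeroDivisors.to_isDomain L
  letI : Field L := (Finite.isField_of_domain L).toField
  letI : Fintype L := Fintype.ofFinite L
  have hodd : Fintype.card L % 2 = 1 := by
    haveI : CharP L p := charP_of_injective_algebraMap (algebraMap (ZMod p) L).injective p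
    obtain ⟨n, -, hn⟩ := FiniteField.card L p
    rw [hn]
    exact Nat.odd_iff.mp ((Fact.out : p.Prime).odd_of_ne_two (by omega)).pow
  let cL : L := ⟨c, Algebra.subset_adjoin (.inl rfl)⟩
  let sL : L := ⟨s, Algebra.subset_adjoin (.inr rfl)⟩
  have hc0 : cL ≠ 0 := fun e => hx0 <| by
    have e' : x * x = 0 := congrArg Subtype.val e
    rcases zero_or x hx x e' with e | e <;> exact e
  obtain ⟨a, b, hab⟩ := FiniteField.exists_root_sum_quadratic
    (f := (Polynomial.X ^ 2 : Polynomial L))
    (g := -(Polynomial.C cL * Polynomial.X ^ 2 + Polynomial.C sL * Polynomial.X + Polynomial.C cL))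
    (by simp) (by rw [Polynomial.degree_neg, Polynomial.degree_quadratic hc0]) hodd
  simp only [Polynomial.eval_pow, Polynomial.eval_X, Polynomial.eval_neg, Polynomial.eval_add,
    Polynomial.eval_mul, Polynomial.eval_C] at hab
  obtain ⟨hbx, hby, hbc, hbs⟩ := hLc b.1 b.2
  obtain ⟨hax, hay, hac, has⟩ := hLc a.1 a.2
  set u := b.1 * x + y with hu'
  have huJ : u ∈ J := add_mem (polar _ (hLJ _ b.2) x hx hbx) hy
  have hu2 : u * u = a.1 * a.1 := by
    have e : a.1 * a.1 = c * (b.1 * b.1) + s * b.1 + c := by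
      have := congrArg Subtype.val hab
      push_cast [pow_two] at this
      rw [← sub_eq_zero, ← this]
      simp only [cL, sL]
      abel
    have e1 : b.1 * x * (b.1 * x) = b.1 * b.1 * c := by
      rw [mul_assoc, ← mul_assoc x, ← hbx.eq, mul_assoc b.1 x, ← mul_assoc b.1 b.1]
    have e2 : b.1 * x * y + y * (b.1 * x) = b.1 * s := by
      rw [hs, mul_add, mul_assoc, ← mul_assoc y, ← hby.eq, mul_assoc]
    have e3 : y * y = c := h.symm
    calc u * u = b.1 * x * (b.1 * x) + (b.1 * x * y + y * (b.1 * x)) + y * y := by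
          rw [hu', add_mul, mul_add, mul_add]; abel
      _ = _ := by rw [e1, e2, e3, e, (hbc.mul_left hbc).eq, hbs.eq]
  have hau : Commute a.1 u := ((hLcomm a.1 a.2 b.1 b.2).mul_right hax).add_right hay
  have e : (u - a.1) * (u + a.1) = 0 := by
    rw [sub_mul, mul_add u u a.1, mul_add a.1 u a.1, hu2, hau.eq]; abel
  have hux : Commute u x := by
    rcases zero_or _ (sub_mem huJ (hLJ _ a.2)) _ e with e | e
    · rw [sub_eq_zero.mp e]; exact hax
    · rw [eq_neg_of_add_eq_zero_left e]; exact hax.neg_left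
  apply hnc
  have := hux.sub_left (hbx.mul_left (Commute.refl x))
  rw [hu', add_sub_cancel_left] at this
  exact this.symm

end Jordan

variable {V : Type} [AddCommGroup V] [Module (ZMod p) V] [Finite V]
  {G : Subgroup (LinearMap.GeneralLinearGroup (ZMod p) V)}

local notation "GLV" => LinearMap.GeneralLinearGroup (ZMod p) V
local notation "E" => (V →ₗ[ZMod p] V)

theorem odd_card (hp : 5 ≤ p) {α φ : E} (h : IsPair G α φ)
    {R : Subgroup (LinearMap.GeneralLinearGroup (ZMod p) V)}
    (hcop : (Nat.card R).Coprime (Nat.card G)) : Odd (Nat.card R) := by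
  have hi : torus α φ (-1) ∈ G := torus_mem h.rel h.min_left.good h.min_right.good _
  have hne : torus α φ (-1) ≠ 1 := fun e => by
    have h1 := (torus_neg_one_mul h.rel).1
    rw [e, Units.val_one, one_mul, eq_neg_iff_add_eq_zero, ← two_smul (ZMod p)] at h1
    exact h.min_left.ne_zero ((smul_eq_zero.mp h1).resolve_left (two_ne hp))
  have h2 : orderOf (torus α φ (-1)) = 2 :=
    orderOf_eq_prime (by rw [pow_two, torus_neg_one_sq h.rel]) hne
  have hd : 2 ∣ Nat.card G := by
    exact (dvd_of_eq h2.symm).trans (Subgroup.orderOf_dvd_natCard G hi)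
  exact Nat.coprime_two_right.mp (hcop.coprime_dvd_right hd)

theorem sq_mem_cls (hp : 5 ≤ p) {α φ ε : E} (h : IsPair G α φ) (hε : InCls G α ε) :
    InCls G α (ε * φ * ε) := by
  by_cases h0 : ε = 0
  · subst h0; simpa using inCls_zero (G := G) α
  have hT := (h.typeTwo hp).congr hε h0 (inCls_self h.min_right.good) h.min_right.ne_zero
  have := hT.inCls_left (two_ne hp) (card_ne_three hp) Polynomial.X
  rw [Polynomial.aeval_X, ← NP_N hε.good.sq h.rel.ff, ← mul_assoc] at this
  exact this.trans_sameAct (hε.sameAct h.min_left h0)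

/-- Squares are injective up to sign. -/
theorem sq_cases (hp : 5 ≤ p) {α φ : E} (h : IsPair G α φ) {x y : E} (hx : InCls G α x)
    (hy : InCls G α y) (he : x * φ * x = y * φ * y) : y = x ∨ y = -x := by
  set W := LinearMap.range α with hW
  let C := cls h.min_left.good
  have hpres : ∀ ε : C, ∀ w ∈ W, ((ε : E) * φ) w ∈ W := fun ε w _ =>
    InCls.range_le ε.2 ⟨φ w, rfl⟩
  let Φ : C →ₗ[ZMod p] Module.End (ZMod p) W :=
    { toFun := fun ε => ((ε : E) * φ).restrict (hpres ε)
      map_add' := fun a b => LinearMap.ext fun w => Subtype.ext (by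
        simp [LinearMap.restrict_apply, add_mul])
      map_smul' := fun c a => LinearMap.ext fun w => Subtype.ext (by
        simp [LinearMap.restrict_apply]) }
  have hΦ : ∀ (ε : C) (w : W), (Φ ε w).1 = (ε : E) (φ w.1) := fun _ _ => rfl
  have hunit : ∀ ε : C, ε ≠ 0 → IsUnit (Φ ε) := by
    intro ε hε
    rw [Module.End.isUnit_iff]
    have hinj : Function.Injective (Φ ε) := (injective_iff_map_eq_zero _).mpr fun w hw => by
      have h1 : (ε : E) (φ w.1) = 0 := congrArg Subtype.val hw
      have h2 : φ w.1 ∈ LinearMap.ker α := by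
        rw [← (InCls.sameAct h.min_left ε.2 fun e => hε (Subtype.ext e)).2]
        exact h1
      obtain ⟨u, hu⟩ := w.2
      refine Subtype.ext ?_
      rw [← hu] at h2 ⊢
      rwa [LinearMap.mem_ker, ← Module.End.mul_apply, ← Module.End.mul_apply, h.rel.afa] at h2
    exact ⟨hinj, LinearMap.injective_iff_surjective.mp hinj⟩
  have hΦinj : Function.Injective Φ := (injective_iff_map_eq_zero Φ).mpr fun ε hε => by
    by_contra hne
    have := hunit ε hne
    rw [hε, isUnit_zero_iff] at this
    apply h.min_left.ne_zero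
    refine LinearMap.ext fun v => ?_
    have := congrArg (fun f : Module.End (ZMod p) W => (f ⟨α v, v, rfl⟩).1) this
    simpa using this.symm
  have hone : Φ ⟨α, inCls_self h.min_left.good⟩ = 1 := by
    refine LinearMap.ext fun w => Subtype.ext ?_
    obtain ⟨u, hu⟩ := w.2
    show α (φ w.1) = w.1
    rw [← hu, ← Module.End.mul_apply, ← Module.End.mul_apply, h.rel.afa]
  have hmul : ∀ ε : C, Φ ⟨_, sq_mem_cls hp h ε.2⟩ = Φ ε * Φ ε := fun ε =>
    LinearMap.ext fun w => Subtype.ext rfl
  haveI : Finite (Module.End (ZMod p) W) :=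
    Finite.of_injective _ (DFunLike.coe_injective (F := W →ₗ[ZMod p] W))
  have key := eq_or_eq_neg_of_sq_eq hp (J := LinearMap.range Φ) ⟨_, hone⟩
    (by rintro _ ⟨ε, rfl⟩; exact ⟨_, hmul ε⟩)
    (by
      rintro _ ⟨ε, rfl⟩ hne
      exact hunit ε fun e => hne (by rw [e, map_zero]))
    (x := Φ ⟨x, hx⟩) (y := Φ ⟨y, hy⟩) ⟨_, rfl⟩ ⟨_, rfl⟩
    (by rw [← hmul, ← hmul]; exact congrArg Φ (Subtype.ext he))
  rcases key with e | e
  · exact .inl (congrArg Subtype.val (hΦinj e))
  · rw [← map_neg] at e
    exact .inr (congrArg Subtype.val (hΦinj e))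

theorem mul_mul_eq_of_inCls {α φ φ' : E} (h : Units2 α φ) (hc : InCls G φ φ') :
    φ' * (α * φ) = φ' ∧ φ * α * φ' = φ' := by
  constructor
  · refine LinearMap.ext fun v => ?_
    have : v - α (φ v) ∈ LinearMap.ker φ' := hc.ker_le (by
      rw [LinearMap.mem_ker, map_sub, ← Module.End.mul_apply φ α, ← Module.End.mul_apply, h.faf,
        sub_self])
    rw [LinearMap.mem_ker, map_sub, sub_eq_zero] at this
    exact this.symm
  · refine LinearMap.ext fun v => ?_
    obtain ⟨u, hu⟩ := hc.range_le ⟨v, rfl⟩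
    rw [Module.End.mul_apply, ← hu, ← Module.End.mul_apply, h.faf]

/-- Every square is conjugate to the base element. -/
theorem exists_cj_eq_sq (hp : 5 ≤ p) {α φ ε : E} (h : IsPair G α φ) (hε : InCls G α ε)
    (h0 : ε ≠ 0) : ∃ g ∈ G, cj g α = ε * φ * ε := by
  obtain ⟨ψ, hc, hψ⟩ := exists_isPair hp
    ((h.typeTwo hp).congr hε h0 (inCls_self h.min_right.good) h.min_right.ne_zero)
  refine ⟨weyl ε ψ 1 * weyl α φ 1, ?_, ?_⟩
  · have hw : ∀ {α φ : E}, IsPair G α φ → weyl α φ 1 ∈ G := fun {α φ} h =>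
      mul_mem (mul_mem (tau_smul_mem h.min_left.good _) (tau_smul_mem h.min_right.good _))
        (tau_smul_mem h.min_left.good _)
    exact mul_mem (hw hψ) (hw h)
  rw [cj_comp, cj_weyl_left h.rel, cj_neg]
  have hcls : InCls G ψ φ := hc.symm h.min_right hψ.min_right.ne_zero
  obtain ⟨k1, k2⟩ := mul_mul_eq_of_inCls hψ.rel hcls
  have k3 : ψ * φ = 0 := hc.mul_eq_zero h.rel.ff (inCls_self h.min_right.good)
  have k4 : φ * ψ = 0 := (inCls_self h.min_right.good).mul_eq_zero h.rel.ff hc
  have hw := val_weyl hψ.rel (one_ne_zero (α := ZMod p))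
  have hi : (((weyl ε ψ 1)⁻¹ : GLV) : E) = e0 ε ψ - ε + ψ := by
    refine Units.inv_eq_of_mul_eq_one_right ?_
    rw [hw]
    have r := hψ.rel
    simp only [e0, add_mul, mul_add, sub_mul, mul_sub, one_mul, mul_one, one_smul, inv_one,
      mul_assoc, r.aa, r.ff, r.aa', r.ff', r.afa1, r.faf1, r.afa', r.faf', mul_zero, zero_mul]
    abel
  have z1 : e0 ε ψ * φ = 0 := by
    rw [e0, sub_mul, sub_mul, one_mul, mul_assoc ε, k3, k2]; simp
  have z2 : φ * e0 ε ψ = 0 := by
    rw [e0, mul_sub, mul_sub, mul_one, k1, ← mul_assoc, k4]; simp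
  rw [cj, hw, hi, one_smul, inv_one, one_smul, sub_mul, add_mul, z1, k3, zero_add, sub_zero, mul_add,
    mul_sub, mul_assoc ε φ (e0 ε ψ), z2, mul_assoc ε φ ψ, k4]
  simp

/-- A coprime group fixing a class fixes a nonzero element of it. -/
theorem exists_fixed_elem (hp : 5 ≤ p) {α φ : E} (h : IsPair G α φ)
    {R : Subgroup (LinearMap.GeneralLinearGroup (ZMod p) V)}
    (hRG : R ≤ Subgroup.normalizer (G : Set GLV)) (hcop : (Nat.card R).Coprime (Nat.card G))
    (hRs : Group.IsSolvable R) (hRc : ∀ a ∈ R, InCls G α (cj a α)) :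
    ∃ e, InCls G α e ∧ e ≠ 0 ∧ ∀ a ∈ R, cj a e = e := by
  classical
  letI act : MulAction GLV E :=
    { smul := cj, one_smul := cj_one', mul_smul := cj_comp }
  letI := clsAct (p := p) (V := V)
  have hN := h.min_left
  set H := G ⊓ MulAction.stabilizer GLV (clsPt α) with hH
  have hmemH : ∀ g ∈ G, InCls G α (cj g α) → g ∈ H := fun g hg hc => by
    refine ⟨hg, ?_⟩
    show ((clsPt α).1.map (g : E), (clsPt α).2.map (g : E)) = _
    rw [← clsPt_cj]
    have hs := hc.sameAct hN (IsMin.cjN hN (Subgroup.le_normalizer hg)).ne_zero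
    rw [clsPt, clsPt, hs.1, hs.2]
  have hHc : ∀ g ∈ H, InCls G α (cj g α) := fun g hg =>
    inCls_of_clsPt (hN.good.cj hg.1) ((clsPt_cj g α).trans hg.2)
  have hHS : ∀ g ∈ H, ∀ x, InCls G α x → InCls G α (cj g x) := fun g hg x hx =>
    (hx.cj hg.1).trans_sameAct ((hHc g hg).sameAct hN (hN.cj hg.1).ne_zero)
  have hRS : ∀ a ∈ R, ∀ x, InCls G α x → InCls G α (cj a x) := fun a ha x hx =>
    (InCls.cjN hx (hRG ha)).trans_sameAct
      ((hRc a ha).sameAct hN (IsMin.cjN hN (hRG ha)).ne_zero)
  haveI : Finite E := Finite.of_injective _ (DFunLike.coe_injective (F := V →ₗ[ZMod p] V))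
  haveI : Fintype E := Fintype.ofFinite _
  let S : Finset E := Finset.univ.filter fun x => InCls G α x ∧ x ≠ 0
  let O : E → Finset E := fun e => Finset.univ.filter fun x => ∃ g ∈ H, cj g e = x
  have hOS : ∀ e ∈ S, O e ⊆ S := by
    intro e he x hx
    simp only [S, O, Finset.mem_filter, Finset.mem_univ, true_and] at he hx ⊢
    obtain ⟨g, hg, rfl⟩ := hx
    exact ⟨hHS g hg e he.1, fun e0 => he.2 (cj_inj g (e0.trans (cj_zero g).symm))⟩
  have hhalf : ∀ e ∈ S, S.card ≤ 2 * (O e).card := by
    intro e he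
    simp only [S, Finset.mem_filter, Finset.mem_univ, true_and] at he
    obtain ⟨ψ, hc, hψ⟩ := exists_isPair hp
      ((h.typeTwo hp).congr he.1 he.2 (inCls_self h.min_right.good) h.min_right.ne_zero)
    have hs := he.1.sameAct hN he.2
    have hsub : S.image (fun x => x * ψ * x) ⊆ O e := by
      intro y hy
      simp only [S, O, Finset.mem_image, Finset.mem_filter, Finset.mem_univ, true_and] at hy ⊢
      obtain ⟨x, ⟨hx, hx0⟩, rfl⟩ := hy
      have hxe : InCls G e x := hx.trans_sameAct ⟨hs.1.symm, hs.2.symm⟩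
      obtain ⟨g, hg, hge⟩ := exists_cj_eq_sq hp hψ hxe hx0
      refine ⟨g, hmemH g hg ?_, hge⟩
      have h1 : InCls G α (cj g e) := by
        rw [hge]; exact (sq_mem_cls hp hψ hxe).trans_sameAct hs
      exact ((he.1.symm hN he.2).cj hg).trans_sameAct (h1.sameAct hN (hψ.min_left.cj hg).ne_zero)
    refine le_trans (Finset.card_le_mul_card_image (f := fun x => x * ψ * x) S 2 ?_)
      (Nat.mul_le_mul_left 2 (Finset.card_le_card hsub))
    intro y hy
    obtain ⟨x, hx, rfl⟩ := Finset.mem_image.mp hy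
    refine le_trans (Finset.card_le_card (t := {x, -x}) fun z hz => ?_) Finset.card_le_two
    simp only [S, Finset.mem_filter, Finset.mem_univ, true_and] at hx hz
    obtain ⟨⟨hz, -⟩, hzx⟩ := hz
    rcases sq_cases hp hψ (hx.1.trans_sameAct ⟨hs.1.symm, hs.2.symm⟩)
      (hz.trans_sameAct ⟨hs.1.symm, hs.2.symm⟩) hzx.symm with rfl | rfl <;> simp
  have hαS : α ∈ S := by simp [S, inCls_self hN.good, hN.ne_zero]
  have hself : ∀ e, e ∈ O e := fun e => by
    simp only [O, Finset.mem_filter, Finset.mem_univ, true_and]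
    exact ⟨1, one_mem _, cj_one' e⟩
  have hdisj : ∀ e e', e' ∉ O e → Disjoint (O e) (O e') := fun e e' hne => by
    rw [Finset.disjoint_left]
    intro x hx hx'
    simp only [O, Finset.mem_filter, Finset.mem_univ, true_and] at hx hx' hne
    obtain ⟨g, hg, rfl⟩ := hx
    obtain ⟨g', hg', hge⟩ := hx'
    exact hne ⟨g'⁻¹ * g, mul_mem (inv_mem hg') hg, by rw [cj_comp, ← hge, cj_inv_cj]⟩
  have hRnH : R ≤ Subgroup.normalizer (H : Set GLV) := by
    intro a ha
    refine mem_normalizer_of_forall (X := GLV) fun g hg => hmemH _ (conj_mem (hRG ha) hg.1) ?_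
    have h1 : InCls G α (cj a⁻¹ α) := hRc _ (inv_mem ha)
    rw [cj_comp, cj_comp]
    exact hRS a ha _ (hHS g hg _ h1)
  have hmap : ∀ a ∈ R, ∀ e x, x ∈ O e → cj a x ∈ O (cj a e) := by
    intro a ha e x hx
    simp only [O, Finset.mem_filter, Finset.mem_univ, true_and] at hx ⊢
    obtain ⟨g, hg, rfl⟩ := hx
    exact ⟨a * g * a⁻¹, conj_mem (hRnH ha) hg, by rw [cj_comp, cj_comp, cj_inv_cj]⟩
  have hinvR : ∀ a ∈ R, cj a α ∈ O α := by
    intro a ha
    by_contra hne
    have h1 : cj a α ∈ S := by
      simp only [S, Finset.mem_filter, Finset.mem_univ, true_and]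
      exact ⟨hRc a ha, (IsMin.cjN hN (hRG ha)).ne_zero⟩
    have h2 : cj (a * a) α ∈ S := by
      simp only [S, Finset.mem_filter, Finset.mem_univ, true_and]
      exact ⟨hRc _ (mul_mem ha ha), (IsMin.cjN hN (hRG (mul_mem ha ha))).ne_zero⟩
    have d1 := hdisj α (cj a α) hne
    by_cases hc : cj (a * a) α ∈ O α
    · refine hne ?_
      obtain ⟨j, hj⟩ : Odd (orderOf a) :=
        (odd_card hp h hcop).of_dvd_nat (Subgroup.orderOf_dvd_natCard R ha)
      have hall : ∀ i : ℕ, cj ((a * a) ^ i) α ∈ O α := by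
        intro i
        induction i with
        | zero => rw [pow_zero, cj_one']; exact hself α
        | succ i ih =>
          have h3 := hmap _ (mul_mem ha ha) _ _ ih
          rw [pow_succ', cj_comp]
          simp only [O, Finset.mem_filter, Finset.mem_univ, true_and] at h3 hc ⊢
          obtain ⟨g, hg, e1⟩ := h3
          obtain ⟨g', hg', e2⟩ := hc
          exact ⟨g * g', mul_mem hg hg', by rw [cj_comp, e2, e1]⟩
      have := hall (j + 1)
      rwa [← pow_two, ← pow_mul, show 2 * (j + 1) = orderOf a + 1 by omega, pow_succ,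
        pow_orderOf_eq_one, one_mul] at this
    · have d2 := hdisj α (cj (a * a) α) hc
      have d3 : Disjoint (O (cj a α)) (O (cj (a * a) α)) := by
        refine hdisj _ _ fun hc3 => hne ?_
        have := hmap a⁻¹ (inv_mem ha) _ _ hc3
        rwa [cj_inv_cj, ← cj_comp, inv_mul_cancel_left] at this
      have hsub : O α ∪ O (cj a α) ∪ O (cj (a * a) α) ⊆ S :=
        Finset.union_subset (Finset.union_subset (hOS _ hαS) (hOS _ h1)) (hOS _ h2)
      have hle := Finset.card_le_card hsub
      rw [Finset.card_union_of_disjoint (Finset.disjoint_union_left.mpr ⟨d2, d3⟩),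
        Finset.card_union_of_disjoint d1] at hle
      have q1 := hhalf _ hαS
      have q2 := hhalf _ h1
      have q3 := hhalf _ h2
      have : 0 < S.card := Finset.card_pos.mpr ⟨_, hαS⟩
      omega
  obtain ⟨e, he, hfix⟩ := Coprime.exists_fixed_point (K := H) (S := (↑(O α) : Set E))
    ⟨α, hself α⟩ hRnH (hcop.coprime_dvd_right (Subgroup.card_dvd_of_le inf_le_left)) (.inl hRs)
    (fun a ha x hx => by
      have h3 := hmap a ha α x hx
      have h4 := hinvR a ha
      simp only [O, Finset.coe_filter, Finset.mem_univ, true_and, Set.mem_setOf_eq,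
        Finset.mem_filter] at h3 h4 ⊢
      obtain ⟨g, hg, e1⟩ := h3
      obtain ⟨g', hg', e2⟩ := h4
      exact ⟨g * g', mul_mem hg hg', by rw [cj_comp, e2]; exact e1⟩)
    (fun k hk x hx => by
      simp only [O, Finset.coe_filter, Finset.mem_univ, true_and, Set.mem_setOf_eq] at hx ⊢
      obtain ⟨g, hg, rfl⟩ := hx
      exact ⟨k * g, mul_mem hk hg, cj_comp k g α⟩)
    (fun x hx y hy => by
      simp only [O, Finset.coe_filter, Finset.mem_univ, true_and, Set.mem_setOf_eq] at hx hy
      obtain ⟨g, hg, rfl⟩ := hx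
      obtain ⟨g', hg', rfl⟩ := hy
      exact ⟨g' * g⁻¹, mul_mem hg' (inv_mem hg), by
        show cj _ (cj g α) = _
        rw [← cj_comp, inv_mul_cancel_right]⟩)
  have heS := hOS α hαS he
  simp only [S, Finset.mem_filter, Finset.mem_univ, true_and] at heS
  exact ⟨e, heS.1, heS.2, hfix⟩

end Cfsg.Agent.Lib.Flavell42
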