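import Cfsg.Agent.Lib.Coprime.Glauberman
import Cfsg.Agent.Lib.CosetGraph.SylowIn

/-!
`pInv p R G`: the intersection of the `R`-invariant Sylow `p`-subgroups of `G` under a coprime
action; the largest `p`-subgroup of `G` normalised by `R` and by `C_G(R)`.
-/

namespace Cfsg.Agent.Lib.Flavell42

open Subgroup
open Cfsg.Agent.Lib
open Cfsg.Agent.Lib.CosetGraph.SylowIn (IsSylowIn)
open scoped Pointwise

set_option linter.style.haveILetI false

variable {X : Type*} [Group X] {p : ℕ} {R G H U : Subgroup X}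

/-- Conjugation keeps a normalised subgroup. -/
theorem conj_mem {g x : X} (hg : g ∈ normalizer (H : Set X)) (hx : x ∈ H) : g * x * g⁻¹ ∈ H :=
  (mem_normalizer_iff.mp hg x).mp hx

theorem mem_normalizer_of_forall [Finite X] {g : X} (h : ∀ x ∈ H, g * x * g⁻¹ ∈ H) :
    g ∈ normalizer (H : Set X) := by
  have he : H.map (MulAut.conj g).toMonoidHom = H := by
    refine Subgroup.eq_of_le_of_card_ge ?_ ?_
    · rintro _ ⟨x, hx, rfl⟩
      exact h x hx
    · exact le_of_eq (Subgroup.card_map_of_injective (MulAut.conj g).injective).symm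
  exact Subgroup.mem_normalizer_iff_map_conj_eq.mpr he

/-- `R` acts coprimely on `G` and is solvable. -/
structure Act (R G : Subgroup X) : Prop where
  norm : R ≤ normalizer (G : Set X)
  cop : (Nat.card R).Coprime (Nat.card G)
  solv : Group.IsSolvable R

theorem Act.sub [Finite X] (h : Act R G) (hHG : H ≤ G) (hH : R ≤ normalizer (H : Set X)) :
    Act R H :=
  ⟨hH, h.cop.coprime_dvd_right (card_dvd_of_le hHG), h.solv⟩

theorem Act.mono [Finite X] (h : Act R G) {R₁ : Subgroup X} (hR : R₁ ≤ R) : Act R₁ G :=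
  ⟨hR.trans h.norm, h.cop.coprime_dvd_left (card_dvd_of_le hR),
    @Coprime.isSolvable_of_le _ _ _ _ hR h.solv⟩

/-- The intersection of the `R`-invariant Sylow `p`-subgroups of `G`. -/
def pInv (p : ℕ) (R G : Subgroup X) : Subgroup X :=
  G ⊓ ⨅ S ∈ {S : Subgroup X | IsSylowIn p S G ∧ R ≤ normalizer (S : Set X)}, S

theorem mem_pInv {x : X} : x ∈ pInv p R G ↔
    x ∈ G ∧ ∀ S : Subgroup X, IsSylowIn p S G → R ≤ normalizer (S : Set X) → x ∈ S := by
  simp only [pInv, mem_inf, mem_iInf, Set.mem_setOf_eq, and_imp]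

theorem pInv_le : pInv p R G ≤ G := inf_le_left

theorem pInv_le_sylow {S : Subgroup X} (hS : IsSylowIn p S G) (hSR : R ≤ normalizer (S : Set X)) :
    pInv p R G ≤ S := fun _ hx => (mem_pInv.mp hx).2 S hS hSR

variable [Finite X] [Fact p.Prime]

theorem exists_invSylow_ge (h : Act R G) (hUG : U ≤ G) (hU : IsPGroup p U)
    (hUR : R ≤ normalizer (U : Set X)) :
    ∃ S, IsSylowIn p S G ∧ R ≤ normalizer (S : Set X) ∧ U ≤ S := by
  obtain ⟨P, hP, hPR⟩ :=
    Coprime.exists_invariant_sylow_ge h.norm h.cop (.inl h.solv) p U hUG hU hUR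
  exact ⟨_, CosetGraph.SylowIn.isSylowIn_map_sylow P, hPR, hP⟩

theorem exists_invSylow (h : Act R G) :
    ∃ S, IsSylowIn p S G ∧ R ≤ normalizer (S : Set X) := by
  obtain ⟨S, hS, hSR, -⟩ := exists_invSylow_ge (p := p) (U := ⊥) h bot_le IsPGroup.of_bot
    (by rw [normalizer_eq_top]; exact le_top)
  exact ⟨S, hS, hSR⟩

theorem invSylow_conj (h : Act R G) {S S' : Subgroup X} (hS : IsSylowIn p S G)
    (hSR : R ≤ normalizer (S : Set X)) (hS' : IsSylowIn p S' G)
    (hSR' : R ≤ normalizer (S' : Set X)) :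
    ∃ c ∈ G ⊓ centralizer (R : Set X), MulAut.conj c • S = S' := by
  obtain ⟨P, rfl⟩ := hS.exists_sylow
  obtain ⟨P', rfl⟩ := hS'.exists_sylow
  exact Coprime.exists_conj_invariant_sylow h.norm h.cop (.inl h.solv) P P' hSR hSR'

theorem isPGroup_pInv (h : Act R G) : IsPGroup p (pInv p R G) := by
  obtain ⟨S, hS, hSR⟩ := exists_invSylow (p := p) h
  exact hS.isPGroup.to_le (pInv_le_sylow hS hSR)

omit [Fact p.Prime] in
/-- An element normalising `G` and `R` maps invariant Sylow subgroups to such subgroups. -/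
theorem invSylow_smul {S : Subgroup X} (hS : IsSylowIn p S G) (hSR : R ≤ normalizer (S : Set X))
    {g : X} (hgG : g ∈ normalizer (G : Set X)) (hgR : g ∈ normalizer (R : Set X)) :
    IsSylowIn p (MulAut.conj g • S) G ∧ R ≤ normalizer ((MulAut.conj g • S : Subgroup X) : Set X) := by
  refine ⟨?_, fun a ha => ?_⟩
  · have := hS.conj g
    rwa [CosetGraph.SylowIn.conj_map_eq_self hgG, ← Coprime.conj_smul_eq_map] at this
  · refine mem_normalizer_of_forall fun x hx => ?_
    rw [Coprime.mem_conj_smul] at hx ⊢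
    have := conj_mem (hSR (conj_mem (g := g⁻¹) (inv_mem hgR) ha)) hx
    simpa [mul_assoc] using this

omit [Fact p.Prime] in
theorem pInv_normalized {g : X} (hgG : g ∈ normalizer (G : Set X))
    (hgR : g ∈ normalizer (R : Set X)) : g ∈ normalizer (pInv p R G : Set X) := by
  refine mem_normalizer_of_forall fun x hx => mem_pInv.mpr ⟨conj_mem hgG (pInv_le hx), ?_⟩
  intro S hS hSR
  obtain ⟨hS', hSR'⟩ := invSylow_smul hS hSR (inv_mem hgG) (inv_mem hgR)
  have := (mem_pInv.mp hx).2 _ hS' hSR'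
  rw [Coprime.mem_conj_smul] at this
  simpa [mul_assoc] using this

omit [Fact p.Prime] in
theorem centralizer_le_normalizer_pInv {g : X} (hgG : g ∈ normalizer (G : Set X))
    (hgR : g ∈ centralizer (R : Set X)) : g ∈ normalizer (pInv p R G : Set X) :=
  pInv_normalized hgG (centralizer_le_normalizer (R : Set X) hgR)

omit [Fact p.Prime] in
theorem act_le_normalizer_pInv (h : Act R G) : R ≤ normalizer (pInv p R G : Set X) :=
  fun _ ha => pInv_normalized (h.norm ha) (le_normalizer ha)

/-- `pInv` contains every `p`-subgroup normalised by `R` and `C_G(R)`. -/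
theorem le_pInv (h : Act R G) (hUG : U ≤ G) (hU : IsPGroup p U)
    (hUR : R ≤ normalizer (U : Set X))
    (hUC : G ⊓ centralizer (R : Set X) ≤ normalizer (U : Set X)) : U ≤ pInv p R G := by
  intro x hx
  refine mem_pInv.mpr ⟨hUG hx, fun S hS hSR => ?_⟩
  obtain ⟨S₀, hS₀, hSR₀, hUS⟩ := exists_invSylow_ge h hUG hU hUR
  obtain ⟨c, hc, rfl⟩ := invSylow_conj h hS₀ hSR₀ hS hSR
  rw [Coprime.mem_conj_smul]
  refine hUS ?_
  have := conj_mem (inv_mem (hUC hc)) hx
  simpa [mul_assoc] using this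

theorem pInv_inf_le (h : Act R G) (hHG : H ≤ G) (hH : R ≤ normalizer (H : Set X)) :
    pInv p R G ⊓ H ≤ pInv p R H := by
  refine le_pInv (h.sub hHG hH) inf_le_right ((isPGroup_pInv h).to_le inf_le_left)
    (Coprime.le_normalizer_inf (act_le_normalizer_pInv h) hH) ?_
  exact Coprime.le_normalizer_inf
    (fun c hc => centralizer_le_normalizer_pInv (le_normalizer (hHG hc.1)) hc.2)
    (fun c hc => le_normalizer hc.1)

/-- For normal invariant subgroups `pInv` is the intersection. -/
theorem pInv_eq_inf (h : Act R G) (hHG : H ≤ G) (hH : R ≤ normalizer (H : Set X))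
    (hn : G ≤ normalizer (H : Set X)) : pInv p R H = pInv p R G ⊓ H := by
  refine le_antisymm (le_inf ?_ pInv_le) (pInv_inf_le h hHG hH)
  refine le_pInv h (pInv_le.trans hHG) (isPGroup_pInv (h.sub hHG hH))
    (act_le_normalizer_pInv (h.sub hHG hH)) ?_
  exact fun c hc => centralizer_le_normalizer_pInv (hn hc.1) hc.2

theorem pCoreOf_le_pInv (h : Act R G) : pCoreOf p G ≤ pInv p R G :=
  fun _ hx => mem_pInv.mpr ⟨CosetGraph.SylowIn.pCoreOf_le p G hx,
    fun _ hS _ => CosetGraph.SylowIn.pCoreOf_le_sylow hS hx⟩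

omit [Fact p.Prime] in
/-- Whatever normalises `G` normalises `O_p(G)`. -/
theorem normalizer_le_normalizer_pCoreOf :
    normalizer (G : Set X) ≤ normalizer (pCoreOf p G : Set X) := by
  intro g hg
  refine CosetGraph.SylowIn.mem_normalizer_iff_map.mpr ?_
  exact (CosetGraph.SylowIn.pCoreOf_map p G _ (MulAut.conj g).injective).trans
    (congrArg _ (CosetGraph.SylowIn.conj_map_eq_self hg))

omit [Fact p.Prime] in
theorem pCoreOf_mono_normal (hHG : H ≤ G) (hn : G ≤ normalizer (H : Set X)) :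
    pCoreOf p H ≤ pCoreOf p G :=
  CosetGraph.SylowIn.le_pCoreOf ((CosetGraph.SylowIn.pCoreOf_le p H).trans hHG)
    (hn.trans normalizer_le_normalizer_pCoreOf) (CosetGraph.SylowIn.isPGroup_pCoreOf p H)

variable {Y : Type*} [Group Y] [Finite Y]

omit [Fact p.Prime] in
theorem Act.map (h : Act R G) (f : X →* Y) : Act (R.map f) (G.map f) := by
  refine ⟨?_, (h.cop.coprime_dvd_left (card_map_dvd R f)).coprime_dvd_right (card_map_dvd G f), ?_⟩
  · exact (Subgroup.map_mono h.norm).trans (le_normalizer_map f)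
  · exact @Coprime.isSolvable_map _ _ _ _ f R h.solv

/-- Images of `pInv` lie in `pInv` of the image. -/
theorem map_pInv_le (h : Act R G) (f : X →* Y) :
    (pInv p R G).map f ≤ pInv p (R.map f) (G.map f) := by
  refine le_pInv (h.map f) (Subgroup.map_mono pInv_le) ((isPGroup_pInv h).map f)
    ((Subgroup.map_mono (act_le_normalizer_pInv h)).trans (le_normalizer_map f)) ?_
  rintro _ ⟨⟨g, hg, rfl⟩, hgC⟩
  have hN : R ≤ normalizer ((G ⊓ f.ker : Subgroup X) : Set X) :=
    Coprime.le_normalizer_inf h.norm (by rw [normalizer_eq_top]; exact le_top)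
  obtain ⟨n, hn, hgn⟩ := Coprime.exists_mul_fixed hN
    (h.cop.coprime_dvd_right (card_dvd_of_le inf_le_left)) (.inl h.solv) (k := g) (fun a ha => by
      refine mem_inf.mpr ⟨mul_mem (inv_mem hg) (conj_mem (h.norm ha) hg), ?_⟩
      have := mem_centralizer_iff.mp hgC (f a) ⟨a, ha, rfl⟩
      rw [MonoidHom.mem_ker, map_mul, map_mul, map_mul, map_inv, map_inv, this]
      group)
  refine (le_normalizer_map f) ⟨g * n, centralizer_le_normalizer_pInv
    (le_normalizer (mul_mem hg (mem_inf.mp hn).1)) hgn, ?_⟩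
  rw [map_mul, (mem_inf.mp hn).2, mul_one]

/-- `pInv` passes through injective maps. -/
theorem pInv_map_injective (h : Act R G) (f : X →* Y) (hf : Function.Injective f) :
    pInv p (R.map f) (G.map f) = (pInv p R G).map f := by
  refine le_antisymm ?_ (map_pInv_le h f)
  intro y hy
  obtain ⟨x, hx, rfl⟩ := pInv_le hy
  refine ⟨x, ?_, rfl⟩
  suffices hle : G ⊓ (pInv p (R.map f) (G.map f)).comap f ≤ pInv p R G from hle ⟨hx, hy⟩
  refine le_pInv h inf_le_left ?_ ?_ ?_
  · exact ((isPGroup_pInv (h.map f)).comap_of_injective f hf).to_le inf_le_right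
  · refine Coprime.le_normalizer_inf h.norm ?_
    exact fun a ha => (le_normalizer_comap f)
      (act_le_normalizer_pInv (h.map f) ⟨a, ha, rfl⟩)
  · refine Coprime.le_normalizer_inf (fun c hc => le_normalizer hc.1) ?_
    refine fun c hc => (le_normalizer_comap f)
      (centralizer_le_normalizer_pInv (le_normalizer ⟨c, hc.1, rfl⟩) ?_)
    rintro _ ⟨a, ha, rfl⟩
    rw [← map_mul, ← map_mul, mem_centralizer_iff.mp hc.2 a ha]

end Cfsg.Agent.Lib.Flavell42
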