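import Mathlib

/-!
A pair of square zero elements `α, φ` with `αφα = α`, `φαφ = φ` in an algebra: matrix units, the
weight pieces of an element, and the identities among pieces of weight one.
-/

set_option linter.unusedSimpArgs false

namespace Cfsg.Agent.Lib.Flavell42

variable {A : Type*} [Ring A]

/-- `α, φ` behave as `E₁₂, E₂₁`. -/
structure Units2 (α φ : A) : Prop where
  aa : α * α = 0
  ff : φ * φ = 0
  afa : α * φ * α = α
  faf : φ * α * φ = φ

variable {α φ b l x y : A}

theorem Units2.symm (h : Units2 α φ) : Units2 φ α := ⟨h.ff, h.aa, h.faf, h.afa⟩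

namespace Units2

variable (h : Units2 α φ)
include h

theorem aa' (w : A) : α * (α * w) = 0 := by rw [← mul_assoc, h.aa, zero_mul]
theorem ff' (w : A) : φ * (φ * w) = 0 := by rw [← mul_assoc, h.ff, zero_mul]
theorem afa1 : α * (φ * α) = α := by rw [← mul_assoc, h.afa]
theorem faf1 : φ * (α * φ) = φ := by rw [← mul_assoc, h.faf]
theorem afa' (w : A) : α * (φ * (α * w)) = α * w := by rw [← mul_assoc, ← mul_assoc, h.afa]
theorem faf' (w : A) : φ * (α * (φ * w)) = φ * w := by rw [← mul_assoc, ← mul_assoc, h.faf]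

theorem left_ne [Nontrivial A] (hα : α ≠ 0) : α * φ ≠ φ * α := fun e => hα <| by
  have h1 : α * φ * α = φ * α * α := by rw [e]
  rwa [h.afa, mul_assoc, h.aa, mul_zero] at h1

end Units2

/-- The middle idempotent. -/
def e0 (α φ : A) : A := 1 - α * φ - φ * α

/-- The weight one piece. -/
def part1 (α φ b : A) : A := α * φ * b * e0 α φ + e0 α φ * b * (φ * α)

/-- The weight zero piece. -/
def part0 (α φ b : A) : A :=
  α * φ * b * (α * φ) + φ * α * b * (φ * α) + e0 α φ * b * e0 α φ

/-- `b` is pure of weight one. -/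
structure Wt1 (α φ b : A) : Prop where
  al : α * b = 0
  ar : b * α = 0
  fbf : φ * b * φ = 0
  eq : b = α * φ * b + b * (φ * α)

theorem wt1_part1 (h : Units2 α φ) (b : A) : Wt1 α φ (part1 α φ b) := by
  refine ⟨?_, ?_, ?_, ?_⟩ <;>
    simp only [part1, e0, mul_add, add_mul, mul_sub, sub_mul, mul_one, one_mul, mul_assoc, h.aa,
      h.ff, h.aa', h.ff', h.afa1, h.faf1, h.afa', h.faf', mul_zero, zero_mul, sub_zero, add_zero,
      zero_add, zero_sub] <;> abel

theorem part0_commute_left (h : Units2 α φ) (b : A) :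
    α * φ * part0 α φ b = part0 α φ b * (α * φ) := by
  simp only [part0, e0, mul_add, add_mul, mul_sub, sub_mul, mul_one, one_mul, mul_assoc, h.aa,
      h.ff, h.aa', h.ff', h.afa1, h.faf1, h.afa', h.faf', mul_zero, zero_mul, sub_zero, add_zero,
      zero_add, zero_sub]
  abel

theorem part_sum (h : Units2 α φ) (ha : α * b * α = 0) (hf : φ * b * φ = 0) :
    part1 α φ b + part0 α φ b + part1 φ α b = b := by
  have ha' : ∀ w, α * (b * (α * w)) = 0 := fun w => by rw [← mul_assoc, ← mul_assoc, ha, zero_mul]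
  have hf' : ∀ w, φ * (b * (φ * w)) = 0 := fun w => by rw [← mul_assoc, ← mul_assoc, hf, zero_mul]
  rw [mul_assoc] at ha hf
  simp only [part1, part0, e0, mul_add, add_mul, mul_sub, sub_mul, mul_one, one_mul, mul_assoc, ha,
    hf, ha', hf', mul_zero, sub_zero, add_zero, zero_add, zero_sub]
  abel

/-- The weight two piece of `αb - bα`. -/
theorem part0_commute_of (h : Units2 α φ)
    (hw : α * (φ * α * b * (φ * α)) = α * φ * b * (α * φ) * α) :
    α * part0 α φ b = part0 α φ b * α := by
  have l : α * part0 α φ b = α * (φ * α * b * (φ * α)) := by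
    simp only [part0, e0, mul_add, add_mul, mul_sub, sub_mul, mul_one, one_mul, mul_assoc, h.aa,
      h.ff, h.aa', h.ff', h.afa1, h.faf1, h.afa', h.faf', mul_zero, zero_mul, sub_zero, add_zero,
      zero_add, zero_sub]
    abel
  have r : part0 α φ b * α = α * φ * b * (α * φ) * α := by
    simp only [part0, e0, mul_add, add_mul, mul_sub, sub_mul, mul_one, one_mul, mul_assoc, h.aa,
      h.ff, h.aa', h.ff', h.afa1, h.faf1, h.afa', h.faf', mul_zero, zero_mul, sub_zero, add_zero,
      zero_add, zero_sub]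
    abel
  rw [l, r, hw]

namespace Wt1

variable (h : Units2 α φ)
include h

theorem add (hx : Wt1 α φ x) (hy : Wt1 α φ y) : Wt1 α φ (x + y) := by
  refine ⟨by rw [mul_add, hx.al, hy.al, add_zero], by rw [add_mul, hx.ar, hy.ar, add_zero],
    by rw [mul_add, add_mul, hx.fbf, hy.fbf, add_zero], ?_⟩
  rw [mul_add, add_mul]
  conv_lhs => rw [hx.eq, hy.eq]
  abel

theorem lfr (hl : Wt1 α φ l) (hx : Wt1 α φ x) (hy : Wt1 α φ y) : l * x * y = 0 := by
  have e1 : ∀ z, Wt1 α φ z → φ * α * z = 0 := fun z hz => by rw [mul_assoc, hz.al, mul_zero]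
  have e2 : ∀ z, Wt1 α φ z → z * (α * φ) = 0 := fun z hz => by rw [← mul_assoc, hz.ar, zero_mul]
  calc l * x * y = l * (α * φ * x + x * (φ * α)) * y := by rw [← hx.eq]
    _ = l * (α * φ) * x * y + l * x * (φ * α * y) := by noncomm_ring
    _ = 0 := by rw [e2 l hl, e1 y hy]; noncomm_ring

theorem mul_mul_eq (hl : Wt1 α φ l) (hx : Wt1 α φ x) : l * x = α * φ * l * x * (φ * α) := by
  have e1 : φ * α * x = 0 := by rw [mul_assoc, hx.al, mul_zero]
  have e2 : l * (α * φ) = 0 := by rw [← mul_assoc, hl.ar, zero_mul]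
  calc l * x = (α * φ * l + l * (φ * α)) * (α * φ * x + x * (φ * α)) := by rw [← hl.eq, ← hx.eq]
    _ = α * φ * (l * (α * φ)) * x + α * φ * l * x * (φ * α) + l * (φ * α) * (α * φ) * x +
        l * (φ * α * x) * (φ * α) := by noncomm_ring
    _ = _ := by
      rw [e1, e2, show l * (φ * α) * (α * φ) = l * φ * (α * α) * φ by noncomm_ring, h.aa]
      noncomm_ring

theorem ne_commute (hl : Wt1 α φ l) (hl0 : l ≠ 0) : φ * l ≠ l * φ := by
  intro e
  apply hl0
  calc l = α * φ * l + l * (φ * α) := hl.eq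
    _ = α * (φ * l) + l * φ * α := by rw [mul_assoc α, mul_assoc l]
    _ = α * (l * φ) + φ * (l * α) := by rw [← mul_assoc φ l α, e]
    _ = 0 := by rw [← mul_assoc, hl.al, hl.ar]; simp

theorem bracket_bracket (hl : Wt1 α φ l) :
    α * (φ * l - l * φ) - (φ * l - l * φ) * α = l := by
  calc α * (φ * l - l * φ) - (φ * l - l * φ) * α
      = α * φ * l - α * l * φ - φ * (l * α) + l * (φ * α) := by noncomm_ring
    _ = l := by rw [hl.al, hl.ar]; simp [← hl.eq]

end Wt1

end Cfsg.Agent.Lib.Flavell42
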