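import Cfsg.Agent.Lib.Flavell42.Tau
import Cfsg.Agent.Lib.QuadPair.Kill

/-!
Minimal elements of a linear group without normal `p`-subgroups: partners, killed elements, and
conjugacy of classes.
-/

set_option linter.style.haveILetI false

namespace Cfsg.Agent.Lib.Flavell42

open QuadPair
open Cfsg.Agent.Lib.RootSubgroups

variable {p : ℕ} [Fact p.Prime] {V : Type} [AddCommGroup V] [Module (ZMod p) V] [Finite V]
  {G : Subgroup (LinearMap.GeneralLinearGroup (ZMod p) V)}

local notation "GLV" => LinearMap.GeneralLinearGroup (ZMod p) V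
local notation "E" => (V →ₗ[ZMod p] V)

/-- `G` has no nontrivial normal `p`-subgroup. -/
def NoCore (G : Subgroup (LinearMap.GeneralLinearGroup (ZMod p) V)) : Prop :=
  ∀ U : Subgroup GLV, U ≤ G → G ≤ Subgroup.normalizer (U : Set GLV) → IsPGroup p U → U = ⊥

omit [Finite V] in
theorem isPGroup_of_unipotent {U : Subgroup (LinearMap.GeneralLinearGroup (ZMod p) V)}
    (hU : IsUnipotentOn U) : IsPGroup p U := by
  obtain ⟨n, hn⟩ := Unipotent.isUnipotentOn_iff.mp hU
  have hpr : p.Prime := Fact.out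
  rintro ⟨g, hg⟩
  refine ⟨n, Subtype.ext (Units.ext ?_)⟩
  show ((g ^ p ^ n : GLV) : E) = 1
  set X : E := (g : E) - 1 with hX
  have hz : X ^ n = 0 := by
    have := Submodule.pow_mem_pow (Unipotent.aug U) (Unipotent.sub_one_mem hg) n
    rwa [hn, Submodule.mem_bot] at this
  obtain ⟨r, hr⟩ := (Commute.one_right X).exists_add_pow_prime_pow_eq hpr n
  rw [Units.val_pow_eq_pow_val, show (g : E) = X + 1 by rw [hX, sub_add_cancel], hr,
    pow_eq_zero_of_le (Nat.lt_pow_self hpr.one_lt).le hz, one_pow]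
  have hc : ((p : ℕ) : E) = 0 := by
    rw [← map_natCast (algebraMap (ZMod p) E), ZMod.natCast_self, map_zero]
  rw [hc]
  simp

/-- A minimal element has a conjugate forming a pair of the second type with it. -/
theorem exists_partner_of (hp : 5 ≤ p) (hU : NoCore G) {C : E} (hC : IsMin G C) :
    ∃ g ∈ G, TypeTwo G C (QuadPair.cj g C) := by
  have h2 := two_ne hp
  have hk3 := card_ne_three hp
  by_contra hno
  push Not at hno
  let fam : E → Subgroup GLV := fun X => Subgroup.closure {τ : GLV | ∃ c : ZMod p, (τ : E) = 1 + c • X}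
  let W : Set (Subgroup GLV) := {A | ∃ g ∈ G, A = fam (QuadPair.cj g C)}
  have hWG : ∀ A ∈ W, A ≤ G := by
    rintro A ⟨g, hg, rfl⟩
    refine (Subgroup.closure_le _).mpr ?_
    rintro τ ⟨c, hc⟩
    obtain ⟨x, hx, he⟩ := mem_vals.mp ((hC.good.cj hg).mem c)
    rwa [show τ = x from Units.ext (hc.trans he.symm)]
  have hWW : ∀ A ∈ W, ∀ B ∈ W, IsUnipotentOn (A ⊔ B) := by
    rintro A ⟨g, hg, rfl⟩ B ⟨g', hg', rfl⟩
    rw [← Subgroup.closure_union]
    rcases type_cases h2 hk3 (hC.cj hg) (hC.cj hg') with ⟨a, b⟩ | ⟨a, b⟩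
    · exact isUnipotentOn_pair (hC.good.cj hg).sq (hC.good.cj hg').sq a b
    · exfalso
      refine hno (g⁻¹ * g') (mul_mem (inv_mem hg) hg') (typeTwo_of_ne h2 hk3 hC
        (hC.cj (mul_mem (inv_mem hg) hg')) fun e => ?_)
      have he : QuadPair.cj g (C * QuadPair.cj (g⁻¹ * g') C * C) =
          QuadPair.cj g C * QuadPair.cj g' C * QuadPair.cj g C := by
        rw [← cj_mul, ← cj_mul, ← cj_comp, mul_inv_cancel_left]
      exact TypeTwo.ne_zero (G := G) ⟨hC.cj hg, hC.cj hg', a, b⟩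
        (by rw [← he, e, cj_zero])
  have hWc : ∀ A ∈ W, ∀ g ∈ G, conjBy A g ∈ W := by
    rintro A ⟨h, hh, rfl⟩ g hg
    refine ⟨g * h, mul_mem hg hh, ?_⟩
    simp only [conjBy, fam, MonoidHom.map_closure]
    congr 1
    ext τ
    constructor
    · rintro ⟨x, ⟨c, hc⟩, rfl⟩
      refine ⟨c, ?_⟩
      rw [cj_comp, ← cj_smul, ← cj_one g, ← cj_add, ← hc]
      simp [QuadPair.cj]
    · rintro ⟨c, hc⟩
      refine ⟨g⁻¹ * τ * g, ⟨c, ?_⟩, by simp [mul_assoc]⟩
      have hx : ((g⁻¹ * τ * g : GLV) : E) = QuadPair.cj g⁻¹ (τ : E) := by simp [QuadPair.cj]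
      rw [hx, hc, cj_add, cj_one, cj_smul, cj_comp, cj_inv_cj]
  set U := ⨆ A ∈ W, A with hUdef
  have hUp : IsPGroup p U := isPGroup_of_unipotent (Unipotent.isUnipotentOn_iSup hWG hWW hWc)
  have hUn : G ≤ Subgroup.normalizer (U : Set GLV) := fun g hg => by
    refine mem_normalizer_of_forall (X := GLV) fun x hx => ?_
    have hle : conjBy U g ≤ U := by
      simp only [hUdef, conjBy, Subgroup.map_iSup]
      exact iSup₂_le fun A hA => le_biSup (fun A => A) (hWc A hA g hg)
    exact hle ⟨x, hx, rfl⟩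
  have hbot := hU U (iSup₂_le hWG) hUn hUp
  have hmem : tau C ∈ U :=
    Subgroup.mem_iSup_of_mem (fam (QuadPair.cj 1 C))
      (Subgroup.mem_iSup_of_mem ⟨1, one_mem _, rfl⟩
        (Subgroup.subset_closure ⟨1, by rw [cj_one', one_smul, val_tau hC.good.sq]⟩))
  rw [hbot, Subgroup.mem_bot, tau_eq_one_iff hC.good.sq] at hmem
  exact hC.ne_zero hmem

/-- Killed good elements commute with the minimal ones. -/
theorem commute_of_kill_of (hp : 5 ≤ p) (hU : NoCore G) {N : E} (hN : Good G N) (hK : Kill G N)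
    {P : E} (hP : IsMin G P) : N * P = P * N := by
  have h2 := two_ne hp
  have hk3 := card_ne_three hp
  have hK1 := kill_comm h2 hk3 hK hP.good
  have hK2 := kill_comm h2 hk3 hK1 hN
  have e2 : (N * P - P * N) * N - N * (N * P - P * N) = (2 : ZMod p) • (N * P * N) := by
    have hw : ∀ w : E, N * (N * w) = 0 := fun w => by rw [← mul_assoc, hN.sq, zero_mul]
    simp only [sub_mul, mul_sub, mul_assoc, hN.sq, hw, mul_zero, sub_zero, zero_sub]
    module
  rw [e2] at hK2
  have hg := good_comm h2 hP.good hN (hK P hP)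
  have hzero : N * P * N = 0 := by
    by_contra h0
    have hX : IsMin G (N * P * N) :=
      hP.of_rk_le hg.2 h0 ((rk_mul_le_left _ _).trans (rk_mul_le_right _ _))
    obtain ⟨g, -, h⟩ := exists_partner_of hp hU hX
    have := hK2 _ h.min_right
    rw [mul_smul_comm, smul_mul_assoc] at this
    exact h.symm.ne_zero ((smul_eq_zero.mp this).resolve_left h2)
  rw [← sub_eq_zero]
  by_contra h0
  have hX : IsMin G (N * P - P * N) := by
    refine hP.of_rk_le ?_ h0 ?_
    · have := hg.1.neg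
      rwa [neg_sub] at this
    refine le_trans ?_ (rk_mul_add_le hzero)
    refine le_trans (Submodule.finrank_mono ?_)
      (Submodule.finrank_add_le_finrank_add_finrank _ _)
    rintro _ ⟨m, rfl⟩
    rw [LinearMap.sub_apply]
    exact sub_mem (Submodule.mem_sup_left ⟨m, rfl⟩) (Submodule.mem_sup_right ⟨m, rfl⟩)
  obtain ⟨g, -, h⟩ := exists_partner_of hp hU hX
  exact h.symm.ne_zero (hK1 _ h.min_right)

omit [Fact p.Prime] [Finite V] in
/-- A summand of `N` split off by a minimal element, with its range and kernel. -/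
theorem exists_peel_full {k : Type} [Field k] [Module k V] [FiniteDimensional k V]
    {G : Subgroup (LinearMap.GeneralLinearGroup k V)}
    (h2 : (2 : k) ≠ 0) (hk3 : Nat.card k ≠ 3) {N P : V →ₗ[k] V}
    (hN : Good G N) (hP : IsMin G P) (h : P * N * P ≠ 0) :
    ∃ X : V →ₗ[k] V, IsMin G X ∧ X * N = 0 ∧ N * X = 0 ∧
      LinearMap.range X ≤ LinearMap.range N ∧ LinearMap.ker N ≤ LinearMap.ker X ∧
      rk (N - X) < rk N := by
  have hr := range_sandwich h2 hk3 hN hP h
  let T : Module.End k (LinearMap.range P) :=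
    (P.rangeRestrict ∘ₗ N ∘ₗ (LinearMap.range P).subtype)
  have hTs : Function.Surjective T := by
    rintro ⟨y, hy⟩
    rw [← hr] at hy
    obtain ⟨m, hm⟩ := hy
    exact ⟨⟨P m, m, rfl⟩, Subtype.ext hm⟩
  let Te := LinearEquiv.ofBijective T ⟨LinearMap.injective_iff_surjective.mpr hTs, hTs⟩
  obtain ⟨pA, hTpA⟩ : ∃ pA : V →ₗ[k] LinearMap.range P, ∀ m, T (pA m) = P.rangeRestrict m :=
    ⟨Te.symm.toLinearMap ∘ₗ P.rangeRestrict, fun m => Te.apply_symm_apply _⟩
  let ev : (Polynomial k ⧸ RingHom.ker (Polynomial.aeval (R := k) T)) →ₐ[k]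
      Module.End k (LinearMap.range P) :=
    Ideal.Quotient.liftₐ (RingHom.ker (Polynomial.aeval (R := k) T)) (Polynomial.aeval T)
      fun q hq => hq
  have hevu : ev (Ideal.Quotient.mkₐ k _ Polynomial.X) = T := Polynomial.aeval_X T
  have hTi : Function.Injective T := LinearMap.injective_iff_surjective.mpr hTs
  have C : Coords N P (Ideal.Quotient.mkₐ k _ Polynomial.X) ev pA (pA ∘ₗ N) := by
    refine ⟨?_, ?_, ?_, ?_, ?_, ?_, fun m => rfl⟩
    · rw [injective_iff_map_eq_zero]
      intro a ha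
      obtain ⟨q, rfl⟩ := Ideal.Quotient.mk_surjective a
      exact Ideal.Quotient.eq_zero_iff_mem.mpr ha
    · intro a
      obtain ⟨q, rfl⟩ := Ideal.Quotient.mk_surjective a
      exact ⟨q, by rw [Polynomial.aeval_algHom_apply, Polynomial.aeval_X_left_apply]; rfl⟩
    · rw [hevu]; exact hTs
    · intro m; rw [hevu, hTpA]; rfl
    · intro v
      apply hTi
      rw [hTpA, map_zero]
      obtain ⟨_, m, rfl⟩ := v
      exact Subtype.ext (congrArg (fun e : V →ₗ[k] V => e m) hP.good.sq)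
    · intro v
      apply hTi
      rw [hTpA]
      rfl
  have hX := C.good_summand h2 hk3 hN hP
  set X := N ∘ₗ (LinearMap.range P).subtype ∘ₗ (pA ∘ₗ N) with hXdef
  have hXv : ∀ m, X m = N (pA (N m)).1 := fun m => rfl
  have hNN : ∀ m, N (N m) = 0 := fun m => congrArg (fun e : V →ₗ[k] V => e m) hN.sq
  obtain ⟨m, hm⟩ : ∃ m, P m ≠ 0 := by
    by_contra hall
    push Not at hall
    exact hP.ne_zero (LinearMap.ext hall)
  let v0 : LinearMap.range P := ⟨P m, m, rfl⟩
  refine ⟨X, hP.of_rk_le hX ?_ ?_, LinearMap.ext fun m => ?_, LinearMap.ext fun m => ?_, ?_, ?_, ?_⟩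
  · intro e
    have := congrArg pA (congrArg (fun e : V →ₗ[k] V => e v0.1) e)
    rw [hXv, C.pA_shift, C.pA_shift] at this
    exact hm (congrArg Subtype.val (this.trans (map_zero pA)))
  · refine le_trans (Submodule.finrank_mono (show _ ≤ (LinearMap.range P).map N from ?_))
      (Submodule.finrank_map_le _ _)
    rintro _ ⟨m, rfl⟩
    exact ⟨_, (pA (N m)).2, (hXv m).symm⟩
  · rw [Module.End.mul_apply, hXv, hNN]; simp
  · rw [Module.End.mul_apply, hXv, hNN]; rfl
  · rintro _ ⟨m, rfl⟩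
    exact ⟨_, (hXv m).symm⟩
  · intro m hm
    rw [LinearMap.mem_ker, hXv, LinearMap.mem_ker.mp hm, map_zero, Submodule.coe_zero, map_zero]
  · refine Submodule.finrank_lt_finrank_of_lt (lt_of_le_of_ne ?_ fun e => ?_)
    · rintro _ ⟨m, rfl⟩
      exact ⟨m - (pA (N m)).1, by rw [map_sub, LinearMap.sub_apply, hXv]⟩
    · obtain ⟨y, hy⟩ : N v0.1 ∈ LinearMap.range (N - X) := by rw [e]; exact ⟨v0.1, rfl⟩
      have := congrArg pA hy
      rw [LinearMap.sub_apply, map_sub, hXv, C.pA_shift, C.pA_shift] at this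
      exact hm (congrArg Subtype.val (this.symm.trans (sub_self _)))

/-! ### Conjugacy of classes -/

/-- The classes of `N` and `P` are conjugate. -/
def ConjCls (G : Subgroup (LinearMap.GeneralLinearGroup (ZMod p) V)) (N P : E) : Prop :=
  ∃ g ∈ G, InCls G P (QuadPair.cj g N)

theorem ConjCls.refl {N : E} (hN : IsMin G N) : ConjCls G N N :=
  ⟨1, one_mem _, by rw [cj_one']; exact inCls_self hN.good⟩

theorem ConjCls.symm {N P : E} (hN : IsMin G N) (hP : IsMin G P) (h : ConjCls G N P) :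
    ConjCls G P N := by
  obtain ⟨g, hg, hc⟩ := h
  refine ⟨g⁻¹, inv_mem hg, ?_⟩
  have := (hc.symm hP (hN.cj hg).ne_zero).cj (inv_mem hg)
  rwa [cj_inv_cj] at this

theorem ConjCls.trans {N P Q : E} (hP : IsMin G P) (hN : IsMin G N) (hQ : IsMin G Q)
    (h : ConjCls G N P) (h' : ConjCls G P Q) : ConjCls G N Q := by
  obtain ⟨g, hg, hc⟩ := h
  obtain ⟨g', hg', hc'⟩ := h'
  refine ⟨g' * g, mul_mem hg' hg, ?_⟩
  rw [cj_comp]
  exact (hc.cj hg').trans_sameAct (hc'.sameAct hQ (hP.cj hg').ne_zero)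

theorem conjCls_of_typeTwo (hp : 5 ≤ p) {N P : E} (h : TypeTwo G N P) : ConjCls G N P :=
  h.exists_conj (two_ne hp) (card_ne_three hp)

theorem conjCls_comm_of_skew (hp : 5 ≤ p) (hU : NoCore G) {N P : E} (h : Skew G N P) :
    ConjCls G (N * P - P * N) P := by
  have h2 := two_ne hp
  have hk3 := card_ne_three hp
  set C := N * P - P * N with hC
  have hCm : IsMin G C := h.isMin_comm h2
  obtain ⟨g, hg, hW⟩ := exists_partner_of hp hU hCm
  set W := QuadPair.cj g C with hWdef
  have hCW : ConjCls G C W := conjCls_of_typeTwo hp hW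
  by_cases hP : W * P * W = 0
  · set P₁ := QuadPair.cj (tau N) P with hP1
    have hP1e : P₁ = P + C := by
      rw [hP1, cj_tau h.min_left.good.sq, hC]
      simp [h.left]
    have hP1m : IsMin G P₁ := h.min_right.cj (tau_mem h.min_left.good)
    have hne : W * P₁ * W ≠ 0 := by
      rw [hP1e, mul_add, add_mul, hP, zero_add]
      exact hW.symm.ne_zero
    have hII := typeTwo_of_ne h2 hk3 hW.min_right hP1m hne
    refine ConjCls.trans hW.min_right hCm h.min_right hCW
      (ConjCls.trans hP1m hW.min_right h.min_right (conjCls_of_typeTwo hp hII) ?_)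
    exact ⟨(tau N)⁻¹, inv_mem (tau_mem h.min_left.good),
      by rw [hP1, cj_inv_cj]; exact inCls_self h.min_right.good⟩
  · exact ConjCls.trans hW.min_right hCm h.min_right hCW
      (conjCls_of_typeTwo hp (typeTwo_of_ne h2 hk3 hW.min_right h.min_right hP))

/-- Non-commuting minimal elements have conjugate classes. -/
theorem conjCls_of_ne (hp : 5 ≤ p) (hU : NoCore G) {N P : E} (hN : IsMin G N) (hP : IsMin G P)
    (hne : N * P ≠ P * N) : ConjCls G N P := by
  have h2 := two_ne hp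
  have hk3 := card_ne_three hp
  rcases type_cases h2 hk3 hN hP with ⟨a, b⟩ | ⟨a, b⟩
  · have h : Skew G N P := ⟨hN, hP, a, b, hne⟩
    have hC := h.isMin_comm h2
    have h1 := conjCls_comm_of_skew hp hU h
    have h3 := conjCls_comm_of_skew hp hU h.symm
    have h4 : ConjCls G (N * P - P * N) (P * N - N * P) :=
      ⟨1, one_mem _, by
        rw [cj_one', ← neg_sub (P * N) (N * P), ← neg_one_smul (ZMod p)]
        exact (inCls_self (h.symm.isMin_comm h2).good).smul _⟩
    exact ConjCls.trans hC hN hP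
      (ConjCls.symm hC hN (ConjCls.trans (h.symm.isMin_comm h2) hC hN h4 h3)) h1
  · exact conjCls_of_typeTwo hp ⟨hN, hP, a, b⟩

end Cfsg.Agent.Lib.Flavell42
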