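import Cfsg.Agent.Lib.Flavell42.Back

/-!
Quadratic elements of `pInv` that are central among the quadratic ones: their weight pieces, and
the existence of a root of weight one among them.
-/

set_option linter.style.haveILetI false
set_option linter.unusedSimpArgs false

namespace Cfsg.Agent.Lib.Flavell42

open QuadPair Subgroup

variable {p : ℕ} [Fact p.Prime] {V : Type} [AddCommGroup V] [Module (ZMod p) V]

local notation "GLV" => LinearMap.GeneralLinearGroup (ZMod p) V
local notation "E" => (V →ₗ[ZMod p] V)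

variable {R G : Subgroup (LinearMap.GeneralLinearGroup (ZMod p) V)} {α φ : V →ₗ[ZMod p] V}

/-- The elements of `pInv` commuting with all its quadratic elements. -/
def cenA (R G : Subgroup (LinearMap.GeneralLinearGroup (ZMod p) V)) : Subgroup GLV :=
  pInv p R G ⊓ centralizer {d | IsQP R G d}

/-- Square zero, with unit in `cenA`. -/
structure Cen (R G : Subgroup (LinearMap.GeneralLinearGroup (ZMod p) V)) (X : E) : Prop where
  sq : X * X = 0
  mem : tau X ∈ cenA R G

theorem Cen.isQP {X : E} (h : Cen R G X) : IsQP R G (tau X) :=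
  ⟨h.mem.1, by rw [IsQuad, tau_sub_one h.sq, h.sq]⟩

theorem Cen.good {X : E} (h : Cen R G X) : Good G X := good_of_tau h.sq (pInv_le h.mem.1)

theorem Cen.comm {X Y : E} (hX : Cen R G X) (hY : Cen R G Y) : X * Y = Y * X := by
  have := mem_centralizer_iff.mp hX.mem.2 _ hY.isQP
  rw [commute_sub_one_iff, tau_sub_one hX.sq, tau_sub_one hY.sq] at this
  exact this.symm

theorem Cen.smul {X : E} (h : Cen R G X) (c : ZMod p) : Cen R G (c • X) := by
  refine ⟨smul_sq h.sq c, ?_⟩
  have : c • X = ((c.val : ℕ) : ZMod p) • X := by rw [ZMod.natCast_val, ZMod.cast_id]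
  rw [this, ← tau_pow h.sq]
  exact pow_mem h.mem _

theorem Cen.add {X Y : E} (hX : Cen R G X) (hY : Cen R G Y) (h : X * Y = 0) : Cen R G (X + Y) := by
  have h' : Y * X = 0 := by rw [← hX.comm hY, h]
  exact ⟨by simp [add_mul, mul_add, hX.sq, hY.sq, h, h'],
    by rw [← tau_mul hX.sq hY.sq h h']; exact mul_mem hX.mem hY.mem⟩

variable [Finite V]

theorem normalizer_le_normalizer_cenA :
    normalizer (pInv p R G : Set GLV) ≤ normalizer (cenA R G : Set GLV) := by
  intro g hg
  refine mem_normalizer_of_forall (X := GLV) fun x hx => ?_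
  refine mem_inf.mpr ⟨conj_mem hg hx.1, mem_centralizer_iff.mpr fun d hd => ?_⟩
  have := mem_centralizer_iff.mp hx.2 _ (IsQP.conj hd (inv_mem hg))
  calc d * (g * x * g⁻¹) = g * ((g⁻¹ * d * g⁻¹⁻¹) * x) * g⁻¹ := by group
    _ = g * (x * (g⁻¹ * d * g⁻¹⁻¹)) * g⁻¹ := by rw [this]
    _ = g * x * g⁻¹ * d := by group

theorem Cen.conjN {X : E} (h : Cen R G X) {g : GLV} (hg : g ∈ normalizer (pInv p R G : Set GLV)) :
    Cen R G (cj g X) := by
  refine ⟨by rw [cj_mul, h.sq, cj_zero], ?_⟩
  rw [← conj_tau g h.sq]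
  exact conj_mem (normalizer_le_normalizer_cenA hg) h.mem

/-- An element of `G` fixed by `R` normalises `pInv`. -/
theorem mem_normalizer_pInv_of_tau {X : E} (hX : Good G X) (hR : ∀ a ∈ R, cj a X = X) :
    tau X ∈ normalizer (pInv p R G : Set GLV) :=
  centralizer_le_normalizer_pInv (le_normalizer (tau_mem hX))
    (mem_centralizer_iff.mpr fun a ha => (mul_tau_comm_iff hX.sq).mpr (hR a ha))

theorem torus_mem_normalizer_pInv (h : IsPair G α φ) (hR : ∀ a ∈ R, cj a α = α ∧ cj a φ = φ)
    (c : ZMod p) : torus α φ c ∈ normalizer (pInv p R G : Set GLV) := by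
  have ha : ∀ d : ZMod p, tau (d • α) ∈ normalizer (pInv p R G : Set GLV) := fun d =>
    mem_normalizer_pInv_of_tau (h.min_left.good.smul d) fun a ha => by rw [cj_smul, (hR a ha).1]
  have hf : ∀ d : ZMod p, tau (d • φ) ∈ normalizer (pInv p R G : Set GLV) := fun d =>
    mem_normalizer_pInv_of_tau (h.min_right.good.smul d) fun a ha => by rw [cj_smul, (hR a ha).2]
  exact mul_mem (mul_mem (mul_mem (ha _) (hf _)) (ha _)) (mul_mem (mul_mem (ha _) (hf _)) (ha _))

theorem isPGroup_zpowers_tau {X : E} (hX : X * X = 0) : IsPGroup p (zpowers (tau X)) := by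
  rintro ⟨y, hy⟩
  obtain ⟨j, rfl⟩ := mem_zpowers_iff.mp hy
  refine ⟨1, Subtype.ext ?_⟩
  show (tau X ^ j) ^ p ^ 1 = 1
  rw [pow_one, ← zpow_natCast, ← zpow_mul, mul_comm, zpow_mul, zpow_natCast,
    tau_pow hX, ZMod.natCast_self, zero_smul, tau_zero, one_zpow]

/-- A minimal element normalising `pInv` has zero sandwiches with `cenA`. -/
theorem Cen.sandwich (hp : 5 ≤ p) (hact : Act R G) {X P : E} (hX : Cen R G X) (hP : IsMin G P)
    (hn : tau P ∈ normalizer (pInv p R G : Set GLV)) : P * X * P = 0 :=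
  sandwich_zero hp
    (IsPGroup.to_sup_of_normal_right' (isPGroup_zpowers_tau hP.good.sq)
      ((isPGroup_pInv hact).to_le inf_le_left : IsPGroup p (cenA R G))
      (zpowers_le.mpr (normalizer_le_normalizer_cenA hn)))
    hX.good hP (mem_sup_right hX.mem) (mem_sup_left (mem_zpowers _))

variable {b : V →ₗ[ZMod p] V}

/-- An element of `cenA` of weight zero commutes with the pair. -/
theorem Cen.commute_of_idem (hp : 5 ≤ p) (hact : Act R G) (h : IsPair G α φ)
    (hR : ∀ a ∈ R, cj a α = α ∧ cj a φ = φ) (hb : Cen R G b)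
    (c1 : α * φ * b = b * (α * φ)) (c2 : φ * α * b = b * (φ * α)) : φ * b = b * φ := by
  have hnα := mem_normalizer_pInv_of_tau h.min_left.good fun a ha => (hR a ha).1
  have hnφ := mem_normalizer_pInv_of_tau h.min_right.good fun a ha => (hR a ha).2
  have s1 : α * b * α = 0 := hb.sandwich hp hact h.min_left hnα
  have s2 := (hb.conjN hnα).sandwich hp hact h.min_right hnφ
  rw [cj_tau h.rel.aa, s1, sub_zero, mul_add, add_mul, hb.sandwich hp hact h.min_right hnφ,
    zero_add, mul_sub, sub_mul, sub_eq_zero] at s2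
  have l : φ * (α * b) * φ = b * φ := by
    rw [← mul_assoc, c2, mul_assoc, h.rel.faf]
  have r : φ * (b * α) * φ = φ * b := by
    rw [mul_assoc, mul_assoc b, ← c1, ← mul_assoc, ← mul_assoc, h.rel.faf]
  rw [l, r] at s2
  exact s2.symm

theorem Cen.commute_pieces (hp : 5 ≤ p) (hact : Act R G) (h : IsPair G α φ)
    (hR : ∀ a ∈ R, cj a α = α ∧ cj a φ = φ) (hb : Cen R G b) :
    Cen R G (part1 α φ b) ∧ Cen R G (part1 φ α b) := by
  have h2 := two_ne hp
  have h3 := three_ne hp
  have hnα := mem_normalizer_pInv_of_tau h.min_left.good fun a ha => (hR a ha).1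
  have hnφ := mem_normalizer_pInv_of_tau h.min_right.good fun a ha => (hR a ha).2
  have s1 : α * b * α = 0 := hb.sandwich hp hact h.min_left hnα
  have s2 : φ * b * φ = 0 := hb.sandwich hp hact h.min_right hnφ
  set P := part1 α φ b with hP
  set Z := part0 α φ b with hZ
  set M := part1 φ α b with hM
  have hc : ∀ c : ZMod p, c ≠ 0 → Cen R G (c • P + Z + c⁻¹ • M) := fun c hc => by
    rw [hP, hZ, hM, ← cj_torus_parts h.rel hc s1 s2]
    exact hb.conjN (torus_mem_normalizer_pInv h hR c)
  have hbr : ∀ c d : ZMod p, c ≠ 0 → d ≠ 0 →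
      (c - d) • (P * Z - Z * P) + (c * d⁻¹ - d * c⁻¹) • (P * M - M * P) +
        (c⁻¹ - d⁻¹) • (M * Z - Z * M) = 0 := fun c d h1 h4 => by
    have := (hc c h1).comm (hc d h4)
    rw [← sub_eq_zero] at this
    rw [← this]
    simp only [add_mul, mul_add, smul_mul_assoc, mul_smul_comm, smul_smul]
    module
  set X := P * Z - Z * P with hX
  set Y := P * M - M * P with hY
  set W := M * Z - Z * M with hW
  have h1n : (-1 : ZMod p) ≠ 0 := neg_ne_zero.mpr one_ne_zero
  have a1 := hbr (-1) 1 h1n one_ne_zero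
  have a2 := hbr 2 1 h2 one_ne_zero
  have a3 := hbr 2 (-1) h2 h1n
  rw [inv_neg, inv_one] at a1 a3
  rw [inv_one] at a2
  have eW : W = -X := by
    have e : (2 : ZMod p) • (X + W) = 0 := by
      rw [← neg_zero, ← a1]; module
    exact eq_neg_of_add_eq_zero_right ((smul_eq_zero.mp e).resolve_left h2)
  rw [eW] at a2 a3
  have eY : Y = -X := by
    have e : (3 : ZMod p) • (X + Y) = 0 := by
      linear_combination (norm := (match_scalars <;> field_simp <;> ring)) (2 : ZMod p) • a2
    exact eq_neg_of_add_eq_zero_right ((smul_eq_zero.mp e).resolve_left h3)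
  rw [eY] at a3
  have hX0 : X = 0 := by
    have e : (2 * 3 : ZMod p) • X = 0 := by
      linear_combination (norm := (match_scalars <;> field_simp <;> ring)) (2 : ZMod p) • a3
    exact (smul_eq_zero.mp e).resolve_left (mul_ne_zero h2 h3)
  have zPM : P * M = M * P := sub_eq_zero.mp (show Y = 0 by rw [eY, hX0, neg_zero])
  have zPZ : P * Z = Z * P := sub_eq_zero.mp hX0
  have zMZ : M * Z = Z * M := sub_eq_zero.mp (show W = 0 by rw [eW, hX0, neg_zero])
  have hsq : ∀ c : ZMod p, c ≠ 0 → (c * c) • (P * P) + (c⁻¹ * c⁻¹) • (M * M) +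
      (Z * Z + (2 : ZMod p) • (P * M)) + ((2 : ZMod p) * c) • (P * Z) +
      ((2 : ZMod p) * c⁻¹) • (M * Z) = 0 := fun c hc0 => by
    have := (hc c hc0).sq
    rw [← this]
    simp only [add_mul, mul_add, smul_mul_assoc, mul_smul_comm, smul_smul, ← zPM, ← zPZ, zMZ]
    match_scalars <;> field_simp <;> ring
  have b1 := hsq 1 one_ne_zero
  have b2 := hsq (-1) h1n
  have b3 := hsq 2 h2
  have b4 := hsq (-2) (neg_ne_zero.mpr h2)
  have e1 : (4 : ZMod p) • (P * Z + M * Z) = 0 := by
    linear_combination (norm := (match_scalars <;> field_simp <;> ring)) b1 - b2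
  have eMZ : M * Z = -(P * Z) := eq_neg_of_add_eq_zero_right ((smul_eq_zero.mp e1).resolve_left (by
    rw [show (4 : ZMod p) = 2 * 2 by norm_num]; exact mul_ne_zero h2 h2))
  have hPZ : P * Z = 0 := by
    have e2 : (2 * 3 : ZMod p) • (P * Z) = 0 := by
      rw [eMZ] at b3 b4
      linear_combination (norm := (match_scalars <;> field_simp <;> ring)) b3 - b4
    exact (smul_eq_zero.mp e2).resolve_left (mul_ne_zero h2 h3)
  have hMZ : M * Z = 0 := by rw [eMZ, hPZ, neg_zero]
  have hC : P * P + M * M + (Z * Z + (2 : ZMod p) • (P * M)) = 0 := by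
    simpa [hPZ, hMZ] using b1
  have wP := wt1_part1 h.rel b
  have wM := wt1_part1 h.rel.symm b
  rw [← hP] at wP
  rw [← hM] at wM
  have cZ : α * φ * Z = Z * (α * φ) := part0_commute_left h.rel b
  have cZ' : φ * α * Z = Z * (φ * α) := by
    have := part0_commute_left h.rel.symm b
    rwa [part0_swap] at this
  have kMM : α * φ * (M * M) * (φ * α) = 0 := by
    rw [show α * φ * (M * M) * (φ * α) = α * (φ * M) * (M * φ) * α by noncomm_ring, wM.al, wM.ar]
    simp
  have kPM : α * φ * (P * M) * (φ * α) = 0 := by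
    rw [show α * φ * (P * M) * (φ * α) = α * φ * P * (M * φ) * α by noncomm_ring, wM.ar]
    simp
  have kZZ : α * φ * (Z * Z) * (φ * α) = 0 := by
    rw [show α * φ * (Z * Z) * (φ * α) = α * φ * Z * (Z * (φ * α)) by noncomm_ring, cZ, ← cZ',
      show Z * (α * φ) * (φ * α * Z) = Z * α * (φ * φ) * α * Z by noncomm_ring, h.rel.ff]
    simp
  have hPP : P * P = 0 := by
    have e : α * φ * (P * P) * (φ * α) = P * P := by
      rw [show α * φ * (P * P) * (φ * α) = α * φ * P * P * (φ * α) by noncomm_ring,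
        ← Wt1.mul_mul_eq h.rel wP wP]
    have := congrArg (fun w => α * φ * w * (φ * α)) hC
    simp only [mul_add, add_mul, mul_smul_comm, smul_mul_assoc, e, kMM, kPM, kZZ, mul_zero,
      zero_mul, smul_zero, add_zero] at this
    exact this
  have hMM : M * M = 0 := by
    have e : φ * α * (M * M) * (α * φ) = M * M := by
      rw [show φ * α * (M * M) * (α * φ) = φ * α * M * M * (α * φ) by noncomm_ring,
        ← Wt1.mul_mul_eq h.rel.symm wM wM]
    have k1 : φ * α * (P * M) * (α * φ) = 0 := by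
      rw [show φ * α * (P * M) * (α * φ) = φ * (α * P) * M * (α * φ) by noncomm_ring, wP.al]
      simp
    have k2 : φ * α * (Z * Z) * (α * φ) = 0 := by
      rw [show φ * α * (Z * Z) * (α * φ) = φ * α * Z * (Z * (α * φ)) by noncomm_ring, cZ', ← cZ,
        show Z * (φ * α) * (α * φ * Z) = Z * φ * (α * α) * φ * Z by noncomm_ring, h.rel.aa]
      simp
    have := congrArg (fun w => φ * α * w * (α * φ)) hC
    simp only [mul_add, add_mul, mul_smul_comm, smul_mul_assoc, hPP, e, k1, k2, mul_zero, zero_mul,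
      smul_zero, add_zero, zero_add] at this
    exact this
  have hZZ : Z * Z + (2 : ZMod p) • (P * M) = 0 := by simpa [hPP, hMM] using hC
  have hg : ∀ c : ZMod p, c ≠ 0 →
      tau (((2 : ZMod p) * c) • P) * tau (((2 : ZMod p) * c⁻¹) • M) ∈ cenA R G := fun c hc0 => by
    have m1 := (hc c hc0).mem
    have m2 := inv_mem (hc (-c) (neg_ne_zero.mpr hc0)).mem
    convert mul_mem m1 m2 using 1
    refine Units.ext ?_
    rw [Units.val_mul, Units.val_mul, val_tau (smul_sq hPP _), val_tau (smul_sq hMM _),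
      val_tau (hc c hc0).sq, val_tau_inv (hc (-c) (neg_ne_zero.mpr hc0)).sq]
    have eZ : Z * Z = -((2 : ZMod p) • (P * M)) := eq_neg_of_add_eq_zero_left hZZ
    simp only [add_mul, mul_add, mul_sub, sub_mul, one_mul, mul_one, smul_mul_assoc, mul_smul_comm,
      smul_smul, eZ, hPP, hMM, hPZ, hMZ, ← zPM, ← zPZ, ← zMZ, inv_neg, smul_zero, add_zero,
      zero_add, sub_zero]
    match_scalars <;> field_simp <;> ring
  have zz : ∀ c d : ZMod p, c • P * d • M = d • M * c • P := fun c d => by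
    rw [smul_mul_smul_comm, smul_mul_smul_comm, zPM, mul_comm]
  have hP6 : Cen R G ((2 * 3 : ZMod p) • P) := by
    refine ⟨smul_sq hPP _, ?_⟩
    have g1 := hg 1 one_ne_zero
    have g2 := hg 2 h2
    convert mul_mem (pow_mem g2 2) (inv_mem g1) using 1
    have hcm : Commute (tau (((2 : ZMod p) * 2) • P)) (tau (((2 : ZMod p) * 2⁻¹) • M)) :=
      commute_sub_one_iff.mpr (by rw [tau_sub_one (smul_sq hPP _), tau_sub_one (smul_sq hMM _), zz])
    rw [hcm.mul_pow, tau_pow (smul_sq hPP _), tau_pow (smul_sq hMM _), mul_inv_rev, inv_one,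
      tau_inv (smul_sq hPP _), tau_inv (smul_sq hMM _), smul_smul, smul_smul, ← neg_smul, ← neg_smul]
    have comb : ∀ {Y : E}, Y * Y = 0 → ∀ c d : ZMod p,
        tau (c • Y) * tau (d • Y) = tau ((c + d) • Y) := fun {Y} hY c d => by
      rw [tau_mul (smul_sq hY c) (smul_sq hY d) (by simp [smul_mul_smul_comm, hY])
        (by simp [smul_mul_smul_comm, hY]), add_smul]
    rw [mul_assoc (tau _), ← mul_assoc (tau _) (tau _) (tau (_ • P)), comb hMM]
    rw [show ((2 : ℕ) : ZMod p) * (2 * 2⁻¹) + -(2 * 1) = 0 by push_cast; field_simp; ring,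
      zero_smul, tau_zero, one_mul, comb hPP]
    congr 2
    push_cast; ring
  have h6 : (2 * 3 : ZMod p) ≠ 0 := mul_ne_zero h2 h3
  have hPc : Cen R G P := by
    have := hP6.smul (2 * 3 : ZMod p)⁻¹
    rwa [smul_smul, inv_mul_cancel₀ h6, one_smul] at this
  refine ⟨hPc, ?_⟩
  have h4 : (2 : ZMod p) * 1 ≠ 0 := by simpa using h2
  have hM2 : Cen R G ((2 : ZMod p) • M) := by
    refine ⟨smul_sq hMM _, ?_⟩
    have := mul_mem (inv_mem (hPc.smul ((2 : ZMod p) * 1)).mem) (hg 1 one_ne_zero)
    rwa [inv_mul_cancel_left, inv_one, mul_one] at this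
  have := hM2.smul (2 : ZMod p)⁻¹
  rwa [smul_smul, inv_mul_cancel₀ h2, one_smul] at this

namespace Bad

/-- A pair fixed by `R` with a root of weight one in `cenA`. -/
theorem exists_root (hb : Bad R G) :
    ∃ α φ l : E, IsPair G α φ ∧ (∀ a ∈ R, cj a α = α ∧ cj a φ = φ) ∧
      Wt1 α φ l ∧ IsMin G l ∧ Cen R G l := by
  have hp := hb.hp
  have h2 := two_ne hp
  obtain ⟨x, hx, hx1⟩ := hb.bad
  obtain ⟨t, ht, ht1, htc⟩ := exists_central_quad hb.toConfig hx hx1
  obtain ⟨α, φ, h, hR⟩ := hb.exists_fixed_pair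
  set b : E := (t : E) - 1 with hbdef
  have hbC : Cen R G b := ⟨ht.2, by
    rw [tau_of_val ht.2]
    exact mem_inf.mpr ⟨ht.1, mem_centralizer_iff.mpr fun d hd => (htc d hd).symm⟩⟩
  have key : ∀ {α φ : E}, IsPair G α φ → (∀ a ∈ R, cj a α = α ∧ cj a φ = φ) →
      part1 α φ b ≠ 0 → ∃ l : E, Wt1 α φ l ∧ IsMin G l ∧ Cen R G l := by
    intro α φ h hR hne
    obtain ⟨hl, -⟩ := hbC.commute_pieces hp hb.act h hR
    set l := part1 α φ b with hldef
    have hw : Wt1 α φ l := wt1_part1 h.rel b
    have hnφ := mem_normalizer_pInv_of_tau h.min_right.good fun a ha => (hR a ha).2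
    have hc := hl.comm (hl.conjN hnφ)
    rw [cj_tau h.rel.ff, hw.fbf, sub_zero, mul_add, add_mul, hl.sq, mul_sub, sub_mul] at hc
    have hlfl : l * φ * l = 0 := by
      have e : (2 : ZMod p) • (l * φ * l) = 0 := by
        have hl2 : ∀ w, l * (l * w) = 0 := fun w => by rw [← mul_assoc, hl.sq, zero_mul]
        rw [← sub_eq_zero] at hc
        rw [← hc]
        simp only [mul_assoc, hl.sq, hl2, mul_zero, sub_zero, zero_sub, zero_add]
        module
      exact (smul_eq_zero.mp e).resolve_left h2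
    refine ⟨l, hw, h.min_right.of_rk_le hl.good hne ?_, hl⟩
    have f1 := IsMin.finrank_inf_ker l (LinearMap.range φ)
    rw [← range_mul] at f1
    have f2 : LinearMap.range (φ * l : E) ≤ LinearMap.range φ ⊓ LinearMap.ker l := by
      rintro _ ⟨v, rfl⟩
      exact ⟨⟨l v, rfl⟩, LinearMap.congr_fun hlfl v⟩
    have f3 := Submodule.finrank_mono f2
    have f4 : rk (α * φ * l) ≤ rk (φ * l) := by rw [mul_assoc]; exact rk_mul_le_right _ _
    have f5 : rk (l * (φ * α)) ≤ rk (l * φ) := by rw [← mul_assoc]; exact rk_mul_le_left _ _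
    have f6 : rk l ≤ rk (α * φ * l) + rk (l * (φ * α)) := by
      conv_lhs => rw [hw.eq]
      refine (Submodule.finrank_mono ?_).trans (Submodule.finrank_add_le_finrank_add_finrank _ _)
      rintro _ ⟨v, rfl⟩
      exact add_mem (Submodule.mem_sup_left ⟨v, rfl⟩) (Submodule.mem_sup_right ⟨v, rfl⟩)
    unfold rk at *
    omega
  by_cases h1 : part1 α φ b = 0
  swap
  · obtain ⟨l, k⟩ := key h hR h1
    exact ⟨α, φ, l, h, hR, k⟩
  by_cases h3 : part1 φ α b = 0
  swap
  · obtain ⟨l, k⟩ := key h.symm (fun a ha => (hR a ha).symm) h3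
    exact ⟨φ, α, l, h.symm, fun a ha => (hR a ha).symm, k⟩
  exfalso
  have s1 := hbC.sandwich hp hb.act h.min_left
    (mem_normalizer_pInv_of_tau h.min_left.good fun a ha => (hR a ha).1)
  have s2 := hbC.sandwich hp hb.act h.min_right
    (mem_normalizer_pInv_of_tau h.min_right.good fun a ha => (hR a ha).2)
  have e : part0 α φ b = b := by
    conv_rhs => rw [← part_sum h.rel s1 s2, h1, h3, zero_add, add_zero]
  have c1 := part0_commute_left h.rel b
  have c2 := part0_commute_left h.rel.symm b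
  rw [part0_swap] at c2
  rw [e] at c1 c2
  have eφ := hbC.commute_of_idem hp hb.act h hR c1 c2
  have eα := hbC.commute_of_idem hp hb.act h.symm (fun a ha => (hR a ha).symm) c2 c1
  have cjt : ∀ {X : E}, X * b = b * X → cj t X = X := fun {X} e => by
    rw [cj_eq_iff_commute]
    rw [hbdef, mul_sub, sub_mul, mul_one, one_mul] at e
    exact (sub_left_injective e).symm
  exact hb.back h hR ht ht1 (cjt eα) (cjt eφ)

end Bad

end Cfsg.Agent.Lib.Flavell42
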