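import Cfsg.Agent.Lib.Flavell42.PInv
import Mathlib.GroupTheory.Nilpotent

/-!
The subgroup generated by the `p'`-elements, and groups that are central extensions of `p`-groups.
-/

namespace Cfsg.Agent.Lib.Flavell42

open Subgroup
open Cfsg.Agent.Lib

set_option linter.style.haveILetI false

variable {X : Type*} [Group X] {p : ℕ} {G H N O T Z : Subgroup X}

/-- `O^p(G)`, in the ambient group. -/
def pRes (p : ℕ) (G : Subgroup X) : Subgroup X :=
  closure {g | g ∈ G ∧ (orderOf g).Coprime p}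

theorem pRes_le : pRes p G ≤ G := (closure_le _).mpr fun _ hg => hg.1

theorem mem_pRes {g : X} (hg : g ∈ G) (hc : (orderOf g).Coprime p) : g ∈ pRes p G :=
  subset_closure ⟨hg, hc⟩

theorem pRes_mono (h : H ≤ G) : pRes p H ≤ pRes p G :=
  closure_mono fun _ hg => ⟨h hg.1, hg.2⟩

theorem normalizer_le_normalizer_pRes [Finite X] :
    normalizer (G : Set X) ≤ normalizer (pRes p G : Set X) := by
  intro g hg
  refine mem_normalizer_of_forall fun x hx => ?_
  have hle : pRes p G ≤ (pRes p G).comap (MulAut.conj g).toMonoidHom :=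
    (closure_le _).mpr fun y hy => mem_pRes (p := p) (conj_mem hg hy.1) (by
      rw [MulEquiv.coe_toMonoidHom, MulEquiv.orderOf_eq]; exact hy.2)
  exact hle hx

variable [Fact p.Prime]

theorem exists_pow_mem_pRes [Finite X] {g : X} (hg : g ∈ G) :
    ∃ n : ℕ, g ^ p ^ n ∈ pRes p G := by
  refine ⟨(orderOf g).factorization p, mem_pRes (pow_mem hg _) ?_⟩
  have h0 : orderOf g ≠ 0 := (orderOf_pos g).ne'
  rw [orderOf_pow_of_dvd (pow_ne_zero _ (Fact.out : p.Prime).ne_zero) (Nat.ordProj_dvd _ _)]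
  exact (Nat.coprime_ordCompl (Fact.out : p.Prime) h0).symm

theorem pRes_le_of [Finite X] (h : ∀ g ∈ G, ∃ n : ℕ, g ^ p ^ n ∈ N) : pRes p G ≤ N := by
  refine (closure_le _).mpr fun g hg => ?_
  obtain ⟨n, hn⟩ := h g hg.1
  obtain ⟨m, hm⟩ := exists_pow_eq_self_of_coprime (hg.2.symm.pow_left n : (p ^ n).Coprime (orderOf g))
  rw [← hm]
  exact pow_mem hn m

theorem exists_pow_mem_of_sup [Finite X] (hT : IsPGroup p T) (hn : T ≤ normalizer (N : Set X))
    {g : X} (hg : g ∈ T ⊔ N) : ∃ n : ℕ, g ^ p ^ n ∈ N := by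
  rw [← SetLike.mem_coe, coe_mul_of_left_le_normalizer_right T N hn] at hg
  obtain ⟨t, ht, m, hm, rfl⟩ := hg
  obtain ⟨n, hn'⟩ := hT ⟨t, ht⟩
  refine ⟨n, ?_⟩
  obtain ⟨m', hm', he⟩ : ∃ m' ∈ N, (t * m) ^ p ^ n = t ^ p ^ n * m' := by
    have key : ∀ k : ℕ, ∃ m' ∈ N, (t * m) ^ k = t ^ k * m' := fun k => by
      induction k with
      | zero => exact ⟨1, one_mem _, by simp⟩
      | succ k ih =>
        obtain ⟨m', hm', he⟩ := ih
        refine ⟨t⁻¹ * m' * t * m, mul_mem ?_ hm, by rw [pow_succ, he, pow_succ]; group⟩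
        simpa using conj_mem (inv_mem (hn ht)) hm'
    exact key _
  have : t ^ p ^ n = 1 := by simpa [Subtype.ext_iff] using hn'
  show (t * m) ^ p ^ n ∈ N
  rw [he, this, one_mul]
  exact hm'

theorem isPGroup_quotient_of_pow [Finite X] [(O.subgroupOf G).Normal]
    (h : ∀ g ∈ G, ∃ n : ℕ, g ^ p ^ n ∈ O) : IsPGroup p (G ⧸ O.subgroupOf G) := by
  intro x
  induction x using QuotientGroup.induction_on with
  | H g =>
    obtain ⟨n, hn⟩ := h g g.2
    refine ⟨n, ?_⟩
    rw [← QuotientGroup.mk_pow, QuotientGroup.eq_one_iff, Subgroup.mem_subgroupOf]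
    simpa using hn

theorem isNilpotent_of_central [Finite X] (hZ : Z ≤ centralizer (H : Set X))
    (h : ∀ g ∈ H, ∃ n : ℕ, g ^ p ^ n ∈ Z) : Group.IsNilpotent H := by
  have hc : Z.subgroupOf H ≤ center H := fun z hz => mem_center_iff.mpr fun g =>
    Subtype.ext (mem_centralizer_iff.mp (hZ hz) g g.2)
  haveI : (Z.subgroupOf H).Normal := ⟨fun n hn g => by
    rw [mem_center_iff.mp (hc hn) g, mul_inv_cancel_right]; exact hn⟩
  haveI := (isPGroup_quotient_of_pow (O := Z) h).isNilpotent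
  exact Subgroup.isNilpotent_of_ker_le_center (QuotientGroup.mk' (Z.subgroupOf H))
    (by rwa [QuotientGroup.ker_mk'])

theorem le_pCoreOf_of_isNilpotent [Finite X] (hH : Group.IsNilpotent H) (hTH : T ≤ H)
    (hT : IsPGroup p T) : T ≤ pCoreOf p H := by
  haveI := hH
  obtain ⟨S, hS⟩ := ((hT.of_equiv (subgroupOfEquivOfLe hTH).symm) :
    IsPGroup p (T.subgroupOf H)).exists_le_sylow
  haveI : (S : Subgroup H).Normal :=
    Sylow.normal_of_normalizerCondition Group.normalizerCondition_of_isNilpotent S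
  intro x hx
  exact ⟨⟨x, hTH hx⟩, Cores.le_pCore S.isPGroup' (hS hx), rfl⟩

theorem isSolvable_of_pow [Finite X] (hOG : O ≤ G) (hn : G ≤ normalizer (O : Set X))
    (hO : Group.IsSolvable O) (h : ∀ g ∈ G, ∃ n : ℕ, g ^ p ^ n ∈ O) : Group.IsSolvable G := by
  haveI : (O.subgroupOf G).Normal := (normal_subgroupOf_iff_le_normalizer hOG).mpr hn
  haveI := (isPGroup_quotient_of_pow h).isNilpotent
  haveI := hO
  exact Group.isSolvable_of_ker_le_range (Subgroup.inclusion hOG)
    (QuotientGroup.mk' (O.subgroupOf G))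
    (by rw [QuotientGroup.ker_mk', Subgroup.inclusion_range])

end Cfsg.Agent.Lib.Flavell42
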