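import Cfsg.Agent.Lib.Flavell42.Setting
import Cfsg.Agent.Lib.Flavell42.Residual

/-!
The minimal configuration: `O^p(G)` is the least noncentral invariant normal subgroup, the classes
of minimal elements form one orbit, and `R` fixes a normalised pair.
-/

set_option linter.style.haveILetI false
set_option linter.unusedSimpArgs false

namespace Cfsg.Agent.Lib.Flavell42

open QuadPair Subgroup
open scoped commutatorElement

variable {p : ℕ} [Fact p.Prime] {V : Type} [AddCommGroup V] [Module (ZMod p) V] [Finite V]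

local notation "GLV" => LinearMap.GeneralLinearGroup (ZMod p) V
local notation "E" => (V →ₗ[ZMod p] V)

variable {R G : Subgroup (LinearMap.GeneralLinearGroup (ZMod p) V)}

/-- A configuration with a nontrivial quadratic element in `pInv`. -/
structure Bad (R G : Subgroup (LinearMap.GeneralLinearGroup (ZMod p) V)) : Prop
    extends Config R G where
  bad : ∃ x, IsQP R G x ∧ x ≠ 1

omit [Finite V] in
theorem commute_sub_one_iff {u w : GLV} :
    u * w = w * u ↔ ((u : E) - 1) * ((w : E) - 1) = ((w : E) - 1) * ((u : E) - 1) := by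
  rw [Units.ext_iff, Units.val_mul, Units.val_mul]
  have e : ((u : E) - 1) * ((w : E) - 1) - ((w : E) - 1) * ((u : E) - 1) =
      (u : E) * (w : E) - (w : E) * (u : E) := by noncomm_ring
  rw [← sub_eq_zero, ← e, sub_eq_zero]

namespace Bad

variable (h : Bad R G)
include h

theorem normalizer_pInv_R : R ≤ normalizer (pInv p R G : Set GLV) := act_le_normalizer_pInv h.act

theorem exists_min : ∃ X : E, IsMin G X := by
  classical
  obtain ⟨x, hx, hx1⟩ := h.bad
  have hg := hx.good
  have h0 : (x : E) - 1 ≠ 0 := fun e => hx1 (Units.ext (sub_eq_zero.mp e))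
  have hex : ∃ n, ∃ Y : E, Good G Y ∧ Y ≠ 0 ∧ rk Y = n := ⟨_, _, hg, h0, rfl⟩
  obtain ⟨Y, hY, hY0, hr⟩ := Nat.find_spec hex
  exact ⟨Y, hY, hY0, fun Z hZ hZ0 => by rw [hr]; exact Nat.find_min' hex ⟨Z, hZ, hZ0, rfl⟩⟩

theorem exists_pair : ∃ α φ : E, IsPair G α φ := by
  obtain ⟨X, hX⟩ := h.exists_min
  obtain ⟨g, hg, hT⟩ := exists_partner_of h.hp h.noCore hX
  obtain ⟨φ, -, hφ⟩ := exists_isPair h.hp hT
  exact ⟨X, φ, hφ⟩

theorem not_solvable : ¬ Group.IsSolvable G := by
  intro hs
  obtain ⟨α, φ, hp'⟩ := h.exists_pair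
  have h2 := two_ne h.hp
  have hder : ∀ n : ℕ, ∀ c : ZMod p,
      (⟨tau (c • α), tau_smul_mem hp'.min_left.good c⟩ : G) ∈ derivedSeries G n ∧
      (⟨tau (c • φ), tau_smul_mem hp'.min_right.good c⟩ : G) ∈ derivedSeries G n := by
    intro n
    induction n with
    | zero => exact fun c => ⟨trivial, trivial⟩
    | succ n ih =>
      have h3 : (2 : ZMod p) * 2 - 1 ≠ 0 := by
        rw [show (2 : ZMod p) * 2 - 1 = 3 by norm_num]; exact three_ne h.hp
      have htor : ∀ d : ZMod p,
          (⟨torus α φ d, torus_mem hp'.rel hp'.min_left.good hp'.min_right.good d⟩ : G) ∈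
            derivedSeries G n := fun d =>
        mul_mem (mul_mem (mul_mem (ih _).1 (ih _).2) (ih _).1)
          (mul_mem (mul_mem (ih _).1 (ih _).2) (ih _).1)
      have key : ∀ (d : ZMod p) (x : E) (hx : Good G x) (e : ZMod p), d ≠ 0 →
          cj (torus α φ d) x = e • x → e - 1 ≠ 0 →
          (∀ c : ZMod p, (⟨tau (c • x), tau_smul_mem hx c⟩ : G) ∈ derivedSeries G n) →
          ∀ c : ZMod p, (⟨tau (c • x), tau_smul_mem hx c⟩ : G) ∈ derivedSeries G (n + 1) := by
        intro d x hx e _ hc he hmem c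
        rw [derivedSeries_succ]
        have hm := commutator_mem_commutator (htor d) (hmem (c * (e - 1)⁻¹))
        convert hm using 1
        refine Subtype.ext ?_
        show tau (c • x) = ⁅torus α φ d, tau ((c * (e - 1)⁻¹) • x)⁆
        rw [commutatorElement_def, conj_tau _ (smul_sq hx.sq _), cj_smul, hc,
          tau_inv (smul_sq hx.sq _), smul_smul, ← neg_smul,
          tau_mul (smul_sq hx.sq _) (smul_sq hx.sq _) (by simp [smul_mul_smul_comm, hx.sq])
            (by simp [smul_mul_smul_comm, hx.sq]), ← add_smul]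
        congr 2
        field_simp
        ring
      intro c
      refine ⟨key 2 α hp'.min_left.good (2 * 2) h2 ?_ h3 (fun c => (ih c).1) c,
        key 2⁻¹ φ hp'.min_right.good (2 * 2) (inv_ne_zero h2) ?_ h3 (fun c => (ih c).2) c⟩
      · rw [cj, val_torus hp'.rel h2, val_torus_inv hp'.rel h2]
        have r := hp'.rel
        simp only [e0, add_mul, mul_add, sub_mul, mul_sub, one_mul, mul_one, smul_mul_assoc,
          mul_smul_comm, smul_smul, mul_assoc, r.aa, r.ff, r.aa', r.ff', r.afa1, r.faf1, r.afa',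
          r.faf', mul_zero, zero_mul, smul_zero, sub_zero, add_zero, sub_self, zero_add]
      · rw [cj, val_torus hp'.rel (inv_ne_zero h2), val_torus_inv hp'.rel (inv_ne_zero h2)]
        have r := hp'.rel
        simp only [e0, add_mul, mul_add, sub_mul, mul_sub, one_mul, mul_one, smul_mul_assoc,
          mul_smul_comm, smul_smul, mul_assoc, r.aa, r.ff, r.aa', r.ff', r.afa1, r.faf1, r.afa',
          r.faf', mul_zero, zero_mul, smul_zero, sub_zero, add_zero, sub_self, zero_add, inv_inv]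
  obtain ⟨n, hn⟩ := (Group.isSolvable_def G).mp hs
  have := (hder n 1).1
  rw [hn, mem_bot, Subtype.ext_iff] at this
  have h1 : tau ((1 : ZMod p) • α) = 1 := this
  rw [one_smul, tau_eq_one_iff hp'.min_left.good.sq] at h1
  exact hp'.min_left.ne_zero h1

/-- `T`, generated by the quadratic elements of `pInv`. -/
theorem closure_le_pInv : closure {x | IsQP R G x} ≤ pInv p R G :=
  (closure_le _).mpr fun _ hx => hx.1

theorem R_le_normalizer_closure : R ≤ normalizer (closure {x | IsQP R G x} : Set GLV) := by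
  intro a ha
  refine mem_normalizer_of_forall (X := GLV) fun x hx => ?_
  have hle : closure {x | IsQP R G x} ≤
      (closure {x | IsQP R G x}).comap (MulAut.conj a).toMonoidHom :=
    (closure_le _).mpr fun y hy => subset_closure (hy.conj (h.normalizer_pInv_R ha))
  exact hle hx

/-- A proper invariant normal subgroup supplemented by the quadratic elements is centralised. -/
theorem commute_of_sup_lt {N : Subgroup GLV} (hN : N ≤ G) (hGN : G ≤ normalizer (N : Set GLV))
    (hRN : R ≤ normalizer (N : Set GLV)) (hlt : N ⊔ closure {x | IsQP R G x} ≠ G) {x : GLV}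
    (hx : IsQP R G x) : ∀ n ∈ N, n * x = x * n := by
  intro n hn
  have hT : closure {x | IsQP R G x} ≤ G := h.closure_le_pInv.trans pInv_le
  set K := N ⊔ closure {x | IsQP R G x} with hK
  have hKG : K < G := lt_of_le_of_ne (sup_le hN hT) hlt
  have hRK : R ≤ normalizer (K : Set GLV) := Coprime.le_normalizer_sup hRN h.R_le_normalizer_closure
  have hxK : x ∈ pCoreOf p K := h.fact hKG hRK hx.1 hx.2 (mem_sup_right (subset_closure hx))
  have hc : ⁅n, x⁆ ∈ pCoreOf p K ⊓ N := by
    refine mem_inf.mpr ⟨mul_mem (conj_mem (CosetGraph.SylowIn.le_normalizer_pCoreOf p K (mem_sup_left hn)) hxK)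
      (inv_mem hxK), ?_⟩
    have : ⁅n, x⁆ = n * (x * n⁻¹ * x⁻¹) := by simp only [commutatorElement_def]; group
    rw [this]
    exact mul_mem hn (conj_mem (hGN (hT (subset_closure hx))) (inv_mem hn))
  have hle : pCoreOf p K ⊓ N ≤ pCoreOf p N :=
    CosetGraph.SylowIn.le_pCoreOf inf_le_right
      (fun g hg => Coprime.le_normalizer_inf (CosetGraph.SylowIn.le_normalizer_pCoreOf p K)
        ((sup_le hN hT).trans hGN) (mem_sup_left hg))
      ((CosetGraph.SylowIn.isPGroup_pCoreOf p K).to_le inf_le_left)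
  have h1 := (hle.trans (pCoreOf_mono_normal hN hGN)) hc
  rw [h.pCoreOf_eq_bot, mem_bot] at h1
  exact commutatorElement_eq_one_iff_mul_comm.mp h1

/-- Elements of `pInv` centralising `G` are trivial. -/
theorem eq_one_of_central {x : GLV} (hx : x ∈ pInv p R G) (hc : ∀ g ∈ G, g * x = x * g) : x = 1 := by
  have hxG := pInv_le hx
  have hle : zpowers x ≤ pCoreOf p G := by
    refine CosetGraph.SylowIn.le_pCoreOf (zpowers_le.mpr hxG) ?_
      ((isPGroup_pInv h.act).to_le (zpowers_le.mpr hx))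
    intro g hg
    refine mem_normalizer_of_forall (X := GLV) fun y hy => ?_
    obtain ⟨j, rfl⟩ := mem_zpowers_iff.mp hy
    have hcj : g * x ^ j * g⁻¹ = x ^ j := by
      rw [← conj_zpow, hc g hg, mul_inv_cancel_right]
    rw [hcj]
    exact zpow_mem (mem_zpowers x) j
  have := hle (mem_zpowers x)
  rwa [h.pCoreOf_eq_bot, mem_bot] at this

/-- A noncentral invariant normal subgroup contains `O^p(G)`. -/
theorem pRes_le_of_noncentral {N : Subgroup GLV} (hN : N ≤ G) (hGN : G ≤ normalizer (N : Set GLV))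
    (hRN : R ≤ normalizer (N : Set GLV)) (hnc : ¬ N ≤ centralizer (G : Set GLV)) :
    pRes p G ≤ N := by
  have hsup : N ⊔ closure {x | IsQP R G x} = G := by
    by_contra hlt
    have hc := fun {x} hx => h.commute_of_sup_lt hN hGN hRN hlt (x := x) hx
    set C := G ⊓ centralizer (N : Set GLV) with hC
    have hnC : ∀ S : Subgroup GLV, S ≤ normalizer (G : Set GLV) → S ≤ normalizer (N : Set GLV) →
        S ≤ normalizer (C : Set GLV) := by
      intro S hSG hSN g hg
      refine mem_normalizer_of_forall (X := GLV) fun y hy => mem_inf.mpr ⟨conj_mem (hSG hg) hy.1, ?_⟩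
      rw [mem_centralizer_iff]
      intro m hm
      have h1 : g⁻¹ * m * g ∈ N := by simpa using conj_mem (inv_mem (hSN hg)) hm
      calc m * (g * y * g⁻¹) = g * ((g⁻¹ * m * g) * y) * g⁻¹ := by group
        _ = g * (y * (g⁻¹ * m * g)) * g⁻¹ := by rw [mem_centralizer_iff.mp hy.2 _ h1]
        _ = g * y * g⁻¹ * m := by group
    have hCG : C < G := lt_of_le_of_ne inf_le_left fun e => hnc fun m hm => by
      rw [mem_centralizer_iff]
      intro g hg
      rw [SetLike.mem_coe, ← e] at hg
      exact (mem_centralizer_iff.mp hg.2 m hm).symm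
    obtain ⟨x, hx, hx1⟩ := h.bad
    have hxC : x ∈ C := ⟨pInv_le hx.1, mem_centralizer_iff.mpr (hc hx)⟩
    have h1 := (pCoreOf_mono_normal inf_le_left (hnC G le_normalizer hGN))
      (h.fact hCG (hnC R h.act.norm hRN) hx.1 hx.2 hxC)
    rw [h.pCoreOf_eq_bot, mem_bot] at h1
    exact hx1 h1
  refine pRes_le_of fun g hg => ?_
  refine exists_pow_mem_of_sup ((isPGroup_pInv h.act).to_le h.closure_le_pInv)
    (h.closure_le_pInv.trans (pInv_le.trans hGN)) ?_
  rw [sup_comm, hsup]
  exact hg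

theorem pRes_noncentral : ¬ pRes p G ≤ centralizer (G : Set GLV) := fun hle => by
  haveI := isNilpotent_of_central (H := G) hle fun g hg => exists_pow_mem_pRes hg
  exact h.not_solvable inferInstance

/-- The centraliser of `O^p(G)` in `G` is central. -/
theorem centralizer_pRes_le :
    G ⊓ centralizer (pRes p G : Set GLV) ≤ centralizer (G : Set GLV) := by
  by_contra hnc
  have hO : G ≤ normalizer (pRes p G : Set GLV) := le_normalizer.trans normalizer_le_normalizer_pRes
  have hn : ∀ S : Subgroup GLV, S ≤ normalizer (G : Set GLV) →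
      S ≤ normalizer ((G ⊓ centralizer (pRes p G : Set GLV) : Subgroup GLV) : Set GLV) := by
    intro S hSG g hg
    have hgO := normalizer_le_normalizer_pRes (p := p) (hSG hg)
    refine mem_normalizer_of_forall (X := GLV) fun y hy => mem_inf.mpr ⟨conj_mem (hSG hg) hy.1, ?_⟩
    rw [mem_centralizer_iff]
    intro m hm
    have h1 : g⁻¹ * m * g ∈ pRes p G := by simpa using conj_mem (inv_mem hgO) hm
    calc m * (g * y * g⁻¹) = g * ((g⁻¹ * m * g) * y) * g⁻¹ := by group
      _ = g * (y * (g⁻¹ * m * g)) * g⁻¹ := by rw [mem_centralizer_iff.mp hy.2 _ h1]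
      _ = g * y * g⁻¹ * m := by group
  have hle := h.pRes_le_of_noncentral inf_le_left (hn G le_normalizer) (hn R h.act.norm) hnc
  haveI : IsMulCommutative (pRes p G) := ⟨⟨fun a b => Subtype.ext
    (mem_centralizer_iff.mp (hle b.2).2 a.1 a.2)⟩⟩
  exact h.not_solvable (isSolvable_of_pow pRes_le hO (Coprime.isSolvable_of_isMulCommutative _)
    fun g hg => exists_pow_mem_pRes hg)

omit h in
/-- The group of the roots conjugate to `N`. -/
def rootGrp (G : Subgroup (LinearMap.GeneralLinearGroup (ZMod p) V)) (N : E) : Subgroup GLV :=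
  closure {τ | ∃ X : E, IsMin G X ∧ ConjCls G N X ∧ τ = tau X}

omit h in
theorem rootGrp_le (N : E) : rootGrp G N ≤ G :=
  (closure_le _).mpr fun _ ⟨_, hX, _, e⟩ => e ▸ tau_mem hX.good

omit h in
theorem conjCls_cjN {N X : E} {a : GLV} (ha : a ∈ normalizer (G : Set GLV)) (hc : ConjCls G N X) :
    ConjCls G (cj a N) (cj a X) := by
  obtain ⟨g, hg, hcls⟩ := hc
  refine ⟨a * g * a⁻¹, conj_mem ha hg, ?_⟩
  rw [cj_comp, cj_comp, cj_inv_cj]
  exact InCls.cjN hcls ha

omit h in
theorem rootGrp_cj {N : E} {a : GLV} (ha : a ∈ normalizer (G : Set GLV)) {x : GLV}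
    (hx : x ∈ rootGrp G N) : a * x * a⁻¹ ∈ rootGrp G (cj a N) := by
  have hle : rootGrp G N ≤ (rootGrp G (cj a N)).comap (MulAut.conj a).toMonoidHom := by
    refine (closure_le _).mpr ?_
    rintro _ ⟨X, hX, hc, rfl⟩
    exact subset_closure ⟨cj a X, IsMin.cjN hX ha, conjCls_cjN ha hc, conj_tau a hX.good.sq⟩
  exact hle hx

omit h in
theorem rootGrp_eq {N N' : E} (hN : IsMin G N) (hN' : IsMin G N') (hc : ConjCls G N N') :
    rootGrp G N = rootGrp G N' := by
  refine le_antisymm ((closure_le _).mpr ?_) ((closure_le _).mpr ?_)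
  · rintro _ ⟨X, hX, h1, rfl⟩
    exact subset_closure ⟨X, hX, ConjCls.trans hN hN' hX (ConjCls.symm hN hN' hc) h1, rfl⟩
  · rintro _ ⟨X, hX, h1, rfl⟩
    exact subset_closure ⟨X, hX, ConjCls.trans hN' hN hX hc h1, rfl⟩

omit h in
theorem le_normalizer_rootGrp {N : E} (hN : IsMin G N) :
    G ≤ normalizer (rootGrp G N : Set GLV) := fun g hg =>
  mem_normalizer_of_forall (X := GLV) fun x hx => by
    have h1 := rootGrp_cj (le_normalizer hg) hx
    rwa [← rootGrp_eq hN (hN.cj hg) ⟨g, hg, inCls_self (hN.cj hg).good⟩] at h1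

/-- Roots in different orbits commute. -/
theorem commute_rootGrp {N N' : E} (hN : IsMin G N) (hN' : IsMin G N') (hne : ¬ ConjCls G N N') :
    ∀ x ∈ rootGrp G N, ∀ y ∈ rootGrp G N', x * y = y * x := by
  intro x hx y hy
  have key : rootGrp G N ≤ centralizer (rootGrp G N' : Set GLV) := by
    refine (closure_le _).mpr ?_
    rintro _ ⟨X, hX, hc, rfl⟩
    rw [SetLike.mem_coe, mem_centralizer_iff]
    intro z hz
    induction hz using closure_induction with
    | mem z hz =>
      obtain ⟨Y, hY, hc', rfl⟩ := hz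
      rw [commute_sub_one_iff, tau_sub_one hY.good.sq, tau_sub_one hX.good.sq]
      by_contra hXY
      exact hne (ConjCls.trans hX hN hN' hc (ConjCls.trans hY hX hN'
        (conjCls_of_ne h.hp h.noCore hX hY (Ne.symm hXY)) (ConjCls.symm hN' hY hc')))
    | one => simp
    | mul u v _ _ hu hv => rw [mul_assoc, hv, ← mul_assoc, hu, mul_assoc]
    | inv u _ hu => exact ((Commute.inv_left hu : Commute u⁻¹ (tau X))).eq
  exact (mem_centralizer_iff.mp (key hx) y hy).symm

theorem tau_ne_central {N : E} (hN : IsMin G N) : tau N ∉ centralizer (G : Set GLV) := by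
  intro hc
  have hle : zpowers (tau N) ≤ pCoreOf p G := by
    refine CosetGraph.SylowIn.le_pCoreOf (zpowers_le.mpr (tau_mem hN.good)) ?_ ?_
    · intro g hg
      refine mem_normalizer_of_forall (X := GLV) fun y hy => ?_
      obtain ⟨j, rfl⟩ := mem_zpowers_iff.mp hy
      rw [← conj_zpow, mem_centralizer_iff.mp hc g hg, mul_inv_cancel_right]
      exact zpow_mem (mem_zpowers _) j
    · rintro ⟨y, hy⟩
      obtain ⟨j, rfl⟩ := mem_zpowers_iff.mp hy
      refine ⟨1, Subtype.ext ?_⟩
      show (tau N ^ j) ^ p ^ 1 = 1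
      rw [pow_one, ← zpow_natCast, ← zpow_mul, mul_comm, zpow_mul, zpow_natCast,
        tau_pow hN.good.sq, ZMod.natCast_self, zero_smul, tau_zero, one_zpow]
  have := hle (mem_zpowers (tau N))
  rw [h.pCoreOf_eq_bot, mem_bot, tau_eq_one_iff hN.good.sq] at this
  exact hN.ne_zero this

/-- `R` fixes every orbit of classes. -/
theorem conjCls_fixed {N : E} (hN : IsMin G N) {a₀ : GLV} (ha₀ : a₀ ∈ R) :
    ConjCls G N (cj a₀ N) := by
  classical
  by_contra hne
  set P := pInv p R G with hPdef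
  set T := closure {x | IsQP R G x} with hT
  have hRG := h.act.norm
  have hTG : T ≤ G := h.closure_le_pInv.trans pInv_le
  have hmin : ∀ a ∈ R, IsMin G (cj a N) := fun a ha => IsMin.cjN hN (hRG ha)
  set G1 := rootGrp G N with hG1
  set R₁ := R ⊓ normalizer (G1 : Set GLV) with hR₁
  set M := ⨆ a ∈ {a | a ∈ R ∧ ¬ ConjCls G N (cj a N)}, rootGrp G (cj a N) with hM
  have hG1M : ∀ x ∈ G1, ∀ y ∈ M, x * y = y * x := by
    intro x hx y hy
    have hle : M ≤ centralizer (G1 : Set GLV) := iSup₂_le fun a ha z hz =>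
      mem_centralizer_iff.mpr fun w hw => h.commute_rootGrp hN (hmin a ha.1) ha.2 w hw z hz
    exact mem_centralizer_iff.mp (hle hy) x hx
  have hMG : M ≤ G := iSup₂_le fun a _ => rootGrp_le _
  have hGG1 : G ≤ normalizer (G1 : Set GLV) := le_normalizer_rootGrp hN
  have hGM : G ≤ normalizer (M : Set GLV) := by
    intro g hg
    refine mem_normalizer_of_forall (X := GLV) fun x hx => ?_
    have hle : M ≤ M.comap (MulAut.conj g).toMonoidHom := iSup₂_le fun a ha z hz =>
      mem_iSup_of_mem a (mem_iSup_of_mem ha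
        (conj_mem (le_normalizer_rootGrp (hmin a ha.1) hg) hz))
    exact hle hx
  have hall : ∀ a ∈ R, rootGrp G (cj a N) ≤ G1 ⊔ M := fun a ha => by
    by_cases hc : ConjCls G N (cj a N)
    · rw [← rootGrp_eq hN (hmin a ha) hc]; exact le_sup_left
    · exact le_sup_of_le_right (le_iSup₂ (f := fun a _ => rootGrp G (cj a N)) a ⟨ha, hc⟩)
  have hOsum : pRes p G ≤ G1 ⊔ M := by
    refine h.pRes_le_of_noncentral (sup_le (rootGrp_le _) hMG)
      (Coprime.le_normalizer_sup hGG1 hGM) (fun a ha => ?_) ?_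
    · refine mem_normalizer_of_forall (X := GLV) fun x hx => ?_
      have hle : G1 ⊔ M ≤ (G1 ⊔ M).comap (MulAut.conj a).toMonoidHom := by
        refine sup_le (fun z hz => hall a ha (rootGrp_cj (hRG ha) hz))
          (iSup₂_le fun b hb z hz => ?_)
        have h1 := rootGrp_cj (hRG ha) hz
        rw [← cj_comp] at h1
        exact hall _ (mul_mem ha hb.1) h1
      exact hle hx
    · exact fun hle => h.tau_ne_central hN
        (hle (mem_sup_left (subset_closure ⟨N, hN, ConjCls.refl hN, rfl⟩)))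
  set Z := G1 ⊓ M with hZ
  have hZcent : Z ≤ centralizer (G : Set GLV) := by
    refine le_trans (le_inf ((inf_le_left).trans (rootGrp_le _)) fun z hz => ?_) h.centralizer_pRes_le
    rw [mem_centralizer_iff]
    intro w hw
    have hle : G1 ⊔ M ≤ centralizer ({z} : Set GLV) :=
      sup_le (fun u hu => mem_centralizer_singleton_iff.mpr (hG1M u hu z hz.2))
        (fun u hu => mem_centralizer_singleton_iff.mpr (hG1M z hz.1 u hu).symm)
    exact mem_centralizer_singleton_iff.mp (hle (hOsum hw))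
  set K := G1 ⊔ T with hK
  have hKG : K ≤ G := sup_le (rootGrp_le _) hTG
  have hKne : K ≠ G := by
    intro e
    have hle : pRes p G ≤ G1 := pRes_le_of fun g hg =>
      exists_pow_mem_of_sup ((isPGroup_pInv h.act).to_le h.closure_le_pInv)
        (hTG.trans hGG1) (by rw [sup_comm, ← hK, e]; exact hg)
    have hm : tau (cj a₀ N) ∈ M :=
      mem_iSup_of_mem a₀ (mem_iSup_of_mem ⟨ha₀, hne⟩
        (subset_closure ⟨_, hmin a₀ ha₀, ConjCls.refl (hmin a₀ ha₀), rfl⟩))
    refine h.tau_ne_central (hmin a₀ ha₀) (h.centralizer_pRes_le ⟨hMG hm, ?_⟩)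
    exact mem_centralizer_iff.mpr fun w hw => hG1M w (hle hw) _ hm
  have hR1T : R₁ ≤ normalizer (T : Set GLV) := inf_le_left.trans h.R_le_normalizer_closure
  have hR1G1 : R₁ ≤ normalizer (G1 : Set GLV) := inf_le_right
  have hR1M : R₁ ≤ normalizer (M : Set GLV) := by
    intro b hb
    refine mem_normalizer_of_forall (X := GLV) fun x hx => ?_
    have hle : M ≤ M.comap (MulAut.conj b).toMonoidHom := iSup₂_le fun a ha z hz => by
      have h1 := rootGrp_cj (hRG hb.1) hz
      rw [← cj_comp] at h1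
      by_cases hc : ConjCls G N (cj (b * a) N)
      · exfalso
        refine h.tau_ne_central (hmin a ha.1) (hZcent ⟨?_, mem_iSup_of_mem a (mem_iSup_of_mem ha
          (subset_closure ⟨_, hmin a ha.1, ConjCls.refl (hmin a ha.1), rfl⟩))⟩)
        have h2 : tau (cj (b * a) N) ∈ G1 :=
          subset_closure ⟨_, hmin _ (mul_mem hb.1 ha.1), hc, rfl⟩
        have h3 := conj_mem (inv_mem hb.2) h2
        rwa [conj_tau _ (hmin _ (mul_mem hb.1 ha.1)).good.sq, ← cj_comp, inv_mul_cancel_left] at h3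
      · exact mem_iSup_of_mem _ (mem_iSup_of_mem ⟨mul_mem hb.1 ha.1, hc⟩ h1)
    exact hle hx
  set U := (M ⊔ T) ⊓ K with hU
  have hUpow : ∀ u ∈ U, ∃ n : ℕ, u ^ p ^ n ∈ Z := by
    intro u hu
    have hTp := (isPGroup_pInv h.act).to_le h.closure_le_pInv
    obtain ⟨n, hn⟩ := exists_pow_mem_of_sup hTp (hTG.trans hGM) (by rw [sup_comm]; exact hu.1)
    obtain ⟨m, hm⟩ := exists_pow_mem_of_sup hTp (hTG.trans hGG1)
      (by rw [sup_comm]; exact pow_mem hu.2 (p ^ n))
    refine ⟨n + m, ?_, ?_⟩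
    · rw [pow_add, pow_mul]; exact hm
    · rw [pow_add, pow_mul]; exact pow_mem hn _
  have hUnil : Group.IsNilpotent U :=
    isNilpotent_of_central
      (hZcent.trans (centralizer_le (inf_le_right.trans hKG : U ≤ G))) hUpow
  have hTU : T ≤ pCoreOf p U :=
    le_pCoreOf_of_isNilpotent hUnil (le_inf le_sup_right le_sup_right)
      ((isPGroup_pInv h.act).to_le h.closure_le_pInv)
  have hR1U : R₁ ≤ normalizer (U : Set GLV) :=
    Coprime.le_normalizer_inf (Coprime.le_normalizer_sup hR1M hR1T)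
      (Coprime.le_normalizer_sup hR1G1 hR1T)
  have hc1 : ∀ c ∈ G1 ⊓ centralizer (R₁ : Set GLV), c ∈ normalizer (U : Set GLV) := by
    intro c hc
    let S : Set GLV := {z | ∃ a ∈ R, z = a * c * a⁻¹}
    have hScomm : ∀ z ∈ S, ∀ w ∈ S, z * w = w * z := by
      rintro _ ⟨a, ha, rfl⟩ _ ⟨b, hb, rfl⟩
      by_cases hab : ConjCls G (cj a N) (cj b N)
      · have e := rootGrp_eq (hmin a ha) (hmin b hb) hab
        have hba : b⁻¹ * a ∈ R₁ := by
          refine mem_inf.mpr ⟨mul_mem (inv_mem hb) ha, mem_normalizer_of_forall (X := GLV) fun x hx => ?_⟩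
          have h1 := rootGrp_cj (hRG ha) hx
          rw [e] at h1
          have h2 := rootGrp_cj (hRG (inv_mem hb)) h1
          rw [cj_inv_cj] at h2
          simpa [mul_assoc] using h2
        have h3 := mem_centralizer_iff.mp hc.2 _ hba
        have : a * c * a⁻¹ = b * c * b⁻¹ := by
          calc a * c * a⁻¹ = b * (b⁻¹ * a * c) * a⁻¹ := by group
            _ = b * (c * (b⁻¹ * a)) * a⁻¹ := by rw [h3]
            _ = _ := by group
        rw [this]
      · exact h.commute_rootGrp (hmin a ha) (hmin b hb) hab _ (rootGrp_cj (hRG ha) hc.1) _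
          (rootGrp_cj (hRG hb) hc.1)
    set L := closure S with hL
    haveI : IsMulCommutative L := Subgroup.isMulCommutative_closure hScomm
    letI : CommGroup L := { (inferInstance : Group L) with mul_comm := fun a b => mul_comm' a b }
    haveI : Fintype S := Fintype.ofFinite S
    set C : L := ∏ z : S, (⟨z.1, subset_closure z.2⟩ : L) with hC
    have hCfix : ∀ a ∈ R, a * (C : GLV) * a⁻¹ = (C : GLV) := by
      intro a ha
      have hS : ∀ z ∈ S, a * z * a⁻¹ ∈ S := by
        rintro _ ⟨b, hb, rfl⟩; exact ⟨a * b, mul_mem ha hb, by group⟩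
      have hSi : ∀ z ∈ S, a⁻¹ * z * a ∈ S := by
        rintro _ ⟨b, hb, rfl⟩; exact ⟨a⁻¹ * b, mul_mem (inv_mem ha) hb, by group⟩
      let σ : S ≃ S :=
        { toFun := fun z => ⟨_, hS z.1 z.2⟩
          invFun := fun z => ⟨_, hSi z.1 z.2⟩
          left_inv := fun z => Subtype.ext (by group)
          right_inv := fun z => Subtype.ext (by group) }
      have hLa : L ≤ L.comap (MulAut.conj a).toMonoidHom :=
        (closure_le _).mpr fun z hz => subset_closure (hS z hz)
      let ψ : L →* L :=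
        { toFun := fun x => ⟨a * x.1 * a⁻¹, hLa x.2⟩
          map_one' := Subtype.ext (by simp)
          map_mul' := fun x y => Subtype.ext (by
            show a * (x.1 * y.1) * a⁻¹ = a * x.1 * a⁻¹ * (a * y.1 * a⁻¹); group) }
      have h1 : ψ C = C := by
        rw [hC, map_prod]
        exact Fintype.prod_equiv σ _ _ fun z => Subtype.ext rfl
      exact congrArg Subtype.val h1
    have hSG : L ≤ G := (closure_le _).mpr fun z ⟨a, ha, e⟩ =>
      e ▸ conj_mem (hRG ha) (rootGrp_le _ hc.1)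
    have hCn : (C : GLV) ∈ normalizer (T : Set GLV) := by
      have hP : (C : GLV) ∈ normalizer (P : Set GLV) :=
        centralizer_le_normalizer_pInv (le_normalizer (hSG C.2)) (mem_centralizer_iff.mpr fun a ha =>
          by rw [← mul_inv_eq_iff_eq_mul]; exact hCfix a ha)
      refine mem_normalizer_of_forall (X := GLV) fun x hx => ?_
      have hle : T ≤ T.comap (MulAut.conj (C : GLV)).toMonoidHom :=
        (closure_le _).mpr fun y hy => subset_closure (hy.conj hP)
      exact hle hx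
    have hone : c ∈ S := ⟨1, one_mem _, by group⟩
    set C' : L := ∏ z ∈ Finset.univ.erase (⟨c, hone⟩ : S), (⟨z.1, subset_closure z.2⟩ : L) with hC'
    have hCC : (C : GLV) = c * (C' : GLV) := by
      rw [hC, ← Finset.mul_prod_erase Finset.univ _ (Finset.mem_univ (⟨c, hone⟩ : S))]
      rfl
    have hC'M : (C' : GLV) ∈ M := by
      have : C' ∈ M.subgroupOf L := by
        refine prod_mem fun z hz => ?_
        have hzne : z.1 ≠ c := fun e => (Finset.ne_of_mem_erase hz) (Subtype.ext e)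
        obtain ⟨a, ha, hza⟩ := z.2
        rw [hza] at hzne
        show z.1 ∈ M
        rw [hza]
        refine mem_iSup_of_mem a (mem_iSup_of_mem ⟨ha, fun hcc => hzne ?_⟩ (rootGrp_cj (hRG ha) hc.1))
        have haR : a ∈ R₁ := ⟨ha, mem_normalizer_of_forall (X := GLV) fun x hx => by
          have h1 := rootGrp_cj (hRG ha) hx
          rwa [← rootGrp_eq hN (hmin a ha) hcc] at h1⟩
        rw [mem_centralizer_iff.mp hc.2 a haR, mul_inv_cancel_right]
      exact this
    have hTc : ∀ t ∈ T, c * t * c⁻¹ ∈ M ⊔ T := by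
      intro t ht
      have h1 := conj_mem hCn ht
      rw [hCC] at h1
      have hm : ⁅(C' : GLV), t⁆ ∈ M := by
        have : ⁅(C' : GLV), t⁆ = (C' : GLV) * (t * (C' : GLV)⁻¹ * t⁻¹) := by
          simp only [commutatorElement_def]; group
        rw [this]
        exact mul_mem hC'M (conj_mem (hGM (hTG ht)) (inv_mem hC'M))
      have e : c * t * c⁻¹ = (c * ⁅(C' : GLV), t⁆ * c⁻¹)⁻¹ * (c * (C' : GLV) * t * (c * C')⁻¹) := by
        simp only [commutatorElement_def]; group
      rw [e]
      exact mul_mem (mem_sup_left (inv_mem (conj_mem (hGM (rootGrp_le _ hc.1)) hm)))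
        (mem_sup_right h1)
    refine Coprime.le_normalizer_inf (A := zpowers c) ?_ ?_ (mem_zpowers c)
    · rw [zpowers_le]
      refine mem_normalizer_of_forall (X := GLV) fun x hx => ?_
      have hle : M ⊔ T ≤ (M ⊔ T).comap (MulAut.conj c).toMonoidHom :=
        sup_le (fun z hz => mem_sup_left (conj_mem (hGM (rootGrp_le _ hc.1)) hz))
          fun z hz => hTc z hz
      exact hle hx
    · rw [zpowers_le]; exact le_normalizer (mem_sup_left hc.1)
  have hact : Act R₁ K :=
    (h.act.mono inf_le_left).sub hKG (Coprime.le_normalizer_sup hR1G1 hR1T)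
  have hTK : T ≤ pInv p R₁ K := by
    refine hTU.trans (le_pInv hact ((CosetGraph.SylowIn.pCoreOf_le p U).trans inf_le_right)
      (CosetGraph.SylowIn.isPGroup_pCoreOf p U) (hR1U.trans normalizer_le_normalizer_pCoreOf) ?_)
    intro g hg
    refine normalizer_le_normalizer_pCoreOf ?_
    have hgK : g ∈ G1 ⊔ T := hg.1
    rw [← SetLike.mem_coe, coe_mul_of_right_le_normalizer_left G1 T (hTG.trans hGG1)] at hgK
    obtain ⟨x, hx, y, hy, rfl⟩ := hgK
    have hcopI : (Nat.card R₁).Coprime (Nat.card ↥(G1 ⊓ T)) :=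
      hact.cop.coprime_dvd_right (card_dvd_of_le (inf_le_left.trans le_sup_left))
    obtain ⟨x', hx', y', hy', e⟩ :=
      Coprime.exists_mul_eq_of_fixed hR1G1 hR1T hcopI (.inl hact.solv) hx hy hg.2
    show x * y ∈ _
    rw [e]
    exact mul_mem (hc1 x' hx') (le_normalizer (mem_inf.mpr ⟨mem_sup_right hy'.1, mem_sup_right hy'.1⟩))
  obtain ⟨x, hx, hx1⟩ := h.bad
  have hcomm : ∀ x, IsQP R G x → ∀ n ∈ G1, n * x = x * n := by
    intro x hx n hn
    have hxK : x ∈ pCoreOf p K :=
      h.ih K (lt_of_le_of_ne hKG hKne) R₁ hact x (hTK (subset_closure hx)) hx.2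
    have hc : ⁅n, x⁆ ∈ pCoreOf p K ⊓ G1 := by
      refine mem_inf.mpr ⟨mul_mem (conj_mem (CosetGraph.SylowIn.le_normalizer_pCoreOf p K (mem_sup_left hn)) hxK)
        (inv_mem hxK), ?_⟩
      have : ⁅n, x⁆ = n * (x * n⁻¹ * x⁻¹) := by simp only [commutatorElement_def]; group
      rw [this]
      exact mul_mem hn (conj_mem (hGG1 (pInv_le hx.1)) (inv_mem hn))
    have hle : pCoreOf p K ⊓ G1 ≤ pCoreOf p G1 :=
      CosetGraph.SylowIn.le_pCoreOf inf_le_right
        (fun g hg => Coprime.le_normalizer_inf (CosetGraph.SylowIn.le_normalizer_pCoreOf p K)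
          (hKG.trans hGG1) (mem_sup_left hg))
        ((CosetGraph.SylowIn.isPGroup_pCoreOf p K).to_le inf_le_left)
    have h1 := (hle.trans (pCoreOf_mono_normal (rootGrp_le _) hGG1)) hc
    rw [h.pCoreOf_eq_bot, mem_bot] at h1
    exact commutatorElement_eq_one_iff_mul_comm.mp h1
  have htrans : ∀ a ∈ R, ∀ n ∈ rootGrp G (cj a N), n * x = x * n := by
    intro a ha n hn
    have h1 : a⁻¹ * n * a⁻¹⁻¹ ∈ G1 := by
      have := rootGrp_cj (hRG (inv_mem ha)) hn
      rwa [cj_inv_cj] at this
    have h2 := hcomm _ (hx.conj (h.normalizer_pInv_R (inv_mem ha))) _ h1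
    calc n * x = a * (a⁻¹ * n * a⁻¹⁻¹ * (a⁻¹ * x * a⁻¹⁻¹)) * a⁻¹ := by group
      _ = a * (a⁻¹ * x * a⁻¹⁻¹ * (a⁻¹ * n * a⁻¹⁻¹)) * a⁻¹ := by rw [h2]
      _ = x * n := by group
  refine hx1 (h.eq_one_of_central hx.1 fun g hg => ?_)
  refine mem_centralizer_iff.mp (h.centralizer_pRes_le (mem_inf.mpr ⟨pInv_le hx.1, ?_⟩)) g hg
  rw [mem_centralizer_iff]
  intro w hw
  have hle : G1 ⊔ M ≤ centralizer ({x} : Set GLV) :=
    sup_le (fun u hu => mem_centralizer_singleton_iff.mpr (hcomm x hx u hu))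
      (iSup₂_le fun a ha u hu => mem_centralizer_singleton_iff.mpr (htrans a ha.1 u hu))
  exact mem_centralizer_singleton_iff.mp (hle (hOsum hw))

/-- `R` fixes a normalised pair elementwise. -/
theorem exists_fixed_pair :
    ∃ α φ : E, IsPair G α φ ∧ ∀ a ∈ R, cj a α = α ∧ cj a φ = φ := by
  classical
  letI := clsAct (p := p) (V := V)
  obtain ⟨N, hN⟩ := h.exists_min
  have hRG := h.act.norm
  set S := {x | ∃ X, IsMin G X ∧ ConjCls G N X ∧ x = clsPt X} with hS
  obtain ⟨_, ⟨X, hX, hNX, rfl⟩, hfix⟩ := Coprime.exists_fixed_point S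
    ⟨_, N, hN, ConjCls.refl hN, rfl⟩ hRG h.act.cop (.inl h.act.solv)
    (by
      rintro a ha _ ⟨X, hX, hc, rfl⟩
      refine ⟨cj a X, IsMin.cjN hX (hRG ha), ?_, (clsPt_cj a X).symm⟩
      exact ConjCls.trans (IsMin.cjN hN (hRG ha)) hN (IsMin.cjN hX (hRG ha))
        (h.conjCls_fixed hN ha) (conjCls_cjN (hRG ha) hc))
    (by
      rintro g hg _ ⟨X, hX, hc, rfl⟩
      refine ⟨cj g X, hX.cj hg, ?_, (clsPt_cj g X).symm⟩
      exact ConjCls.trans hX hN (hX.cj hg) hc ⟨g, hg, inCls_self (hX.cj hg).good⟩)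
    (by
      rintro _ ⟨X, hX, hc, rfl⟩ _ ⟨Y, hY, hc', rfl⟩
      obtain ⟨g, hg, hcls⟩ := ConjCls.trans hN hX hY (ConjCls.symm hN hX hc) hc'
      refine ⟨g, hg, ?_⟩
      show ((clsPt X).1.map (g : E), (clsPt X).2.map (g : E)) = _
      have hs := hcls.sameAct hY (hX.cj hg).ne_zero
      rw [← clsPt_cj, clsPt, clsPt, hs.1, hs.2])
  have hRX : ∀ a ∈ R, InCls G X (cj a X) := fun a ha =>
    inCls_of_clsPt (Good.cjN hX.good (hRG ha)) ((clsPt_cj a X).trans (hfix a ha))
  obtain ⟨g, hg, hT⟩ := exists_partner_of h.hp h.noCore hX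
  obtain ⟨φ₀, -, hφ₀⟩ := exists_isPair h.hp hT
  obtain ⟨e, he, he0, hefix⟩ := exists_fixed_elem h.hp hφ₀ hRG h.act.cop h.act.solv hRX
  have hem := he.isMin hX he0
  obtain ⟨g', hg', hT'⟩ := exists_partner_of h.hp h.noCore hem
  obtain ⟨ψ₀, -, hψ₀⟩ := exists_isPair h.hp hT'
  have hpG : p ∣ Nat.card G := by
    have h1 : orderOf (tau X) = p := by
      refine orderOf_eq_prime ?_ fun e => hX.ne_zero ((tau_eq_one_iff hX.good.sq).mp e)
      rw [tau_pow hX.good.sq, ZMod.natCast_self, zero_smul, tau_zero]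
    exact (dvd_of_eq h1.symm).trans (orderOf_dvd_natCard G (tau_mem hX.good))
  have hcp : (Nat.card R).Coprime p := h.act.cop.coprime_dvd_right hpG
  obtain ⟨ψ, hψ, hψR, -⟩ := exists_fixed_partner h.hp hψ₀ (A := R) (B := ⊥) hRG bot_le hcp
    (by simp) h.act.solv inferInstance
    (fun a ha => by rw [hefix a ha]; exact inCls_self hem.good)
    (fun b hb => by rw [mem_bot.mp hb, cj_one']; exact inCls_self hem.good) bot_le
  refine ⟨e, ψ, hψ, fun a ha => ⟨hefix a ha, hψ.unique h.hp (hψR a ha) ?_⟩⟩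
  have := hψ.rel.afa
  have h2 := congrArg (cj a) this
  rwa [← cj_mul, ← cj_mul, hefix a ha] at h2

end Bad

end Cfsg.Agent.Lib.Flavell42
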