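import Cfsg.Agent.Lib.Flavell42.RootsBase

/-!
The roots of weight one fall into at most two orbits, `R` fixes one of the roots, and hence there is
no bad configuration.
-/

set_option linter.style.haveILetI false
set_option linter.unusedSimpArgs false

namespace Cfsg.Agent.Lib.Flavell42

open QuadPair Subgroup

variable {p : ℕ} [Fact p.Prime] {V : Type} [AddCommGroup V] [Module (ZMod p) V]

local notation "GLV" => LinearMap.GeneralLinearGroup (ZMod p) V
local notation "E" => (V →ₗ[ZMod p] V)

variable {R G : Subgroup (LinearMap.GeneralLinearGroup (ZMod p) V)}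
  {α φ l x k s : V →ₗ[ZMod p] V}

theorem Wt1.sub {A : Type*} [Ring A] {α φ x y : A} (hx : Wt1 α φ x) (hy : Wt1 α φ y) :
    Wt1 α φ (x - y) :=
  ⟨by rw [mul_sub, hx.al, hy.al, sub_zero], by rw [sub_mul, hx.ar, hy.ar, sub_zero],
    by rw [mul_sub, sub_mul, hx.fbf, hy.fbf, sub_zero], by
      rw [mul_sub, sub_mul]
      conv_lhs => rw [hx.eq, hy.eq]
      abel⟩

theorem br_parts (h : Units2 α φ) {b : E} (ha : α * b * α = 0) (hf : φ * b * φ = 0) :
    br (α * φ - φ * α) b = part1 α φ b - part1 φ α b := by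
  have z1 : α * φ * b * (φ * α) = 0 := by
    rw [show α * φ * b * (φ * α) = α * (φ * b * φ) * α by noncomm_ring, hf]; simp
  have z2 : φ * α * b * (α * φ) = 0 := by
    rw [show φ * α * b * (α * φ) = φ * (α * b * α) * φ by noncomm_ring, ha]; simp
  rw [br, part1, part1, e0, e0]
  simp only [mul_sub, sub_mul, mul_one, one_mul, z1, z2, sub_zero]
  abel

variable [Finite V]

/-- Two classes in one orbit of `C0`. -/
def Orb (G : Subgroup (LinearMap.GeneralLinearGroup (ZMod p) V)) (α φ l k : E) : Prop :=
  ∃ g ∈ C0 G α φ, InCls G k (cj g l)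

omit [Finite V] in
theorem Orb.refl (hl : IsMin G l) : Orb G α φ l l :=
  ⟨1, one_mem _, by rw [cj_one']; exact inCls_self hl.good⟩

theorem Orb.symm (hl : IsMin G l) (hk : IsMin G k) (h : Orb G α φ l k) : Orb G α φ k l := by
  obtain ⟨g, hg, hc⟩ := h
  refine ⟨g⁻¹, inv_mem hg, ?_⟩
  have := (hc.symm hk (hl.cj hg.1).ne_zero).cj (inv_mem hg.1)
  rwa [cj_inv_cj] at this

theorem Orb.trans (hk : IsMin G k) (hs : IsMin G s) (h : Orb G α φ l k) (h' : Orb G α φ k s) :
    Orb G α φ l s := by
  obtain ⟨g, hg, hc⟩ := h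
  obtain ⟨g', hg', hc'⟩ := h'
  refine ⟨g' * g, mul_mem hg' hg, ?_⟩
  rw [cj_comp]
  exact (hc.cj hg'.1).trans_sameAct (hc'.sameAct hs (hk.cj hg'.1).ne_zero)

/-- A root in the orbit of a neighbour. -/
theorem orb_of_adj (hp : 5 ≤ p) (h : IsPair G α φ) (hl : Root G α φ l) (hx : Root G α φ x)
    (hlx : x * l ≠ l * x) (hk : Root G α φ k) (hs : Root G α φ s) (hxk : Orb G α φ x k)
    (hne : k * s ≠ s * k) : Orb G α φ l s := by
  obtain ⟨g, hg, hc⟩ := hxk
  have hgx := hx.min.cj hg.1
  have h1 : cj g x * s ≠ s * cj g x := fun e => hne (commute_cls_left (two_ne hp) (card_ne_three hp)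
    hgx hs.min e (hc.symm hk.min hgx.ne_zero))
  set s' := cj g⁻¹ s with hs'
  have hs'r : Root G α φ s' := hs.conjC h.rel (inv_mem hg)
  have h2 : x * s' ≠ s' * x := fun e => h1 (by
    have := congrArg (cj g) e
    rwa [← cj_mul, ← cj_mul, hs', cj_cj_inv] at this)
  obtain ⟨g', hg', hc'⟩ := exists_C0_neighbour hp h hx hl hs'r hlx h2
  exact Orb.trans hs'r.min hs.min ⟨g', hg', hc'⟩
    ⟨g, hg, by rw [hs', cj_cj_inv]; exact inCls_self hs.min.good⟩

/-- Two adjacent roots meet every orbit. -/
theorem orb_of_adjacent (hp : 5 ≤ p) (hU : NoCore G) (h : IsPair G α φ) (hl : Root G α φ l)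
    (hx : Root G α φ x) (hlx : l * x ≠ x * l) (hs : Root G α φ s) :
    Orb G α φ l s ∨ Orb G α φ x s := by
  classical
  have h2 := two_ne hp
  have h3 := card_ne_three hp
  set K : E → Prop := fun k => Orb G α φ l k ∨ Orb G α φ x k with hK
  by_contra hsK
  change ¬ K s at hsK
  have closed : ∀ {k n : E}, Root G α φ k → Root G α φ n → K k → k * n ≠ n * k → K n := by
    intro k n hk hn hKk hne
    rcases hKk with o | o
    · exact .inr (orb_of_adj hp h hx hl hlx hk hn o hne)
    · exact .inl (orb_of_adj hp h hl hx hlx.symm hk hn o hne)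
  have hout : ∀ {k n : E}, Root G α φ k → Root G α φ n → K k → ¬ K n → k * n = n * k :=
    fun {k n} hk hn hKk hKn => not_not.mp fun hne => hKn (closed hk hn hKk hne)
  have Kmove : ∀ {k : E}, Root G α φ k → ∀ {g : GLV}, g ∈ C0 G α φ → K k → K (cj g k) := by
    intro k hk g hg hKk
    have o : Orb G α φ k (cj g k) := ⟨g, hg, inCls_self (hk.min.cj hg.1).good⟩
    exact hKk.imp (fun o' => Orb.trans hk.min (hk.min.cj hg.1) o' o)
      (fun o' => Orb.trans hk.min (hk.min.cj hg.1) o' o)
  have hpart : ∀ {k Y : E}, Root G α φ k → K k → IsPair G k Y → Root G φ α Y → Y * s = s * Y := by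
    intro k Y hk hKk hkY hY
    by_contra hne
    have r := hkY.rel
    have hl' := root_of_partner hp h hY
    have hKl' : K (br α Y) := closed hk hl' hKk (not_commute_partner hp h hk hkY hY)
    have sYs : s * Y * s = 0 := by
      have := sandwich_of_commute hp h hs (hout hl' hs hKl' hsK)
      rwa [br_br_partner h hY] at this
    have YsY : Y * s * Y = 0 := mul_mul_zero_symm h2 hs.min hY.min sYs
    have hsk := hout hk hs hKk hsK
    have hSk : Skew G Y s := ⟨hY.min, hs.min, YsY, sYs, hne⟩
    set a := br Y s with ha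
    have ham : IsMin G a := hSk.isMin_comm h2
    obtain ⟨ky1, ky2⟩ := hSk.mul_comm_eq_zero
    rw [show Y * s - s * Y = a from rfl] at ky1 ky2
    have hfix : ∀ c : ZMod p, c ≠ 0 → cj (torus α φ c) a = a := by
      intro c hc
      have hsw : torus φ α c⁻¹ = torus α φ c := Units.ext (by
        rw [val_torus h.rel.symm (inv_ne_zero hc), val_torus h.rel hc, inv_inv, e0, e0]
        abel)
      rw [ha, br, cj_sub, ← cj_mul, ← cj_mul, cj_torus_wt1 h.rel hc hs.wt]
      conv_lhs => rw [← hsw, cj_torus_wt1 h.rel.symm (inv_ne_zero hc) hY.wt]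
      rw [smul_mul_smul_comm, smul_mul_smul_comm, inv_mul_cancel₀ hc, mul_inv_cancel₀ hc, one_smul,
        one_smul]
    obtain ⟨c1, c2⟩ := commute_idem h.rel hp hfix
    have htau : tau a ∈ C0 G α φ := by
      refine ⟨tau_mem ham.good, ?_, ?_⟩ <;> rw [cj_eq_iff_commute, val_tau ham.good.sq, add_mul,
        mul_add, one_mul, mul_one]
      · rw [c1]
      · rw [c2]
    have hss : s * s = 0 := hs.min.good.sq
    have hkk : k * k = 0 := hk.min.good.sq
    have hsks : s * k * s = 0 := Wt1.lfr h.rel hs.wt hk.wt hs.wt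
    have hksk : k * s * k = 0 := Wt1.lfr h.rel hk.wt hs.wt hk.wt
    have haka : a * k * a = 0 := by
      calc a * k * a = Y * (s * k) * Y * s - Y * (s * k * s) * Y - s * (Y * k * Y) * s +
            s * Y * (k * s) * Y := by rw [ha, br]; noncomm_ring
        _ = Y * (k * s) * Y * s - Y * (s * k * s) * Y - s * (Y * k * Y) * s +
            s * Y * (s * k) * Y := by rw [hsk]
        _ = Y * k * (s * Y * s) - Y * (s * k * s) * Y - s * (Y * k * Y) * s +
            s * Y * s * (k * Y) := by noncomm_ring
        _ = 0 := by rw [sYs, hsks, r.faf, sYs]; simp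
    have hk' : cj (tau a) k = k + br a k := by rw [cj_tau ham.good.sq, haka, sub_zero]; rfl
    set H := br Y k with hH
    have e1 : br a k = br H s := by
      rw [ha, hH]
      simp only [br, sub_mul, mul_sub, mul_assoc]
      rw [← hsk, ← mul_assoc k s Y, hsk, mul_assoc]
      abel
    by_cases hz : br a k = 0
    · have hak : a * k = k * a := sub_eq_zero.mp hz
      have hHs : H * s = s * H := sub_eq_zero.mp (e1.symm.trans hz)
      have hHY : H * Y - Y * H = (2 : ZMod p) • Y := by
        rw [hH]
        simp only [br, sub_mul, mul_sub, mul_assoc, r.ff, r.faf1, r.ff', mul_zero, sub_zero, zero_sub]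
        module
      have q1 : H * a - a * H = (2 : ZMod p) • a := by
        calc H * a - a * H = (H * Y - Y * H) * s - s * (H * Y - Y * H) +
              (Y * (H * s - s * H) - (H * s - s * H) * Y) := by rw [ha, br]; noncomm_ring
          _ = _ := by
            rw [hHY, hHs, ha, br, smul_mul_assoc, mul_smul_comm]
            simp [smul_sub]
      have q2 : H * a - a * H = 0 := by
        calc H * a - a * H = Y * (k * a) - k * (Y * a) - (a * Y * k - a * k * Y) := by
              rw [hH, br]; noncomm_ring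
          _ = Y * (a * k) - k * (Y * a) - (a * Y * k - k * a * Y) := by rw [hak]
          _ = 0 := by rw [← mul_assoc, ky2, ky1, mul_assoc k a Y, ky1]; simp
      rw [q1] at q2
      exact ham.ne_zero ((smul_eq_zero.mp q2).resolve_left h2)
    · have hSa : Skew G a k :=
        ⟨ham, hk.min, haka, mul_mul_zero_symm h2 ham hk.min haka, sub_ne_zero.mp hz⟩
      have hkr' : Root G α φ (cj (tau a) k) := hk.conjC h.rel htau
      have hKk' := Kmove hk htau hKk
      have hroot : Root G α φ (br a k) := by
        refine ⟨hSa.isMin_comm h2, ?_⟩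
        have := hkr'.wt.sub hk.wt
        rwa [hk', add_sub_cancel_left] at this
      obtain ⟨W, hW, hW'⟩ := exists_pure_partner hp hU h hroot
      refine not_commute_partner hp h hroot hW hW' ?_
      set n := br α W
      have hn : Root G α φ n := root_of_partner hp h hW'
      by_cases hKn : K n
      swap
      · have e2 := hout hkr' hn hKk' hKn
        have e3 := hout hk hn hKk hKn
        rw [hk', add_mul, mul_add, e3] at e2
        exact add_left_cancel e2
      have hh : ∀ c : ZMod p, c ≠ 0 → cj (torus k Y c) s * n = n * cj (torus k Y c) s := by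
        intro c hc
        have hC : torus k Y c ∈ C0 G α φ := by
          have hG : torus k Y c ∈ G := torus_mem r hk.min.good hY.min.good c
          have hco : ∀ d : ZMod p, d ≠ 0 → cj (torus α φ d) ((torus k Y c : GLV) : E) =
              ((torus k Y c : GLV) : E) := by
            intro d hd
            have hsw : torus φ α d⁻¹ = torus α φ d := Units.ext (by
              rw [val_torus h.rel.symm (inv_ne_zero hd), val_torus h.rel hd, inv_inv, e0, e0]
              abel)
            have t1 := cj_torus_wt1 h.rel hd hk.wt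
            have t2 : cj (torus α φ d) Y = d⁻¹ • Y := by
              rw [← hsw]; exact cj_torus_wt1 h.rel.symm (inv_ne_zero hd) hY.wt
            rw [val_torus r hc, e0]
            simp only [cj_add, cj_sub, cj_one, cj_smul, ← cj_mul, t1, t2, smul_mul_smul_comm,
              inv_mul_cancel₀ hd, mul_inv_cancel₀ hd, one_smul]
          obtain ⟨d1, d2⟩ := commute_idem h.rel hp hco
          exact ⟨hG, (cj_eq_iff_commute _ _).mpr d1.symm, (cj_eq_iff_commute _ _).mpr d2.symm⟩
        have hr := hs.conjC h.rel hC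
        refine (hout hn hr hKn fun hKc => hsK ?_).symm
        have := Kmove hr (inv_mem hC) hKc
        rwa [cj_inv_cj] at this
      have p1 := hh 2 h2
      have p2 := hh 2⁻¹ (inv_ne_zero h2)
      rw [cj_torus_parts r h2 hksk YsY] at p1
      rw [cj_torus_parts r (inv_ne_zero h2) hksk YsY, inv_inv] at p2
      have e4 := br_parts r hksk YsY
      set P := part1 k Y s with hP
      set Z := part0 k Y s with hZ
      set M := part1 Y k s with hM
      have h32 : (2 : ZMod p) - 2⁻¹ ≠ 0 := by
        intro e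
        apply three_ne hp
        have : (2 : ZMod p) * 2 - 2 * 2⁻¹ = 0 := by rw [← mul_sub, e, mul_zero]
        rw [mul_inv_cancel₀ h2] at this
        linear_combination this
      have e5 : br a k = -(P - M) := by
        rw [e1, ← e4, hH]
        simp only [br]
        noncomm_ring
      have e6 : ((2 : ZMod p) - 2⁻¹) • ((P - M) * n - n * (P - M)) = 0 := by
        rw [← sub_eq_zero] at p1 p2
        simp only [sub_mul, mul_sub, add_mul, mul_add, smul_mul_assoc, mul_smul_comm] at p1 p2 ⊢
        linear_combination (norm := (match_scalars <;> ring)) p1 - p2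
      have e7 := sub_eq_zero.mp ((smul_eq_zero.mp e6).resolve_left h32)
      rw [e5, neg_mul, mul_neg, e7]
  have hm : ∀ {u v : E}, Root G α φ u → K u → Root G α φ v → u * v ≠ v * u →
      br φ v * s = s * br φ v := by
    intro u v hu hKu hv hne
    have hmv := hv.bracket hp h
    obtain ⟨Y, hc, hY⟩ := exists_isPair hp (typeTwo_of_ne h2 h3 hu.min hmv.min
      fun e => hne (commute_of_sandwich hp h hv hu e).symm)
    have hYr := hmv.congr hp h.symm hc hY.min_right.ne_zero
    exact commute_cls_left h2 h3 hYr.min hs.min (hpart hu hKu hY hYr)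
      (hc.symm hmv.min hY.min_right.ne_zero)
  have m1 := hm hl (.inl (Orb.refl hl.min)) hx hlx
  have m2 := hm hx (.inr (Orb.refl hx.min)) hl hlx.symm
  have hml := hl.bracket hp h
  have hmx := hx.bracket hp h
  set w := br (br φ l) (br φ x) with hw
  have hwc : InCls G φ w := br_inCls hp h.symm hml hmx
  have hw0 : w ≠ 0 := fun e => hlx (by
    have e1 := sandwich_of_commute hp h.symm hmx (sub_eq_zero.mp e)
    rw [Root.bracket_bracket h.rel hl.wt] at e1
    exact (commute_of_sandwich hp h hx hl (mul_mul_zero_symm h2 hmx.min hl.min e1)).symm)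
  have hws : w * s = s * w := by
    rw [hw, br]
    calc (br φ l * br φ x - br φ x * br φ l) * s
        = br φ l * (br φ x * s) - br φ x * (br φ l * s) := by noncomm_ring
      _ = br φ l * (s * br φ x) - br φ x * (s * br φ l) := by rw [m1, m2]
      _ = br φ l * s * br φ x - br φ x * s * br φ l := by noncomm_ring
      _ = s * br φ l * br φ x - s * br φ x * br φ l := by rw [m1, m2]
      _ = _ := by noncomm_ring
  exact hs.wt.ne_commute h.rel hs.min.ne_zero
    (commute_cls_left h2 h3 (hwc.isMin h.min_right hw0) hs.min hws (hwc.symm h.min_right hw0))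

namespace Bad

/-- `R` fixes a root of weight one together with a pure partner. -/
theorem exists_fixed_root (hb : Bad R G) (h : IsPair G α φ)
    (hR : ∀ a ∈ R, cj a α = α ∧ cj a φ = φ) (hl : Root G α φ l) :
    ∃ e Y, Root G α φ e ∧ Root G φ α Y ∧ IsPair G e Y ∧ ∀ a ∈ R, cj a e = e ∧ cj a Y = Y := by
  have hp := hb.hp
  have hRG := hb.act.norm
  obtain ⟨Y₀, hY₀, hY₀'⟩ := exists_pure_partner hp hb.noCore h hl
  have hx := root_of_partner hp h hY₀'
  have hlx := not_commute_partner hp h hl hY₀ hY₀'
  set x := br α Y₀ with hxdef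
  have hall := fun {s : E} (hs : Root G α φ s) => orb_of_adjacent hp hb.noCore h hl hx hlx hs
  have hRroot : ∀ {k : E}, Root G α φ k → ∀ {a : GLV}, a ∈ R → Root G α φ (cj a k) := by
    intro k hk a ha
    refine ⟨IsMin.cjN hk.min (hRG ha), hk.wt.conjC h.rel ?_ ?_⟩ <;>
      rw [← cj_mul, (hR a ha).1, (hR a ha).2]
  have hRn : R ≤ normalizer (C0 G α φ : Set GLV) := fun a ha => by
    refine mem_normalizer_of_forall (X := GLV) fun g hg => ?_
    have e1 : ∀ {b : GLV}, b ∈ R → cj b (α * φ) = α * φ ∧ cj b (φ * α) = φ * α := fun {b} hb' => by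
      rw [← cj_mul, ← cj_mul, (hR b hb').1, (hR b hb').2]; exact ⟨rfl, rfl⟩
    refine ⟨conj_mem (hRG ha) hg.1, ?_, ?_⟩
    · rw [cj_comp, cj_comp, (e1 (inv_mem ha)).1, hg.2.1, (e1 ha).1]
    · rw [cj_comp, cj_comp, (e1 (inv_mem ha)).2, hg.2.2, (e1 ha).2]
  have hRorb : ∀ {k k' : E} {a : GLV}, a ∈ R → Orb G α φ k k' → Orb G α φ (cj a k) (cj a k') := by
    rintro k k' a ha ⟨g, hg, hc⟩
    refine ⟨a * g * a⁻¹, conj_mem (hRn ha) hg, ?_⟩
    rw [cj_comp, cj_comp, cj_inv_cj]
    exact InCls.cjN hc (hRG ha)
  have hfixed : ∀ a ∈ R, Orb G α φ l (cj a l) := by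
    have hsq : ∀ a ∈ R, Orb G α φ l (cj (a * a) l) := by
      intro a ha
      have hal := hRroot hl ha
      have haal := hRroot hal ha
      have hax := hRroot hx ha
      rw [cj_comp]
      rcases hall hal with o | o
      · exact Orb.trans hal.min haal.min o (hRorb ha o)
      rcases hall hax with o' | o'
      · exact Orb.trans hax.min haal.min o' (hRorb ha o)
      · have o1 : Orb G α φ (cj a l) (cj a x) :=
          Orb.trans hx.min hax.min (Orb.symm hx.min hal.min o) o'
        have o2 : Orb G α φ l x := by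
          have := hRorb (inv_mem ha) o1
          rwa [cj_inv_cj, cj_inv_cj] at this
        have o3 : Orb G α φ l (cj a l) := Orb.trans hx.min hal.min o2 o
        exact Orb.trans hal.min haal.min o3 (hRorb ha o3)
    intro a ha
    obtain ⟨j, hj⟩ : Odd (orderOf a) :=
      (odd_card hp h hb.act.cop).of_dvd_nat (Subgroup.orderOf_dvd_natCard R ha)
    have := hsq (a ^ (j + 1)) (pow_mem ha _)
    rwa [← pow_add, show j + 1 + (j + 1) = orderOf a + 1 by omega, pow_succ, pow_orderOf_eq_one,
      one_mul] at this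
  letI := clsAct (p := p) (V := V)
  set S := {y | ∃ k, Root G α φ k ∧ Orb G α φ l k ∧ y = clsPt k} with hS
  obtain ⟨_, ⟨k, hk, -, rfl⟩, hfix⟩ := Coprime.exists_fixed_point (K := C0 G α φ) S
    ⟨_, l, hl, Orb.refl hl.min, rfl⟩ hRn (hb.act.cop.coprime_dvd_right (card_dvd_of_le C0_le))
    (.inl hb.act.solv)
    (by
      rintro a ha _ ⟨k, hk, o, rfl⟩
      exact ⟨cj a k, hRroot hk ha, Orb.trans (hRroot hl ha).min (hRroot hk ha).min (hfixed a ha)
        (hRorb ha o), (clsPt_cj a k).symm⟩)
    (by
      rintro g hg _ ⟨k, hk, o, rfl⟩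
      exact ⟨cj g k, hk.conjC h.rel hg, Orb.trans hk.min (hk.min.cj hg.1) o
        ⟨g, hg, inCls_self (hk.min.cj hg.1).good⟩, (clsPt_cj g k).symm⟩)
    (by
      rintro _ ⟨k, hk, o, rfl⟩ _ ⟨k', hk', o', rfl⟩
      obtain ⟨g, hg, hc⟩ := Orb.trans hl.min hk'.min (Orb.symm hl.min hk.min o) o'
      refine ⟨g, hg, ?_⟩
      show ((clsPt k).1.map (g : E), (clsPt k).2.map (g : E)) = _
      have hs := hc.sameAct hk'.min (hk.min.cj hg.1).ne_zero
      rw [← clsPt_cj, clsPt, clsPt, hs.1, hs.2])
  have hRk : ∀ a ∈ R, InCls G k (cj a k) := fun a ha =>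
    inCls_of_clsPt (Good.cjN hk.min.good (hRG ha)) ((clsPt_cj a k).trans (hfix a ha))
  obtain ⟨g, -, hT⟩ := exists_partner_of hp hb.noCore hk.min
  obtain ⟨ψ₀, -, hψ₀⟩ := exists_isPair hp hT
  obtain ⟨e, he, he0, hefix⟩ := exists_fixed_elem hp hψ₀ hRG hb.act.cop hb.act.solv hRk
  have her : Root G α φ e := hk.congr hp h he he0
  obtain ⟨g', -, hT'⟩ := exists_partner_of hp hb.noCore her.min
  obtain ⟨ψ₁, -, hψ₁⟩ := exists_isPair hp hT'
  have hpG : p ∣ Nat.card G := by
    have h1 : orderOf (tau l) = p := by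
      refine orderOf_eq_prime ?_ fun e => hl.min.ne_zero ((tau_eq_one_iff hl.min.good.sq).mp e)
      rw [tau_pow hl.min.good.sq, ZMod.natCast_self, zero_smul, tau_zero]
    exact (dvd_of_eq h1.symm).trans (orderOf_dvd_natCard G (tau_mem hl.min.good))
  obtain ⟨Y, hY, hYT, hYR⟩ := exists_fixed_partner hp hψ₁ (A := (torusHom h.rel).range) (B := R)
    (by
      rintro _ ⟨c, rfl⟩
      exact le_normalizer (torus_mem h.rel h.min_left.good h.min_right.good _))
    hRG (coprime_card_torus h.rel) (hb.act.cop.coprime_dvd_right hpG) (isSolvable_torus h.rel)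
    hb.act.solv
    (by
      rintro _ ⟨c, rfl⟩
      show InCls G e (cj (torus α φ (c : ZMod p)) e)
      rw [cj_torus_wt1 h.rel c.ne_zero her.wt]
      exact (inCls_self her.min.good).smul _)
    (fun a ha => by rw [hefix a ha]; exact inCls_self her.min.good)
    (by
      intro a ha
      rw [mem_centralizer_iff]
      rintro _ ⟨c, rfl⟩
      show torus α φ (c : ZMod p) * a = a * torus α φ (c : ZMod p)
      have := conj_torus a h.rel (c : ZMod p)
      rw [(hR a ha).1, (hR a ha).2, mul_inv_eq_iff_eq_mul] at this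
      exact this.symm)
  refine ⟨e, Y, her, wt1_of_partner hp h her hY fun c hc => hYT _ ⟨Units.mk0 c hc, rfl⟩, hY,
    fun a ha => ⟨hefix a ha, hY.unique hp (hYR a ha) ?_⟩⟩
  have := congrArg (cj a) hY.rel.afa
  rwa [← cj_mul, ← cj_mul, hefix a ha] at this

/-- There is no bad configuration. -/
theorem false (hb : Bad R G) : False := by
  have hp := hb.hp
  have h2 := two_ne hp
  obtain ⟨α, φ, l, h, hR, hlw, hlm, hlc⟩ := hb.exists_root
  have hl : Root G α φ l := ⟨hlm, hlw⟩
  obtain ⟨e, Y, he, hY, heY, hfix⟩ := hb.exists_fixed_root h hR hl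
  set m := br φ l with hmdef
  have hm : Root G φ α m := hl.bracket hp h
  have hmc : Cen R G m := by
    have hnφ := mem_normalizer_pInv_of_tau h.min_right.good fun a ha => (hR a ha).2
    have h1 := hlc.conjN hnφ
    rw [cj_tau h.rel.ff, hlw.fbf, sub_zero] at h1
    have e1 := h1.add (hlc.smul (-1)) ?_
    · rw [show l + (φ * l - l * φ) + (-1 : ZMod p) • l = m by rw [hmdef, br]; module] at e1
      exact e1
    · have z : (φ * l - l * φ) * l = 0 := by
        rw [sub_mul, mul_assoc φ, hlm.good.sq, (hl.skew hp h).right]; simp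
      simp [add_mul, hlm.good.sq, z]
  have key : ∀ {u : E}, Root G α φ u → (∀ a ∈ R, cj a u = u) → u * m = m * u := by
    intro u hu hRu
    have hn := mem_normalizer_pInv_of_tau hu.min.good hRu
    have s1 : u * m * u = 0 := hmc.sandwich hp hb.act hu.min hn
    have s2 : m * u * m = 0 := mul_mul_zero_symm h2 hu.min hm.min s1
    set c := u * m - m * u with hc
    have hcc : Cen R G c := by
      have h1 := hmc.conjN hn
      rw [cj_tau hu.min.good.sq, s1, sub_zero] at h1
      have e1 := h1.add (hmc.smul (-1)) ?_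
      · rw [show m + (u * m - m * u) + (-1 : ZMod p) • m = c by rw [hc]; module] at e1
        exact e1
      · have z : (u * m - m * u) * m = 0 := by
          rw [sub_mul, mul_assoc u, hm.min.good.sq, s2]; simp
        simp [add_mul, hm.min.good.sq, z]
    have hfixc : ∀ d : ZMod p, d ≠ 0 → cj (torus α φ d) c = c := by
      intro d hd
      have hsw : torus φ α d⁻¹ = torus α φ d := Units.ext (by
        rw [val_torus h.rel.symm (inv_ne_zero hd), val_torus h.rel hd, inv_inv, e0, e0]
        abel)
      rw [hc, cj_sub, ← cj_mul, ← cj_mul, cj_torus_wt1 h.rel hd hu.wt]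
      conv_lhs => rw [← hsw, cj_torus_wt1 h.rel.symm (inv_ne_zero hd) hm.wt]
      rw [smul_mul_smul_comm, smul_mul_smul_comm, inv_mul_cancel₀ hd, mul_inv_cancel₀ hd, one_smul,
        one_smul]
    obtain ⟨c1, c2⟩ := commute_idem h.rel hp hfixc
    have eφ := hcc.commute_of_idem hp hb.act h hR c1 c2
    have eα := hcc.commute_of_idem hp hb.act h.symm (fun a ha => (hR a ha).symm) c2 c1
    have cjt : ∀ {X : E}, X * c = c * X → cj (tau c) X = X := fun {X} e => by
      rw [cj_eq_iff_commute, val_tau hcc.sq, add_mul, mul_add, one_mul, mul_one, e]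
    by_contra hne
    exact hb.back h hR hcc.isQP (fun e => hne (sub_eq_zero.mp ((tau_eq_one_iff hcc.sq).mp e)))
      (cjt eα) (cjt eφ)
  set x := br α Y with hxdef
  have hx : Root G α φ x := root_of_partner hp h hY
  have hne : e * x ≠ x * e := not_commute_partner hp h he heY hY
  have hxfix : ∀ a ∈ R, cj a x = x := fun a ha => by
    rw [hxdef, br, cj_sub, ← cj_mul, ← cj_mul, (hR a ha).1, (hfix a ha).2]
  have k1 := key he fun a ha => (hfix a ha).1
  have k2 := key hx hxfix
  set z := br e x with hz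
  have hz0 : z ≠ 0 := sub_ne_zero.mpr hne
  have hzc : InCls G α z := br_inCls hp h he hx
  have hzm : z * m = m * z := by
    rw [hz, br, sub_mul, mul_sub, mul_assoc, mul_assoc, k1, k2, ← mul_assoc, ← mul_assoc, k1, k2,
      mul_assoc, mul_assoc]
  have hαm : α * m = m * α := commute_cls_left h2 (card_ne_three hp) (hzc.isMin h.min_left hz0)
    hm.min hzm (hzc.symm h.min_left hz0)
  refine hlm.ne_zero ?_
  rw [← Root.bracket_bracket h.rel hlw, ← hmdef, br, hαm, sub_self]

end Bad

end Cfsg.Agent.Lib.Flavell42
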