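import Cfsg.Agent.Lib.Flavell42.Pieces

/-!
Roots of weight one with respect to a pair: brackets, neighbours, and the orbits of the group
centralising the idempotents.
-/

set_option linter.style.haveILetI false
set_option linter.unusedSimpArgs false

namespace Cfsg.Agent.Lib.Flavell42

open QuadPair Subgroup

variable {p : ℕ} [Fact p.Prime] {V : Type} [AddCommGroup V] [Module (ZMod p) V]

local notation "GLV" => LinearMap.GeneralLinearGroup (ZMod p) V
local notation "E" => (V →ₗ[ZMod p] V)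

variable {R G : Subgroup (LinearMap.GeneralLinearGroup (ZMod p) V)}
  {α φ l x k : V →ₗ[ZMod p] V}

/-- The bracket. -/
def br (a b : E) : E := a * b - b * a

/-- A minimal element of weight one. -/
structure Root (G : Subgroup (LinearMap.GeneralLinearGroup (ZMod p) V)) (α φ l : E) : Prop where
  min : IsMin G l
  wt : Wt1 α φ l

/-- The subgroup centralising both idempotents of a pair. -/
def C0 (G : Subgroup (LinearMap.GeneralLinearGroup (ZMod p) V)) (α φ : E) : Subgroup GLV where
  carrier := {g | g ∈ G ∧ cj g (α * φ) = α * φ ∧ cj g (φ * α) = φ * α}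
  one_mem' := ⟨one_mem _, cj_one' _, cj_one' _⟩
  mul_mem' := fun hx hy => ⟨mul_mem hx.1 hy.1, by rw [cj_comp, hy.2.1, hx.2.1],
    by rw [cj_comp, hy.2.2, hx.2.2]⟩
  inv_mem' := fun {x} hx => ⟨inv_mem hx.1, by
    conv_lhs => rw [← hx.2.1]
    rw [cj_inv_cj], by
    conv_lhs => rw [← hx.2.2]
    rw [cj_inv_cj]⟩

theorem C0_le : C0 G α φ ≤ G := fun _ hg => hg.1

/-- Conjugation by an element fixing the idempotents preserves the weight one conditions. -/
theorem Wt1.conjC (h : Units2 α φ) (hl : Wt1 α φ l) {g : GLV} (h1 : cj g (α * φ) = α * φ)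
    (h2 : cj g (φ * α) = φ * α) : Wt1 α φ (cj g l) := by
  have e1 : φ * α * cj g l = 0 := by
    rw [← h2, cj_mul, mul_assoc φ α, hl.al, mul_zero, cj_zero]
  have e2 : cj g l * (α * φ) = 0 := by
    rw [← h1, cj_mul, ← mul_assoc, hl.ar, zero_mul, cj_zero]
  have e3 : φ * α * cj g l * (α * φ) = 0 := by rw [e1, zero_mul]
  have e4 : φ * α * l * (α * φ) = 0 := by rw [mul_assoc φ α, hl.al]; simp
  refine ⟨?_, ?_, ?_, ?_⟩
  · calc α * cj g l = α * (φ * α * cj g l) := by rw [← mul_assoc, ← mul_assoc, h.afa]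
      _ = 0 := by rw [e1, mul_zero]
  · calc cj g l * α = cj g l * (α * φ) * α := by rw [mul_assoc, h.afa]
      _ = 0 := by rw [e2, zero_mul]
  · calc φ * cj g l * φ = φ * α * φ * cj g l * (φ * α * φ) := by rw [h.faf]
      _ = φ * (α * φ * cj g l * (φ * α)) * φ := by noncomm_ring
      _ = φ * (cj g (α * φ * l * (φ * α))) * φ := by rw [← cj_mul, ← cj_mul, h1, h2]
      _ = 0 := by
        rw [show α * φ * l * (φ * α) = α * (φ * l * φ) * α by noncomm_ring, hl.fbf]
        simp [cj_zero]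
  · conv_lhs => rw [hl.eq, cj_add, ← cj_mul g (α * φ) l, ← cj_mul g l (φ * α), h1, h2]

theorem Root.conjC [Finite V] (h : Units2 α φ) (hl : Root G α φ l) {g : GLV} (hg : g ∈ C0 G α φ) :
    Root G α φ (cj g l) := ⟨hl.min.cj hg.1, hl.wt.conjC h hg.2.1 hg.2.2⟩

/-- The bracket with the lower element of a pair lowers the weight by two. -/
theorem Wt1.bracket (h : Units2 α φ) (hl : Wt1 α φ l) : Wt1 φ α (br φ l) := by
  have x1 : ∀ w, φ * (l * (φ * w)) = 0 := fun w => by
    rw [← mul_assoc, ← mul_assoc, hl.fbf, zero_mul]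
  have x2 : φ * (l * φ) = 0 := by rw [← mul_assoc, hl.fbf]
  have x3 : ∀ w, α * (l * w) = 0 := fun w => by rw [← mul_assoc, hl.al, zero_mul]
  have x4 : ∀ w, l * (α * w) = 0 := fun w => by rw [← mul_assoc, hl.ar, zero_mul]
  refine ⟨?_, ?_, ?_, ?_⟩ <;>
    simp only [br, mul_sub, sub_mul, mul_assoc, h.aa, h.ff, h.aa', h.ff', h.afa1, h.faf1, h.afa',
      h.faf', x1, x2, x3, x4, hl.al, hl.ar, mul_zero, zero_mul, sub_zero, zero_sub, sub_self,
      neg_zero, add_zero, zero_add] <;> abel

theorem Root.bracket_bracket (h : Units2 α φ) (hl : Wt1 α φ l) : br α (br φ l) = l :=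
  Wt1.bracket_bracket h hl

variable [Finite V]

theorem Root.skew (hp : 5 ≤ p) (h : IsPair G α φ) (hl : Root G α φ l) : Skew G φ l :=
  ⟨h.min_right, hl.min, hl.wt.fbf, mul_mul_zero_symm (two_ne hp) h.min_right hl.min hl.wt.fbf,
    hl.wt.ne_commute h.rel hl.min.ne_zero⟩

theorem Root.bracket (hp : 5 ≤ p) (h : IsPair G α φ) (hl : Root G α φ l) :
    Root G φ α (br φ l) :=
  ⟨(hl.skew hp h).isMin_comm (two_ne hp), hl.wt.bracket h.rel⟩

/-- Commuting roots kill the bracket. -/
theorem sandwich_of_commute (hp : 5 ≤ p) (h : IsPair G α φ) (hx : Root G α φ x)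
    (e : l * x = x * l) : x * br φ l * x = 0 := by
  have hz : x * φ * x = 0 := (hx.skew hp h).right
  calc x * br φ l * x = x * φ * (l * x) - x * l * φ * x := by rw [br]; noncomm_ring
    _ = x * φ * (x * l) - l * x * φ * x := by rw [e]
    _ = x * φ * x * l - l * (x * φ * x) := by noncomm_ring
    _ = 0 := by rw [hz]; simp

/-- The bracket of two roots is in the class of `α`. -/
theorem br_inCls (hp : 5 ≤ p) (h : IsPair G α φ) (hl : Root G α φ l) (hx : Root G α φ x) :
    InCls G α (br l x) := by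
  have e : br l x = α * φ * br l x * (φ * α) := by
    conv_lhs => rw [br, Wt1.mul_mul_eq h.rel hl.wt hx.wt, Wt1.mul_mul_eq h.rel hx.wt hl.wt]
    rw [br]; noncomm_ring
  refine ⟨(good_comm (two_ne hp) hl.min.good hx.min.good (Wt1.lfr h.rel hl.wt hx.wt hl.wt)).1,
    ?_, fun v hv => ?_⟩
  · rintro _ ⟨v, rfl⟩
    rw [e, mul_assoc, mul_assoc]
    exact ⟨_, rfl⟩
  · rw [LinearMap.mem_ker, e, Module.End.mul_apply, Module.End.mul_apply φ α,
      LinearMap.mem_ker.mp hv, map_zero, map_zero]

theorem commute_of_sandwich (hp : 5 ≤ p) (h : IsPair G α φ) (hl : Root G α φ l)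
    (hx : Root G α φ x) (e : x * br φ l * x = 0) : l * x = x * l := by
  by_contra hne
  have hz : br l x ≠ 0 := sub_ne_zero.mpr hne
  have lxl := Wt1.lfr h.rel hl.wt hx.wt hl.wt
  have xlx := Wt1.lfr h.rel hx.wt hl.wt hx.wt
  refine ((h.typeTwo hp).congr (br_inCls hp h hl hx) hz (inCls_self h.min_right.good)
    h.min_right.ne_zero).ne_zero ?_
  have e' : x * φ * l * x = x * l * φ * x := by
    rw [← sub_eq_zero, ← e, br]; noncomm_ring
  calc br l x * φ * br l x
      = l * (x * φ * l * x) - l * (x * φ * x) * l - x * (l * φ * l) * x +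
          x * l * φ * x * l := by rw [br]; noncomm_ring
    _ = 0 := by
      rw [(hl.skew hp h).right, (hx.skew hp h).right]
      nth_rewrite 1 [e']
      rw [show l * (x * l * φ * x) = l * x * l * φ * x by noncomm_ring, lxl, ← e',
        show x * φ * l * x * l = x * φ * (l * x * l) by noncomm_ring, lxl]
      simp

/-- An element scaled inversely by the torus has weight minus one. -/
theorem wt1_of_torus (hp : 5 ≤ p) (h : Units2 α φ) {Y : E}
    (hY : ∀ c : ZMod p, c ≠ 0 → cj (torus α φ c) Y = c⁻¹ • Y) : Wt1 φ α Y := by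
  have h2 := two_ne hp
  have hn : (-1 : ZMod p) ≠ 0 := neg_ne_zero.mpr one_ne_zero
  set i := torus α φ (-1) with hi
  have hiY : cj i Y = -Y := by rw [hi, hY _ hn, inv_neg, inv_one, neg_one_smul]
  obtain ⟨a1, a2⟩ := torus_neg_one_mul h
  obtain ⟨f1, f2⟩ := torus_neg_one_mul h.symm
  have his : torus φ α (-1) = i := Units.ext (by
    rw [hi, val_torus h.symm hn, val_torus h hn, inv_neg, inv_one, e0, e0]; abel)
  rw [← hi] at a1 a2
  rw [his] at f1 f2
  have key : ∀ X : E, (i : E) * X = -X → X * (i : E) = -X → X * Y * X = 0 := by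
    intro X x1 x2
    have hX : cj i X = X := by rw [cj_eq_iff_commute, x1, x2]
    have e1 : cj i (X * Y * X) = X * Y * X := by
      rw [cj_eq_iff_commute, ← mul_assoc, ← mul_assoc, x1, mul_assoc _ X (i : E), x2]
      simp [mul_assoc]
    rw [← cj_mul, ← cj_mul, hX, hiY] at e1
    have : (2 : ZMod p) • (X * Y * X) = 0 := by
      rw [two_smul]
      conv_lhs => arg 1; rw [← e1]
      simp
    exact (smul_eq_zero.mp this).resolve_left h2
  have ka := key α a1 a2
  have kf := key φ f1 f2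
  have h3 : (2 : ZMod p) - 2⁻¹ ≠ 0 := by
    intro e
    apply three_ne hp
    have : (2 : ZMod p) * 2 - 2 * 2⁻¹ = 0 := by rw [← mul_sub, e, mul_zero]
    rw [mul_inv_cancel₀ h2] at this
    linear_combination this
  set P := part1 α φ Y with hP
  set Z := part0 α φ Y with hZ
  set M := part1 φ α Y with hM
  have hs : P + Z + M = Y := part_sum h ka kf
  have q1 := cj_torus_parts h hn ka kf
  have q2 := cj_torus_parts h h2 ka kf
  rw [hY _ hn, ← hP, ← hZ, ← hM, ← hs] at q1
  rw [hY _ h2, ← hP, ← hZ, ← hM, ← hs] at q2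
  rw [inv_neg, inv_one] at q1
  have hZ0 : Z = 0 := by
    have : (2 : ZMod p) • Z = 0 := by
      linear_combination (norm := (match_scalars <;> ring)) -q1
    exact (smul_eq_zero.mp this).resolve_left h2
  rw [hZ0] at q2
  have hP0 : P = 0 := by
    have : ((2 : ZMod p) - 2⁻¹) • P = 0 := by
      linear_combination (norm := (match_scalars <;> ring)) -q2
    exact (smul_eq_zero.mp this).resolve_left h3
  rw [hP0, hZ0, zero_add, zero_add] at hs
  rw [← hs, hM]
  exact wt1_part1 h.symm Y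

/-- A partner with a torus invariant class is pure. -/
theorem wt1_of_partner (hp : 5 ≤ p) (h : IsPair G α φ) (hl : Root G α φ l) {Y : E}
    (hY : IsPair G l Y) (hT : ∀ c : ZMod p, c ≠ 0 → InCls G Y (cj (torus α φ c) Y)) :
    Root G φ α Y := by
  refine ⟨hY.min_right, wt1_of_torus hp h.rel fun c hc => ?_⟩
  have hu : c • cj (torus α φ c) Y = Y := by
    refine hY.unique hp ((hT c hc).smul c) ?_
    have e := congrArg (QuadPair.cj (torus α φ c)) hY.rel.afa
    rw [← cj_mul, ← cj_mul, cj_torus_wt1 h.rel hc hl.wt] at e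
    have e' := congrArg (fun w => c⁻¹ • w) e
    simpa only [smul_mul_assoc, mul_smul_comm, smul_smul, inv_mul_cancel₀ hc,
      inv_mul_cancel_left₀ hc, one_smul] using e'
  conv_rhs => rw [← hu]
  rw [smul_smul, inv_mul_cancel₀ hc, one_smul]

/-- Every root has a pure partner and hence a root not commuting with it. -/
theorem exists_pure_partner (hp : 5 ≤ p) (hU : NoCore G) (h : IsPair G α φ) (hl : Root G α φ l) :
    ∃ Y, IsPair G l Y ∧ Root G φ α Y := by
  obtain ⟨g, -, hT⟩ := exists_partner_of hp hU hl.min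
  obtain ⟨ψ₀, -, hψ₀⟩ := exists_isPair hp hT
  obtain ⟨Y, hY, hYT, -⟩ := exists_fixed_partner hp hψ₀ (A := (torusHom h.rel).range) (B := ⊥)
    (by
      rintro _ ⟨c, rfl⟩
      exact le_normalizer (torus_mem h.rel h.min_left.good h.min_right.good _))
    bot_le (coprime_card_torus h.rel) (by simp) (isSolvable_torus h.rel) inferInstance
    (by
      rintro _ ⟨c, rfl⟩
      show InCls G l (QuadPair.cj (torus α φ (c : ZMod p)) l)
      rw [cj_torus_wt1 h.rel c.ne_zero hl.wt]
      exact (inCls_self hl.min.good).smul _)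
    (fun z hz => by rw [mem_bot.mp hz, cj_one']; exact inCls_self hl.min.good) bot_le
  exact ⟨Y, hY, wt1_of_partner hp h hl hY fun c hc => hYT _ ⟨Units.mk0 c hc, rfl⟩⟩

theorem root_of_partner (hp : 5 ≤ p) (h : IsPair G α φ) {Y : E} (hY : Root G φ α Y) :
    Root G α φ (br α Y) := hY.bracket hp h.symm

theorem br_br_partner (h : IsPair G α φ) {Y : E} (hY : Root G φ α Y) : br φ (br α Y) = Y :=
  Root.bracket_bracket h.rel.symm hY.wt

theorem not_commute_partner (hp : 5 ≤ p) (h : IsPair G α φ) (hl : Root G α φ l) {Y : E}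
    (hY : IsPair G l Y) (hY' : Root G φ α Y) : l * br α Y ≠ br α Y * l := by
  intro e
  have := sandwich_of_commute hp h hl e.symm
  rw [br_br_partner h hY', hY.rel.afa] at this
  exact hl.min.ne_zero this

/-- Roots of the class of a root. -/
theorem Root.congr (hp : 5 ≤ p) (h : IsPair G α φ) (hk : Root G α φ k) (hx : InCls G k x)
    (h0 : x ≠ 0) : Root G α φ x := by
  have h2 := two_ne hp
  have h3 := card_ne_three hp
  have hxm := hx.isMin hk.min h0
  have xa : x * α = 0 := LinearMap.ext fun v => LinearMap.mem_ker.mp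
    (hx.ker_le (LinearMap.mem_ker.mpr (LinearMap.congr_fun hk.wt.ar v)))
  have ax : α * x = 0 := LinearMap.ext fun v => by
    obtain ⟨w, hw⟩ := hx.range_le ⟨v, rfl⟩
    rw [Module.End.mul_apply, ← hw]
    exact LinearMap.congr_fun hk.wt.al w
  have hs : Skew G φ x := (hk.skew hp h).congr h2 h3 (inCls_self h.min_right.good)
    h.min_right.ne_zero hx h0
  refine ⟨hxm, ax, xa, hs.left, ?_⟩
  set x' := α * φ * x + x * (φ * α) with hx'
  have e : x' = br α (br φ x) := by
    rw [hx', br, br]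
    calc α * φ * x + x * (φ * α) = α * φ * x - α * x * φ - φ * (x * α) + x * (φ * α) := by
          rw [ax, xa]; simp
      _ = _ := by noncomm_ring
  have hc1 : InCls G (br φ k) (br φ x) :=
    (hk.skew hp h).comm_inCls h2 h3 (inCls_self h.min_right.good) hx
  have hc2 : InCls G (br α (br φ k)) (br α (br φ x)) :=
    ((hk.bracket hp h).skew hp h.symm).comm_inCls h2 h3 (inCls_self h.min_left.good) hc1
  rw [Root.bracket_bracket h.rel hk.wt, ← e] at hc2
  have hd : InCls G k (x - x') := by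
    rw [sub_eq_add_neg, ← neg_one_smul (ZMod p) x']
    exact hx.add hk.min.good.sq (hc2.smul _)
  by_contra hne
  have hd0 : x - x' ≠ 0 := sub_ne_zero.mpr hne
  refine ((hk.skew hp h).congr h2 h3 (inCls_self h.min_right.good) h.min_right.ne_zero hd hd0).ne ?_
  have r := h.rel
  have i1 : φ * x' = φ * x := by
    rw [hx', mul_add, ← mul_assoc φ, ← mul_assoc φ α φ, r.faf, ← mul_assoc φ x, ← mul_assoc (φ * x),
      hs.left]
    simp
  have i2 : x' * φ = x * φ := by
    rw [hx', add_mul, mul_assoc x, r.faf, mul_assoc (α * φ), mul_assoc α φ (x * φ),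
      ← mul_assoc φ x φ, hs.left]
    simp
  rw [mul_sub, sub_mul, i1, i2, sub_self, sub_self]

/-- The element of `C0` carrying one neighbour of `x` to another. -/
theorem exists_C0_neighbour (hp : 5 ≤ p) (h : IsPair G α φ) (hx : Root G α φ x)
    (hl : Root G α φ l) (hk : Root G α φ k) (n1 : x * l ≠ l * x) (n2 : x * k ≠ k * x) :
    ∃ g ∈ C0 G α φ, InCls G k (cj g l) := by
  have h2 := two_ne hp
  have h3 := card_ne_three hp
  have find : ∀ {l : E}, Root G α φ l → x * l ≠ l * x → ∃ Y, IsPair G x Y ∧ Root G φ α Y ∧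
      InCls G l (br α Y) := by
    intro l hl hn
    have hm := hl.bracket hp h
    obtain ⟨Y, hc, hY⟩ := exists_isPair hp (typeTwo_of_ne h2 h3 hx.min hm.min
      fun e => hn (commute_of_sandwich hp h hl hx e).symm)
    have hYm := hm.congr hp h.symm hc hY.min_right.ne_zero
    refine ⟨Y, hY, hYm, ?_⟩
    have := (hm.skew hp h.symm).comm_inCls h2 h3 (inCls_self h.min_left.good) hc
    rw [show α * br φ l - br φ l * α = l from Root.bracket_bracket h.rel hl.wt] at this
    exact this
  obtain ⟨Y, hY, hYr, hYl⟩ := find hl n1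
  obtain ⟨Z, hZ, hZr, hZk⟩ := find hk n2
  letI := clsAct (p := p) (V := V)
  set T := (torusHom h.rel).range with hT
  have hTG : T ≤ normalizer (G : Set GLV) := by
    rintro _ ⟨c, rfl⟩
    exact le_normalizer (torus_mem h.rel h.min_left.good h.min_right.good _)
  have hTx : ∀ a ∈ T, InCls G x (QuadPair.cj a x) := by
    rintro _ ⟨c, rfl⟩
    show InCls G x (QuadPair.cj (torus α φ (c : ZMod p)) x)
    rw [cj_torus_wt1 h.rel c.ne_zero hx.wt]
    exact (inCls_self hx.min.good).smul _
  have hcop : (Nat.card T).Coprime (Nat.card (Q1 G x)) := by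
    obtain ⟨n, hn⟩ := IsPGroup.iff_card.mp (isPGroup_Q1 (G := G) hp hx.min.good.sq)
    rw [hn]; exact (coprime_card_torus h.rel).pow_right n
  have hfix : ∀ {Y : E}, Root G φ α Y → ∀ a ∈ T, a • clsPt Y = clsPt Y := by
    rintro Y hY _ ⟨c, rfl⟩
    show ((clsPt Y).1.map ((torusHom h.rel c : GLV) : E), (clsPt Y).2.map _) = _
    rw [← clsPt_cj]
    show clsPt (QuadPair.cj (torus α φ (c : ZMod p)) Y) = _
    have hs : torus φ α (c : ZMod p)⁻¹ = torus α φ (c : ZMod p) := Units.ext (by
      rw [val_torus h.rel.symm (inv_ne_zero c.ne_zero), val_torus h.rel c.ne_zero, inv_inv, e0, e0]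
      abel)
    rw [← hs, cj_torus_wt1 h.rel.symm (inv_ne_zero c.ne_zero) hY.wt, clsPt, clsPt,
      LinearMap.range_smul _ _ (inv_ne_zero c.ne_zero), LinearMap.ker_smul _ _ (inv_ne_zero c.ne_zero)]
  obtain ⟨q, hq, hqY⟩ := exists_Q1_conj hp hY hZ
  have htr : ∃ g ∈ Q1 G x, g • clsPt Y = clsPt Z := ⟨q, hq, by rw [← hqY, clsPt_cj]; rfl⟩
  obtain ⟨g, hg, hgYZ⟩ := Coprime.exists_fixed_smul_eq
    (fun a ha => mem_normalizer_Q1 hx.min (hTG ha) (hTx a ha)) hcop (.inl (isSolvable_torus h.rel))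
    htr (hfix hYr) (hfix hZr)
  have hgG : g ∈ G := Q1_le hg.1
  have hcomm : ∀ c : ZMod p, c ≠ 0 → QuadPair.cj (torus α φ c) (g : E) = g := fun c hc => by
    rw [cj_eq_iff_commute, ← Units.val_mul, ← Units.val_mul]
    exact congrArg Units.val (mem_centralizer_iff.mp hg.2 _ ⟨Units.mk0 c hc, rfl⟩)
  obtain ⟨c1, c2⟩ := commute_idem h.rel hp hcomm
  have d1 : QuadPair.cj g (α * φ) = α * φ := (cj_eq_iff_commute g _).mpr c1.symm
  have d2 : QuadPair.cj g (φ * α) = φ * α := (cj_eq_iff_commute g _).mpr c2.symm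
  have hgC : g ∈ C0 G α φ := ⟨hgG, d1, d2⟩
  refine ⟨g, hgC, ?_⟩
  have hga : InCls G α (QuadPair.cj g α) := by
    have ea : QuadPair.cj g α = α * φ * QuadPair.cj g α := by
      conv_rhs => rw [← d1, cj_mul, h.rel.afa]
    have eb : QuadPair.cj g α = QuadPair.cj g α * (φ * α) := by
      conv_rhs => rw [← d2, cj_mul, ← mul_assoc, h.rel.afa]
    refine ⟨h.min_left.good.cj hgG, ?_, fun v hv => ?_⟩
    · rintro _ ⟨v, rfl⟩
      rw [ea, mul_assoc]
      exact ⟨_, rfl⟩
    · rw [LinearMap.mem_ker, eb, Module.End.mul_apply, Module.End.mul_apply,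
        LinearMap.mem_ker.mp hv, map_zero, map_zero]
  have hgY : InCls G Z (QuadPair.cj g Y) :=
    inCls_of_clsPt (hYr.min.good.cj hgG) ((clsPt_cj g Y).trans hgYZ)
  have hw := (hZr.skew hp h.symm).comm_inCls h2 h3 hga hgY
  rw [cj_mul, cj_mul, ← cj_sub] at hw
  have hk' : InCls G k (QuadPair.cj g (br α Y)) :=
    hw.trans_sameAct (hZk.sameAct hk.min ((root_of_partner hp h hZr).min.ne_zero))
  exact ((hYl.symm hl.min (root_of_partner hp h hYr).min.ne_zero).cj hgG).trans_sameAct
    (hk'.sameAct hk.min ((root_of_partner hp h hYr).min.cj hgG).ne_zero)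

end Cfsg.Agent.Lib.Flavell42
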