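import Cfsg.Agent.Lib.Flavell42.PInv
import Mathlib

/-!
An elementary abelian section `A/B` as a coordinate space over `ZMod p`, with the linear action of a
group normalising both terms.
-/

namespace Cfsg.Agent.Lib.Flavell42

open Subgroup
open scoped commutatorElement

set_option linter.style.haveILetI false

variable {X : Type*} [Group X] {p : ℕ} [Fact p.Prime] {A B H G R : Subgroup X}

/-- Coordinates on the section `A/B` and the action of `H` on them. -/
structure SecRep (p : ℕ) [Fact p.Prime] (A B H : Subgroup X) where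
  /-- The rank. -/
  n : ℕ
  /-- The coordinates. -/
  π : X → Fin n → ZMod p
  /-- The action. -/
  ρ : H →* LinearMap.GeneralLinearGroup (ZMod p) (Fin n → ZMod p)
  le : B ≤ A
  normA : H ≤ normalizer (A : Set X)
  normB : H ≤ normalizer (B : Set X)
  map_mul : ∀ a ∈ A, ∀ b ∈ A, π (a * b) = π a + π b
  surj : ∀ v, ∃ a ∈ A, π a = v
  eq_zero : ∀ a ∈ A, π a = 0 ↔ a ∈ B
  equiv : ∀ (h : H), ∀ a ∈ A, π ((h : X) * a * (h : X)⁻¹) =
    (ρ h : (Fin n → ZMod p) →ₗ[ZMod p] (Fin n → ZMod p)) (π a)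

theorem normal_subgroupOf_of_comm (hc : ∀ a ∈ A, ∀ b ∈ A, ⁅a, b⁆ ∈ B) (hBA : B ≤ A) :
    (B.subgroupOf A).Normal := by
  refine ⟨fun x hx g => ?_⟩
  show (g : X) * (x : X) * (g : X)⁻¹ ∈ B
  rw [show (g : X) * (x : X) * (g : X)⁻¹ = ⁅(g : X), (x : X)⁆ * x by
    simp only [commutatorElement_def]; group]
  exact mul_mem (hc _ g.2 _ (hBA hx)) hx

theorem exists_coord {M : Type*} [AddCommGroup M] [Finite M] (h : ∀ x : M, p • x = 0) :
    ∃ n, Nonempty (M ≃+ (Fin n → ZMod p)) := by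
  letI : Module (ZMod p) M := AddCommGroup.zmodModule (n := p) (G := M) h
  exact ⟨_, ⟨(Module.finBasis (ZMod p) M).equivFun.toAddEquiv⟩⟩

theorem exists_secRep [Finite X] (hBA : B ≤ A) (he : ∀ a ∈ A, a ^ p ∈ B)
    (hc : ∀ a ∈ A, ∀ b ∈ A, ⁅a, b⁆ ∈ B) (hA : H ≤ normalizer (A : Set X))
    (hB : H ≤ normalizer (B : Set X)) : Nonempty (SecRep p A B H) := by
  classical
  haveI := normal_subgroupOf_of_comm hc hBA
  have hcm : ∀ x y : A ⧸ B.subgroupOf A, x * y = y * x := fun x y => by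
        induction x using QuotientGroup.induction_on with
        | H x =>
          induction y using QuotientGroup.induction_on with
          | H y =>
            rw [← QuotientGroup.mk_mul, ← QuotientGroup.mk_mul, QuotientGroup.eq]
            show ((x : X) * (y : X))⁻¹ * ((y : X) * (x : X)) ∈ B
            have : ((x : X) * (y : X))⁻¹ * ((y : X) * (x : X)) = ⁅(y : X)⁻¹, (x : X)⁻¹⁆ := by
              simp only [commutatorElement_def]; group
            rw [this]
            exact hc _ (inv_mem y.2) _ (inv_mem x.2)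
  letI : CommGroup (A ⧸ B.subgroupOf A) :=
    { (inferInstance : Group (A ⧸ B.subgroupOf A)) with mul_comm := hcm }
  have hns : ∀ x : Additive (A ⧸ B.subgroupOf A), p • x = 0 := fun x => by
    obtain ⟨y, hy⟩ : ∃ y : A ⧸ B.subgroupOf A, Additive.ofMul y = x := ⟨x.toMul, rfl⟩
    subst hy
    induction y using QuotientGroup.induction_on with
    | H a =>
      rw [← ofMul_pow, ← QuotientGroup.mk_pow, ← ofMul_one]
      congr 1
      rw [QuotientGroup.eq_one_iff]
      exact he _ a.2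
  obtain ⟨n, ⟨eqv⟩⟩ := exists_coord (p := p) hns
  let π : X → Fin n → ZMod p := fun x =>
    if h : x ∈ A then eqv (Additive.ofMul (QuotientGroup.mk ⟨x, h⟩)) else 0
  have hπ : ∀ (a : X) (h : a ∈ A), π a = eqv (Additive.ofMul (QuotientGroup.mk ⟨a, h⟩)) :=
    fun a h => dif_pos h
  have hmul : ∀ a ∈ A, ∀ b ∈ A, π (a * b) = π a + π b := by
    intro a ha b hb
    rw [hπ _ (mul_mem ha hb), hπ a ha, hπ b hb, ← map_add, ← ofMul_mul, ← QuotientGroup.mk_mul]
    rfl
  have hsurj : ∀ v, ∃ a ∈ A, π a = v := by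
    intro v
    obtain ⟨a, ha⟩ := QuotientGroup.mk_surjective (eqv.symm v).toMul
    refine ⟨a.1, a.2, ?_⟩
    rw [hπ _ a.2, Subtype.coe_eta, ha, ofMul_toMul, AddEquiv.apply_symm_apply]
  have hzero : ∀ a ∈ A, π a = 0 ↔ a ∈ B := by
    intro a ha
    rw [hπ a ha, map_eq_zero_iff eqv eqv.injective, ← ofMul_one, Additive.ofMul.injective.eq_iff,
      QuotientGroup.eq_one_iff]
    rfl
  choose sec hsecA hsec using hsurj
  have hcong : ∀ a ∈ A, ∀ b ∈ A, ∀ h : H, π a = π b →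
      π ((h : X) * a * (h : X)⁻¹) = π ((h : X) * b * (h : X)⁻¹) := by
    intro a ha b hb h e
    have hab : a⁻¹ * b ∈ B := by
      rw [← hzero _ (mul_mem (inv_mem ha) hb), hmul _ (inv_mem ha) _ hb, ← e,
        ← hmul _ (inv_mem ha) _ ha, inv_mul_cancel, hzero 1 (one_mem _)]
      exact one_mem _
    have hha : (h : X) * a * (h : X)⁻¹ ∈ A := conj_mem (hA h.2) ha
    have hhb : (h : X) * (a⁻¹ * b) * (h : X)⁻¹ ∈ B := conj_mem (hB h.2) hab
    rw [show (h : X) * b * (h : X)⁻¹ = ((h : X) * a * (h : X)⁻¹) * ((h : X) * (a⁻¹ * b) * (h : X)⁻¹)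
      by group, hmul _ hha _ (hBA hhb), (hzero _ (hBA hhb)).mpr hhb, add_zero]
  let lin : H → ((Fin n → ZMod p) →ₗ[ZMod p] (Fin n → ZMod p)) := fun h =>
    AddMonoidHom.toZModLinearMap p (AddMonoidHom.mk' (fun v => π ((h : X) * sec v * (h : X)⁻¹))
      fun v w => by
        show π _ = π _ + π _
        rw [← hmul _ (conj_mem (hA h.2) (hsecA v)) _ (conj_mem (hA h.2) (hsecA w)),
          hcong _ (hsecA (v + w)) _ (mul_mem (hsecA v) (hsecA w)) h
            (by rw [hsec, hmul _ (hsecA v) _ (hsecA w), hsec, hsec])]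
        congr 1
        group)
  have hlin : ∀ (h : H), ∀ a ∈ A, π ((h : X) * a * (h : X)⁻¹) = lin h (π a) := fun h a ha =>
    hcong a ha _ (hsecA _) h (hsec _).symm
  let ρ₀ : H →* ((Fin n → ZMod p) →ₗ[ZMod p] (Fin n → ZMod p)) :=
    { toFun := lin
      map_one' := LinearMap.ext fun v => by
        show π ((1 : X) * sec v * (1 : X)⁻¹) = v
        rw [one_mul, inv_one, mul_one, hsec]
      map_mul' := fun g g' => LinearMap.ext fun v => by
        rw [Module.End.mul_apply]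
        obtain ⟨a, ha, rfl⟩ : ∃ a ∈ A, π a = v := ⟨sec v, hsecA v, hsec v⟩
        rw [← hlin _ a ha, ← hlin _ a ha, ← hlin _ _ (conj_mem (hA g'.2) ha), Subgroup.coe_mul]
        congr 1
        group }
  exact ⟨⟨n, π, ρ₀.toHomUnits, hBA, hA, hB, hmul, fun v => ⟨sec v, hsecA v, hsec v⟩, hzero, hlin⟩⟩

namespace SecRep

variable (S : SecRep p A B H)

theorem map_one : S.π 1 = 0 := (S.eq_zero 1 (one_mem _)).mpr (one_mem _)

theorem map_inv {a : X} (ha : a ∈ A) : S.π a⁻¹ = -S.π a := by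
  refine eq_neg_of_add_eq_zero_left ?_
  rw [← S.map_mul _ (inv_mem ha) _ ha, inv_mul_cancel, S.map_one]

include S in
theorem comm_mem (h : H) {a : X} (ha : a ∈ A) : ⁅(h : X), a⁆ ∈ A :=
  mul_mem (conj_mem (S.normA h.2) ha) (inv_mem ha)

theorem map_comm (h : H) {a : X} (ha : a ∈ A) : S.π ⁅(h : X), a⁆ =
    ((S.ρ h : (Fin S.n → ZMod p) →ₗ[ZMod p] (Fin S.n → ZMod p)) - 1) (S.π a) := by
  rw [commutatorElement_def, S.map_mul _ (conj_mem (S.normA h.2) ha) _ (inv_mem ha), S.map_inv ha,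
    S.equiv h a ha, LinearMap.sub_apply, Module.End.one_apply, sub_eq_add_neg]

theorem apply_eq_zero_iff (h : H) {a : X} (ha : a ∈ A) :
    ((S.ρ h : (Fin S.n → ZMod p) →ₗ[ZMod p] (Fin S.n → ZMod p)) - 1) (S.π a) = 0 ↔
      ⁅(h : X), a⁆ ∈ B := by
  rw [← S.map_comm h ha, S.eq_zero _ (S.comm_mem h ha)]

theorem eq_one_iff (h : H) : S.ρ h = 1 ↔ ∀ a ∈ A, ⁅(h : X), a⁆ ∈ B := by
  constructor
  · intro e a ha
    rw [← S.apply_eq_zero_iff h ha, e]
    simp
  · intro hall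
    refine Units.ext (LinearMap.ext fun v => ?_)
    obtain ⟨a, ha, rfl⟩ := S.surj v
    have := (S.apply_eq_zero_iff h ha).mpr (hall a ha)
    rw [LinearMap.sub_apply, sub_eq_zero] at this
    exact this

theorem quad_of (h : H) (hq : ∀ a ∈ A, ⁅(h : X), ⁅(h : X), a⁆⁆ ∈ B) :
    ((S.ρ h : (Fin S.n → ZMod p) →ₗ[ZMod p] (Fin S.n → ZMod p)) - 1) *
      ((S.ρ h : (Fin S.n → ZMod p) →ₗ[ZMod p] (Fin S.n → ZMod p)) - 1) = 0 := by
  refine LinearMap.ext fun v => ?_
  obtain ⟨a, ha, rfl⟩ := S.surj v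
  rw [Module.End.mul_apply, ← S.map_comm h ha, (S.apply_eq_zero_iff h (S.comm_mem h ha)).mpr (hq a ha),
    LinearMap.zero_apply]

theorem cube_of (h : H) (hq : ∀ a ∈ A, ⁅(h : X), ⁅(h : X), ⁅(h : X), a⁆⁆⁆ ∈ B) :
    ((S.ρ h : (Fin S.n → ZMod p) →ₗ[ZMod p] (Fin S.n → ZMod p)) - 1) ^ 3 = 0 := by
  refine LinearMap.ext fun v => ?_
  obtain ⟨a, ha, rfl⟩ := S.surj v
  rw [pow_succ, pow_two, Module.End.mul_apply, Module.End.mul_apply, ← S.map_comm h ha,
    ← S.map_comm h (S.comm_mem h ha),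
    (S.apply_eq_zero_iff h (S.comm_mem h (S.comm_mem h ha))).mpr (hq a ha), LinearMap.zero_apply]

end SecRep

/-! ### Passing to a subgroup containing the acting group -/

variable [Finite X]

omit [Fact p.Prime] in
theorem Act.subgroupOf (h : Act R G) {L : Subgroup X} (hG : G ≤ L) (hR : R ≤ L) :
    Act (R.subgroupOf L) (G.subgroupOf L) := by
  refine ⟨fun a ha => mem_normalizer_of_forall fun y hy => ?_, ?_, ?_⟩
  · show (a : L).1 * y.1 * (a : L).1⁻¹ ∈ G
    exact conj_mem (h.norm ha) hy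
  · rw [Nat.card_congr (subgroupOfEquivOfLe hG).toEquiv,
      Nat.card_congr (subgroupOfEquivOfLe hR).toEquiv]
    exact h.cop
  · haveI := h.solv
    exact Group.isSolvable_of_isSolvable_injective (f := (subgroupOfEquivOfLe hR).toMonoidHom)
      (subgroupOfEquivOfLe hR).injective

theorem mem_pInv_subgroupOf (h : Act R G) {L : Subgroup X} (hG : G ≤ L) (hR : R ≤ L) {x : X}
    (hx : x ∈ pInv p R G) :
    (⟨x, hG (pInv_le hx)⟩ : L) ∈ pInv p (R.subgroupOf L) (G.subgroupOf L) := by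
  have : x ∈ (pInv p (R.subgroupOf L) (G.subgroupOf L)).map L.subtype := by
    rw [← pInv_map_injective (h.subgroupOf hG hR) L.subtype L.subtype_injective,
      map_subgroupOf_eq_of_le hG, map_subgroupOf_eq_of_le hR]
    exact hx
  obtain ⟨y, hy, rfl⟩ := this
  exact hy

end Cfsg.Agent.Lib.Flavell42
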