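import Cfsg.Agent.Lib.Flavell42.PInv

/-!
Invariant subspaces of a linear group: complements are inherited by normal subgroups and by
subgroups with a `p`-group index chain, and `p`-groups fix vectors in characteristic `p`.
-/

namespace Cfsg.Agent.Lib.Flavell42

open Subgroup

set_option linter.style.haveILetI false

variable {k : Type*} [Field k] {V : Type*} [AddCommGroup V] [Module k V]

local notation "GLV" => LinearMap.GeneralLinearGroup k V
local notation "E" => (V →ₗ[k] V)

/-- `W` is invariant under `H`. -/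
def Inv (H : Subgroup (LinearMap.GeneralLinearGroup k V)) (W : Submodule k V) : Prop :=
  ∀ g ∈ H, ∀ w ∈ W, (g : E) w ∈ W

/-- Every invariant subspace has an invariant complement. -/
def Compl (H : Subgroup (LinearMap.GeneralLinearGroup k V)) : Prop :=
  ∀ W, Inv H W → ∃ W', Inv H W' ∧ IsCompl W W'

/-- `H` is irreducible. -/
def Irr (H : Subgroup (LinearMap.GeneralLinearGroup k V)) : Prop :=
  Nontrivial V ∧ ∀ W, Inv H W → W = ⊥ ∨ W = ⊤

/-- A minimal nonzero invariant subspace. -/
structure IsMinInv (H : Subgroup (LinearMap.GeneralLinearGroup k V)) (S : Submodule k V) : Prop where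
  inv : Inv H S
  ne : S ≠ ⊥
  min : ∀ T, Inv H T → T ≤ S → T = ⊥ ∨ T = S

variable {H L O G : Subgroup (LinearMap.GeneralLinearGroup k V)}

theorem Inv.mono {W : Submodule k V} (h : Inv L W) (hHL : H ≤ L) : Inv H W :=
  fun g hg => h g (hHL hg)

theorem inv_inf {W W' : Submodule k V} (h : Inv H W) (h' : Inv H W') : Inv H (W ⊓ W') :=
  fun g hg _ hw => ⟨h g hg _ hw.1, h' g hg _ hw.2⟩

theorem inv_sup {W W' : Submodule k V} (h : Inv H W) (h' : Inv H W') : Inv H (W ⊔ W') := by
  intro g hg w hw
  obtain ⟨a, ha, b, hb, rfl⟩ := Submodule.mem_sup.mp hw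
  rw [map_add]
  exact add_mem (Submodule.mem_sup_left (h g hg a ha)) (Submodule.mem_sup_right (h' g hg b hb))

theorem inv_bot : Inv H (⊥ : Submodule k V) := fun g _ w hw => by
  rw [(Submodule.mem_bot _).mp hw, map_zero]; exact zero_mem _

theorem inv_top : Inv H (⊤ : Submodule k V) := fun _ _ _ _ => trivial

theorem units_inv_apply (g : LinearMap.GeneralLinearGroup k V) (v : V) :
    ((g⁻¹ : LinearMap.GeneralLinearGroup k V) : E) ((g : E) v) = v := by
  rw [← Module.End.mul_apply, Units.inv_mul, Module.End.one_apply]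

theorem units_apply_inv (g : LinearMap.GeneralLinearGroup k V) (v : V) :
    (g : E) (((g⁻¹ : LinearMap.GeneralLinearGroup k V) : E) v) = v := by
  rw [← Module.End.mul_apply, Units.mul_inv, Module.End.one_apply]

theorem inv_map {g : LinearMap.GeneralLinearGroup k V} (hg : g ∈ normalizer (H : Set GLV))
    {S : Submodule k V} (hS : Inv H S) : Inv H (S.map (g : E)) := by
  rintro h hh _ ⟨s, hs, rfl⟩
  refine ⟨((g⁻¹ * h * g : GLV) : E) s, hS _ ?_ s hs, ?_⟩
  · simpa using conj_mem (inv_mem hg) hh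
  · rw [Units.val_mul, Units.val_mul, Module.End.mul_apply, Module.End.mul_apply, units_apply_inv]

theorem IsMinInv.map {g : LinearMap.GeneralLinearGroup k V} (hg : g ∈ normalizer (H : Set GLV))
    {S : Submodule k V} (hS : IsMinInv H S) : IsMinInv H (S.map (g : E)) := by
  have hb : ∀ U : Submodule k V, (U.map ((g⁻¹ : GLV) : E)).map (g : E) = U := fun U => by
    rw [← Submodule.map_comp, ← Module.End.mul_eq_comp, Units.mul_inv, Module.End.one_eq_id,
      Submodule.map_id]
  refine ⟨inv_map hg hS.inv, fun h => hS.ne ?_, fun T hT hTS => ?_⟩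
  · refine (Submodule.eq_bot_iff _).mpr fun s hs => ?_
    have h0 : (g : E) s = 0 := (Submodule.eq_bot_iff _).mp h _ ⟨s, hs, rfl⟩
    rw [← units_inv_apply g s, h0, map_zero]
  · have h1 := hS.min _ (inv_map (inv_mem hg) hT) (by
      rintro _ ⟨t, ht, rfl⟩
      obtain ⟨s, hs, rfl⟩ := hTS ht
      rwa [units_inv_apply])
    rcases h1 with h1 | h1
    · left; rw [← hb T, h1, Submodule.map_bot]
    · right; rw [← h1, hb]

variable [FiniteDimensional k V]

theorem exists_isMinInv {D : Submodule k V} (hD : Inv H D) (hne : D ≠ ⊥) :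
    ∃ S, S ≤ D ∧ IsMinInv H S := by
  obtain ⟨S, ⟨hS, hSne, hSD⟩, hmin⟩ := (wellFounded_lt (α := Submodule k V)).has_min
    {S | Inv H S ∧ S ≠ ⊥ ∧ S ≤ D} ⟨D, hD, hne, le_rfl⟩
  refine ⟨S, hSD, hS, hSne, fun T hT hTS => ?_⟩
  by_contra hc
  rw [not_or] at hc
  exact hmin T ⟨hT, hc.1, hTS.trans hSD⟩ (lt_of_le_of_ne hTS hc.2)

/-- If the minimal invariant subspaces span, complements exist. -/
theorem compl_of_socle (h : ∀ U : Submodule k V, U ≠ ⊤ → ∃ S, IsMinInv H S ∧ ¬ S ≤ U) :
    Compl H := by
  intro W hW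
  obtain ⟨W', ⟨hW', hd⟩, hmax⟩ := (wellFounded_gt (α := Submodule k V)).has_min
    {W' | Inv H W' ∧ Disjoint W W'} ⟨⊥, inv_bot, disjoint_bot_right⟩
  refine ⟨W', hW', hd, codisjoint_iff.mpr ?_⟩
  by_contra hne
  obtain ⟨S, hS, hSU⟩ := h _ hne
  have hSd : (W ⊔ W') ⊓ S = ⊥ := by
    refine (hS.min _ (inv_inf (inv_sup hW hW') hS.inv) inf_le_right).resolve_right fun e => hSU ?_
    rw [← e]; exact inf_le_left
  refine hmax (W' ⊔ S) ⟨inv_sup hW' hS.inv, ?_⟩ ?_
  · exact hd.disjoint_sup_right_of_disjoint_sup_left (disjoint_iff.mpr hSd)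
  · exact left_lt_sup.mpr fun e => hSU (e.trans le_sup_right)

/-- Complements are inherited by normal subgroups. -/
theorem compl_of_normal (hL : Compl L) (hHL : H ≤ L) (hn : L ≤ normalizer (H : Set GLV)) :
    Compl H := by
  refine compl_of_socle fun U hU => ?_
  by_contra hc
  push Not at hc
  set D := ⨆ S ∈ {S | IsMinInv H S}, S with hD
  have hDU : D ≤ U := iSup₂_le hc
  have hDL : Inv L D := by
    intro g hg w hw
    have : D.map (g : E) ≤ D := by
      simp only [hD, Submodule.map_iSup]
      exact iSup₂_le fun S hS => le_biSup (fun S : Submodule k V => S) (hS.map (hn hg))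
    exact this ⟨w, hw, rfl⟩
  obtain ⟨D', hD', hcompl⟩ := hL D hDL
  by_cases hD0 : D' = ⊥
  · subst hD0
    exact hU (top_le_iff.mp ((eq_top_of_isCompl_bot hcompl).ge.trans hDU))
  · obtain ⟨S, hSD, hS⟩ := exists_isMinInv (hD'.mono hHL) hD0
    exact hS.ne (le_bot_iff.mp (hcompl.disjoint (le_biSup (fun S : Submodule k V => S) hS) hSD))

theorem compl_of_irr (h : Irr H) : Compl H := by
  intro W hW
  rcases h.2 W hW with rfl | rfl
  · exact ⟨⊤, inv_top, isCompl_bot_top⟩
  · exact ⟨⊥, inv_bot, isCompl_top_bot⟩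

variable {p : ℕ} [Fact p.Prime] [Finite V]

omit [FiniteDimensional k V] in
theorem finite_gl : Finite (LinearMap.GeneralLinearGroup k V) :=
  Finite.of_injective (fun g : GLV => fun v => (g : E) v) fun g g' h =>
    Units.ext (LinearMap.ext (congrFun h))

/-- Complements are inherited by the subgroups above a normal subgroup of `p`-power index. -/
theorem compl_of_pResidue (hG : Compl G) (hOG : O ≤ G) (hn : G ≤ normalizer (O : Set GLV))
    (hp : ∀ g ∈ G, ∃ n : ℕ, g ^ p ^ n ∈ O) (hOH : O ≤ H) (hHG : H ≤ G) : Compl H := by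
  have := finite_gl (k := k) (V := V)
  induction H using (wellFounded_gt (α := Subgroup GLV)).induction with
  | _ H ih =>
    rcases hHG.eq_or_lt with rfl | hlt
    · exact hG
    haveI : (O.subgroupOf G).Normal := (normal_subgroupOf_iff_le_normalizer hOG).mpr hn
    let π := QuotientGroup.mk' (O.subgroupOf G)
    have hQ : IsPGroup p (G ⧸ O.subgroupOf G) := by
      intro x
      induction x using QuotientGroup.induction_on with
      | H g =>
        obtain ⟨n, hn⟩ := hp g g.2
        refine ⟨n, ?_⟩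
        rw [← QuotientGroup.mk_pow, QuotientGroup.eq_one_iff, Subgroup.mem_subgroupOf]
        simpa using hn
    haveI := hQ.isNilpotent
    set Hb := (H.subgroupOf G).map π with hHb
    have hback : Hb.comap π = H.subgroupOf G :=
      comap_map_eq_self (by rw [QuotientGroup.ker_mk']; exact Subgroup.comap_mono hOH)
    have hb : Hb < ⊤ := lt_top_iff_ne_top.mpr fun e => hlt.not_ge fun x hx => by
      have : (⟨x, hx⟩ : G) ∈ H.subgroupOf G := by
        rw [← hback, Subgroup.mem_comap, e]; trivial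
      exact this
    obtain ⟨z, hz, hzH⟩ :=
      SetLike.exists_of_lt (Group.normalizerCondition_of_isNilpotent (G := G ⧸ O.subgroupOf G) Hb hb)
    obtain ⟨z, rfl⟩ := QuotientGroup.mk'_surjective _ z
    have hzH' : (z : GLV) ∉ H := fun h => hzH ⟨z, h, rfl⟩
    have hzn : (z : GLV) ∈ normalizer (H : Set GLV) := by
      refine mem_normalizer_of_forall fun x hx => ?_
      have h1 : z * ⟨x, hHG hx⟩ * z⁻¹ ∈ H.subgroupOf G := by
        rw [← hback, Subgroup.mem_comap, map_mul, map_mul, map_inv]
        exact conj_mem hz ⟨⟨x, hHG hx⟩, hx, rfl⟩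
      exact h1
    have hlt' : H < G ⊓ normalizer (H : Set GLV) :=
      lt_of_le_of_ne (le_inf hHG le_normalizer) fun e => hzH' (e ▸ mem_inf.mpr ⟨z.2, hzn⟩)
    exact compl_of_normal (ih _ hlt' (hOH.trans hlt'.le) inf_le_left) hlt'.le inf_le_right

omit [FiniteDimensional k V] in
/-- A `p`-group fixes a nonzero vector in every nonzero invariant subspace. -/
theorem exists_fixed [CharP k p] {U : Subgroup (LinearMap.GeneralLinearGroup k V)}
    (hU : IsPGroup p U) {W : Submodule k V} (hW : Inv U W) (hne : W ≠ ⊥) :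
    ∃ w ∈ W, w ≠ 0 ∧ ∀ u ∈ U, (u : E) w = w := by
  letI : MulAction U W :=
    { smul := fun u w => ⟨(u.1 : E) w.1, hW u.1 u.2 w.1 w.2⟩
      one_smul := fun w => Subtype.ext (by show ((1 : GLV) : E) w.1 = w.1; simp)
      mul_smul := fun u u' w => Subtype.ext (by
        show ((u.1 * u'.1 : GLV) : E) w.1 = (u.1 : E) ((u'.1 : E) w.1)
        simp) }
  obtain ⟨w, hw, hw0⟩ := Submodule.exists_mem_ne_zero_of_ne_bot hne
  have hcard : p ∣ Nat.card W := by
    have h2 : addOrderOf (⟨w, hw⟩ : W) = p := by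
      refine addOrderOf_eq_prime ?_ fun e => hw0 (congrArg Subtype.val e)
      apply Subtype.ext
      show p • w = 0
      rw [← Nat.cast_smul_eq_nsmul k, CharP.cast_eq_zero, zero_smul]
    rw [← h2]
    exact addOrderOf_dvd_natCard _
  have h0 : (0 : W) ∈ MulAction.fixedPoints U W := fun u => Subtype.ext (map_zero (u.1 : E))
  obtain ⟨b, hb, hb0⟩ := hU.exists_fixed_point_of_prime_dvd_card_of_fixed_point W hcard h0
  exact ⟨b.1, b.2, fun e => hb0 (Subtype.ext e.symm), fun u hu =>
    congrArg Subtype.val (hb ⟨u, hu⟩)⟩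

omit [FiniteDimensional k V] in
/-- An irreducible group normalises no non-trivial `p`-subgroup. -/
theorem eq_bot_of_irr [CharP k p] {U : Subgroup (LinearMap.GeneralLinearGroup k V)} (hH : Irr H)
    (hU : IsPGroup p U) (hn : H ≤ normalizer (U : Set GLV)) : U = ⊥ := by
  let F : Submodule k V :=
    { carrier := {v | ∀ u ∈ U, (u : E) v = v}
      zero_mem' := fun u _ => map_zero _
      add_mem' := fun ha hb u hu => by rw [map_add, ha u hu, hb u hu]
      smul_mem' := fun c v hv u hu => by rw [map_smul, hv u hu] }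
  have hF : Inv H F := by
    intro g hg v hv u hu
    have h1 : g⁻¹ * u * g ∈ U := by simpa using conj_mem (inv_mem (hn hg)) hu
    have := congrArg (g : E) (hv _ h1)
    rwa [Units.val_mul, Units.val_mul, Module.End.mul_apply, Module.End.mul_apply,
      units_apply_inv] at this
  have := hH.1
  obtain ⟨w, -, hw0, hw⟩ := exists_fixed hU (W := (⊤ : Submodule k V)) inv_top top_ne_bot
  rcases hH.2 F hF with h | h
  · exact absurd ((Submodule.eq_bot_iff _).mp h w hw) hw0
  · refine (Subgroup.eq_bot_iff_forall U).mpr fun u hu => Units.ext (LinearMap.ext fun v => ?_)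
    have hv : v ∈ F := by rw [h]; trivial
    simpa using hv u hu

end Cfsg.Agent.Lib.Flavell42
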