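import Cfsg.Agent.Lib.Flavell42.Orbit

/-!
The minimal configuration for the quadratic lemma and the central quadratic elements of `pInv`.
-/

set_option linter.style.haveILetI false
set_option linter.unusedSimpArgs false

namespace Cfsg.Agent.Lib.Flavell42

open QuadPair Subgroup
open scoped commutatorElement

variable {p : ℕ} [Fact p.Prime] {V : Type} [AddCommGroup V] [Module (ZMod p) V] [Finite V]

local notation "GLV" => LinearMap.GeneralLinearGroup (ZMod p) V
local notation "E" => (V →ₗ[ZMod p] V)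

/-- An element acting quadratically. -/
def IsQuad (x : LinearMap.GeneralLinearGroup (ZMod p) V) : Prop :=
  ((x : E) - 1) * ((x : E) - 1) = 0

/-- The conclusion for all smaller groups, and irreducibility. -/
structure Config (R G : Subgroup (LinearMap.GeneralLinearGroup (ZMod p) V)) : Prop where
  hp : 5 ≤ p
  act : Act R G
  irr : Irr (G ⊔ R)
  ih : ∀ H, H < G → ∀ R₁ : Subgroup GLV, Act R₁ H → ∀ x ∈ pInv p R₁ H, IsQuad x →
    x ∈ pCoreOf p H

variable {R G : Subgroup (LinearMap.GeneralLinearGroup (ZMod p) V)}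

theorem Config.eq_bot_of_invariant (h : Config R G) {U : Subgroup GLV} (hU : IsPGroup p U)
    (hGU : G ≤ normalizer (U : Set GLV)) (hRU : R ≤ normalizer (U : Set GLV)) : U = ⊥ :=
  eq_bot_of_irr h.irr hU (sup_le hGU hRU)

theorem Config.pCoreOf_eq_bot (h : Config R G) : pCoreOf p G = ⊥ :=
  h.eq_bot_of_invariant (CosetGraph.SylowIn.isPGroup_pCoreOf p G)
    (CosetGraph.SylowIn.le_normalizer_pCoreOf p G)
    (h.act.norm.trans normalizer_le_normalizer_pCoreOf)

theorem Config.noCore (h : Config R G) : NoCore G := fun U hU hn hp' => by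
  rw [← le_bot_iff, ← h.pCoreOf_eq_bot]
  exact CosetGraph.SylowIn.le_pCoreOf hU hn hp'

/-- A quadratic element of `pInv` lies in `O_p` of each proper invariant subgroup containing it. -/
theorem Config.fact (h : Config R G) {H : Subgroup GLV} (hH : H < G)
    (hR : R ≤ normalizer (H : Set GLV)) {x : GLV} (hx : x ∈ pInv p R G) (hq : IsQuad x)
    (hxH : x ∈ H) : x ∈ pCoreOf p H :=
  h.ih H hH R (h.act.sub hH.le hR) x (pInv_inf_le h.act hH.le hR ⟨hx, hxH⟩) hq

theorem IsQuad.inv {x : GLV} (hq : IsQuad x) : IsQuad x⁻¹ := by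
  have e : ((x⁻¹ : GLV) : E) - 1 = -((x : E) - 1) := by rw [val_inv_of_sq hq]; abel
  rw [IsQuad, e]
  exact neg_sq hq

theorem IsQuad.conj {x : GLV} (hq : IsQuad x) (g : GLV) : IsQuad (g * x * g⁻¹) := by
  rw [IsQuad, val_conj_sub_one, cj_mul, hq, cj_zero]

/-- Quadratic elements of `pInv`. -/
def IsQP (R G : Subgroup (LinearMap.GeneralLinearGroup (ZMod p) V)) (x : GLV) : Prop :=
  x ∈ pInv p R G ∧ IsQuad x

theorem IsQP.conj {x g : GLV} (hx : IsQP R G x) (hg : g ∈ normalizer (pInv p R G : Set GLV)) :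
    IsQP R G (g * x * g⁻¹) := ⟨conj_mem hg hx.1, hx.2.conj g⟩

theorem IsQP.good {x : GLV} (hx : IsQP R G x) : Good G ((x : E) - 1) :=
  good_of_quad (pInv_le hx.1) hx.2

/-- If some quadratic element of `pInv` is nontrivial, one is central among them. -/
theorem exists_central_quad (h : Config R G) {x : GLV} (hx : IsQP R G x) (hx1 : x ≠ 1) :
    ∃ t, IsQP R G t ∧ t ≠ 1 ∧ ∀ d, IsQP R G d → t * d = d * t := by
  classical
  set P := pInv p R G with hP
  by_cases hall : ∀ d, IsQP R G d → ∀ d', IsQP R G d' → d * d' = d' * d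
  · exact ⟨x, hx, hx1, fun d hd => hall x hx d hd⟩
  push Not at hall
  obtain ⟨a₀, ha₀, c₀, hc₀, hne₀⟩ := hall
  haveI : Group.IsNilpotent P := (isPGroup_pInv h.act).isNilpotent
  obtain ⟨N, hN⟩ := (Subgroup.isNilpotent_iff_lowerCentralSeries P).mp ‹_›
  suffices key : ∀ j n, n + j = N → ∀ a c, IsQP R G a → IsQP R G c →
      ⁅a, c⁆ ∈ P.lowerCentralSeries n → ⁅a, c⁆ ≠ 1 →
      ∃ t, IsQP R G t ∧ t ≠ 1 ∧ ∀ d, IsQP R G d → t * d = d * t by
    refine key N 0 (zero_add N) a₀ c₀ ha₀ hc₀ ?_ fun e => hne₀ ?_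
    · rw [Subgroup.lowerCentralSeries_zero]
      exact mul_mem (mul_mem (mul_mem ha₀.1 hc₀.1) (inv_mem ha₀.1)) (inv_mem hc₀.1)
    · exact commutatorElement_eq_one_iff_mul_comm.mp e
  intro j
  induction j with
  | zero =>
    intro n hn a c _ _ hmem hne
    rw [add_zero] at hn
    rw [hn, hN, mem_bot] at hmem
    exact absurd hmem hne
  | succ j ih =>
    intro n hn a c ha hc hmem hne
    by_cases hdeep : ∃ a c, IsQP R G a ∧ IsQP R G c ∧
        ⁅a, c⁆ ∈ P.lowerCentralSeries (n + 1) ∧ ⁅a, c⁆ ≠ 1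
    · obtain ⟨a', c', h1, h2, h3, h4⟩ := hdeep
      exact ih (n + 1) (by omega) a' c' h1 h2 h3 h4
    push Not at hdeep
    have hstep : ∀ u ∈ P.lowerCentralSeries n, ∀ d ∈ P,
        ⁅u, d⁆ ∈ P.lowerCentralSeries (n + 1) := fun u hu d hd => by
      rw [Subgroup.lowerCentralSeries_succ]; exact commutator_mem_commutator hu hd
    have hcomm : ∀ u v, IsQP R G u → IsQP R G v → ⁅v, u⁆ ∈ P.lowerCentralSeries n →
        u * (v * u * v⁻¹) = v * u * v⁻¹ * u := by
      intro u v hu hv huv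
      refine commutatorElement_eq_one_iff_mul_comm.mp (hdeep _ _ hu (hu.conj (le_normalizer hv.1)) ?_)
      have e : ⁅u, v * u * v⁻¹⁆ = (⁅⁅v, u⁆, u⁆)⁻¹ := by
        simp only [commutatorElement_def]; group
      rw [e]
      exact inv_mem (hstep _ huv u hu.1)
    have h1 : ⁅c, a⁆ ∈ P.lowerCentralSeries n := by
      rw [← commutatorElement_inv]; exact inv_mem hmem
    have h1' : ⁅c⁻¹, a⁆ ∈ P.lowerCentralSeries n := by
      have e : ⁅c⁻¹, a⁆ = c⁻¹ * ⁅a, c⁆ * c⁻¹⁻¹ := by simp only [commutatorElement_def]; group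
      rw [e]
      exact Flavell42.conj_mem (P.self_le_normalizer_lowerCentralSeries n (inv_mem hc.1)) hmem
    have h2' : ⁅a⁻¹, c⁆ ∈ P.lowerCentralSeries n := by
      have e : ⁅a⁻¹, c⁆ = a⁻¹ * ⁅c, a⁆ * a⁻¹⁻¹ := by simp only [commutatorElement_def]; group
      rw [e]
      exact Flavell42.conj_mem (P.self_le_normalizer_lowerCentralSeries n (inv_mem ha.1)) h1
    have hinv : ∀ {u : GLV}, IsQP R G u → IsQP R G u⁻¹ := fun hu => ⟨inv_mem hu.1, hu.2.inv⟩
    set X : E := (a : E) - 1 with hX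
    set Y : E := (c : E) - 1 with hY
    have hXX : X * X = 0 := ha.2
    have hYY : Y * Y = 0 := hc.2
    have eY : ∀ {Z : E} {v : GLV}, (v : E) - 1 = Z → IsQuad v → ((v * a * v⁻¹ : GLV) : E) - 1 =
        X + (Z * X - X * Z) - Z * X * Z := fun {Z v} hv hq => by
      rw [val_conj_sub_one, ← hX, ← tau_of_val hq, hv, cj_tau (hv ▸ hq)]
    have eX : ∀ {Z : E} {v : GLV}, (v : E) - 1 = Z → IsQuad v → ((v * c * v⁻¹ : GLV) : E) - 1 =
        Y + (Z * Y - Y * Z) - Z * Y * Z := fun {Z v} hv hq => by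
      rw [val_conj_sub_one, ← hY, ← tau_of_val hq, hv, cj_tau (hv ▸ hq)]
    have comm_val : ∀ {u w : GLV}, u * w = w * u →
        ((u : E) - 1) * ((w : E) - 1) = ((w : E) - 1) * ((u : E) - 1) := fun {u w} e => by
      have e' : (u : E) * (w : E) = (w : E) * (u : E) := by
        rw [← Units.val_mul, ← Units.val_mul, e]
      simp only [sub_mul, mul_sub, mul_one, one_mul, e']
      abel
    have eci : ((c⁻¹ : GLV) : E) - 1 = -Y := by rw [val_inv_of_sq hc.2, hY]; abel
    have eai : ((a⁻¹ : GLV) : E) - 1 = -X := by rw [val_inv_of_sq ha.2, hX]; abel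
    have c1 := comm_val (hcomm a c ha hc h1)
    have c2 := comm_val (hcomm a c⁻¹ ha (hinv hc) h1')
    have c3 := comm_val (hcomm c a hc ha hmem)
    have c4 := comm_val (hcomm c a⁻¹ hc (hinv ha) h2')
    rw [eY rfl hc.2, ← hX, ← hY] at c1
    rw [eY eci hc.2.inv, ← hX] at c2
    rw [eX rfl ha.2, ← hX, ← hY] at c3
    rw [eX eai ha.2.inv, ← hY] at c4
    have sand : ∀ {U W : E}, U * U = 0 →
        U * (U + (W * U - U * W) - W * U * W) = (U + (W * U - U * W) - W * U * W) * U →
        U * (U + (-W * U - U * -W) - -W * U * -W) = (U + (-W * U - U * -W) - -W * U * -W) * U →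
        U * W * U = 0 := by
      intro U W hUU k1 k2
      have hw : ∀ z : E, U * (U * z) = 0 := fun z => by rw [← mul_assoc, hUU, zero_mul]
      have : (4 : ZMod p) • (U * W * U) = 0 := by
        have k := congrArg₂ (· - ·) k1 k2
        simp only [← sub_eq_zero (a := U * _ - U * _)] at k
        simp only [mul_add, add_mul, mul_sub, sub_mul, neg_mul, mul_neg, neg_neg, mul_assoc, hUU,
          hw, mul_zero, zero_mul, sub_zero, zero_sub] at k
        rw [← k, mul_assoc]
        module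
      refine (smul_eq_zero.mp this).resolve_left ?_
      rw [show (4 : ZMod p) = 2 * 2 by norm_num]
      exact mul_ne_zero (two_ne h.hp) (two_ne h.hp)
    have sX : X * Y * X = 0 := sand hXX c1 c2
    have sY : Y * X * Y = 0 := sand hYY c3 c4
    have hw1 : ∀ z : E, X * (Y * (X * z)) = 0 := fun z => by
      rw [← mul_assoc, ← mul_assoc, sX, zero_mul]
    have hw2 : ∀ z : E, Y * (X * (Y * z)) = 0 := fun z => by
      rw [← mul_assoc, ← mul_assoc, sY, zero_mul]
    have hw3 : ∀ z : E, X * (X * z) = 0 := fun z => by rw [← mul_assoc, hXX, zero_mul]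
    have hw4 : ∀ z : E, Y * (Y * z) = 0 := fun z => by rw [← mul_assoc, hYY, zero_mul]
    rw [mul_assoc] at sX sY
    set t := ⁅c, a⁆ with ht
    have et : (t : E) - 1 = Y * X - X * Y := by
      rw [ht, commutatorElement_def]
      simp only [Units.val_mul, val_inv_of_sq hc.2, val_inv_of_sq ha.2, ← hX, ← hY]
      rw [show (c : E) = 1 + Y by rw [hY]; abel, show (a : E) = 1 + X by rw [hX]; abel]
      simp only [mul_add, add_mul, mul_sub, sub_mul, mul_one, one_mul, mul_assoc, hXX, hYY, sX, sY,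
        hw1, hw2, hw3, hw4, mul_zero, zero_mul, sub_zero, add_zero, zero_add]
      abel
    have htP : IsQP R G t := by
      refine ⟨mul_mem (mul_mem (mul_mem hc.1 ha.1) (inv_mem hc.1)) (inv_mem ha.1), ?_⟩
      rw [IsQuad, et]
      simp only [mul_sub, sub_mul, mul_assoc, sX, sY, hw1, hw2, hw3, hw4, mul_zero, zero_mul,
        sub_zero]
    refine ⟨t, htP, fun e => hne ?_, fun d hd => ?_⟩
    · rw [← commutatorElement_inv, ← ht, e, inv_one]
    · exact commutatorElement_eq_one_iff_mul_comm.mp (hdeep t d htP hd (hstep t h1 d hd.1))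

end Cfsg.Agent.Lib.Flavell42
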