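import Cfsg.Agent.Lib.Flavell42.Lemma
import Cfsg.Agent.Lib.Flavell42.SectionRep
import Cfsg.Agent.Lib.Flavell42.Functor

/-!
Sections of a coprimely acted group: elements acting quadratically on a section lie in the largest
normal subgroup acting as a `p`-group, and the resulting bound on admissible subgroups.
-/

namespace Cfsg.Agent.Lib.Flavell42

open Subgroup
open scoped commutatorElement

set_option linter.style.haveILetI false

variable {X : Type*} [Group X] {p : ℕ} {A B C R G S : Subgroup X} {x : X}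

theorem normalizer_of_comm (hc : ∀ a ∈ A, ∀ b ∈ A, ⁅a, b⁆ ∈ B) (hBA : B ≤ A) [Finite X] :
    A ≤ normalizer (B : Set X) := fun a ha => by
  refine mem_normalizer_of_forall fun b hb => ?_
  rw [show a * b * a⁻¹ = ⁅a, b⁆ * b by simp only [commutatorElement_def]; group]
  exact mul_mem (hc a ha b (hBA hb)) hb

theorem comm_pow_mem (hxB : x ∈ normalizer (B : Set X)) (h : ∀ a ∈ A, ⁅x, a⁆ ∈ B) (i : ℕ) :
    ∀ a ∈ A, ⁅x ^ i, a⁆ ∈ B := by
  induction i with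
  | zero => intro a _; simp
  | succ i ih =>
    intro a ha
    rw [show ⁅x ^ (i + 1), a⁆ = x * ⁅x ^ i, a⁆ * x⁻¹ * ⁅x, a⁆ by
      simp only [pow_succ', commutatorElement_def]; group]
    exact mul_mem (conj_mem hxB (ih a ha)) (h a ha)

/-- Commutators with powers of an element stabilising a chain. -/
theorem comm_pow_chain [Finite X] (hCB : C ≤ normalizer (B : Set X))
    (hxB : x ∈ normalizer (B : Set X)) (hxC : ∀ c ∈ C, ⁅x, c⁆ ∈ B) {a : X} (ha : ⁅x, a⁆ ∈ C)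
    (i : ℕ) : (⁅x, a⁆ ^ i)⁻¹ * ⁅x ^ i, a⁆ ∈ B := by
  induction i with
  | zero => simp
  | succ i ih =>
    set c := ⁅x, a⁆ with hc
    have e : ⁅x ^ (i + 1), a⁆ = x * ⁅x ^ i, a⁆ * x⁻¹ * c := by
      simp only [hc, pow_succ', commutatorElement_def]; group
    have h1 : (c ^ i)⁻¹ * (x * c ^ i * x⁻¹) ∈ B := by
      have hci : (c ^ i)⁻¹ ∈ C := inv_mem (pow_mem ha i)
      have := conj_mem (hCB hci) (hxC _ (pow_mem ha i))
      rw [commutatorElement_def] at this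
      simpa [mul_assoc] using this
    have h2 : (c ^ i)⁻¹ * (x * ⁅x ^ i, a⁆ * x⁻¹) ∈ B := by
      have := mul_mem h1 (conj_mem hxB ih)
      convert this using 1
      group
    have h3 : c⁻¹ * ((c ^ i)⁻¹ * (x * ⁅x ^ i, a⁆ * x⁻¹)) * c⁻¹⁻¹ ∈ B :=
      conj_mem (hCB (inv_mem ha)) h2
    convert h3 using 1
    rw [e, pow_succ]
    group

theorem orderOf_coprime_pow [Finite X] [Fact p.Prime] (g : X) :
    ∃ j : ℕ, (orderOf (g ^ p ^ j)).Coprime p := by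
  refine ⟨(orderOf g).factorization p, ?_⟩
  have h0 : orderOf g ≠ 0 := (orderOf_pos g).ne'
  rw [orderOf_pow_of_dvd (pow_ne_zero _ (Fact.out : p.Prime).ne_zero) (Nat.ordProj_dvd _ _)]
  exact (Nat.coprime_ordCompl (Fact.out : p.Prime) h0).symm

theorem eq_one_of_pow_coprime [Fact p.Prime] (hA : IsPGroup p A) {z : X} (hz : z ∈ A) {n : ℕ}
    (hn : n.Coprime p) (h : z ^ n = 1) : z = 1 := by
  obtain ⟨j, hj⟩ := hA ⟨z, hz⟩
  have hj' : z ^ p ^ j = 1 := congrArg Subtype.val hj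
  have := pow_gcd_eq_one.mpr ⟨h, hj'⟩
  rwa [Nat.Coprime.gcd_eq_one (hn.pow_right j), pow_one] at this

/-- A coprime element centralising `A` modulo `C` and `C` modulo `B` centralises `A` modulo `B`. -/
theorem comm_eq_one_of_coprime [Finite X] [Fact p.Prime] (hC : IsPGroup p C) {y a : X}
    (hy : (orderOf y).Coprime p) (hyC : ∀ c ∈ C, ⁅y, c⁆ = 1) (ha : ⁅y, a⁆ ∈ C) : ⁅y, a⁆ = 1 := by
  refine eq_one_of_pow_coprime hC ha hy ?_
  have := comm_pow_chain (B := (⊥ : Subgroup X)) (C := C) (x := y)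
    (fun c _ => mem_normalizer_of_forall fun b hb => by rw [mem_bot.mp hb]; simp)
    (mem_normalizer_of_forall fun b hb => by rw [mem_bot.mp hb]; simp)
    (fun c hc => mem_bot.mpr (hyC c hc)) ha (orderOf y)
  simpa [pow_orderOf_eq_one] using this

/-- The subgroup generated by `B` and the `p`-th powers in `A`. -/
def powGen (p : ℕ) (A B : Subgroup X) : Subgroup X := B ⊔ closure ((· ^ p) '' (A : Set X))

theorem powGen_le (hBA : B ≤ A) : powGen p A B ≤ A :=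
  sup_le hBA ((closure_le _).mpr (by rintro _ ⟨a, ha, rfl⟩; exact pow_mem ha p))

theorem pow_mem_powGen {a : X} (ha : a ∈ A) : a ^ p ∈ powGen p A B :=
  mem_sup_right (subset_closure ⟨a, ha, rfl⟩)

theorem normalizer_powGen [Finite X] {g : X} (hA : g ∈ normalizer (A : Set X))
    (hB : g ∈ normalizer (B : Set X)) : g ∈ normalizer (powGen p A B : Set X) := by
  refine mem_normalizer_of_forall fun y hy => ?_
  have hle : powGen p A B ≤ (powGen p A B).comap (MulAut.conj g).toMonoidHom :=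
    sup_le (fun b hb => mem_sup_left (conj_mem hB hb)) ((closure_le _).mpr (by
      rintro _ ⟨a, ha, rfl⟩
      show MulAut.conj g (a ^ p) ∈ powGen p A B
      rw [map_pow]
      exact pow_mem_powGen (conj_mem hA ha)))
  exact hle hy

theorem powGen_lt [Finite X] [Fact p.Prime] (hA : IsPGroup p A) (hBA : B < A) :
    powGen p A B < A := by
  refine lt_of_le_of_ne (powGen_le hBA.le) fun e => ?_
  have hne : B.subgroupOf A ≠ ⊤ := fun h => hBA.ne (le_antisymm hBA.le (subgroupOf_eq_top.mp h))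
  obtain ⟨M, hM, hBM⟩ := (eq_top_or_exists_le_coatom (B.subgroupOf A)).resolve_left hne
  haveI := hA.isNilpotent
  haveI : M.Normal := Subgroup.NormalizerCondition.normal_of_coatom M
    Group.normalizerCondition_of_isNilpotent hM
  have hpow : ∀ a : A, a ^ p ∈ M := by
    intro a
    by_contra ha
    have htop : M ⊔ zpowers (a ^ p) = ⊤ := hM.2 _ (left_lt_sup.mpr fun h => ha (h (mem_zpowers _)))
    obtain ⟨m, hm, w, hw, he⟩ := mem_sup_of_normal_left.mp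
      (show a ∈ M ⊔ zpowers (a ^ p) by rw [htop]; trivial)
    obtain ⟨j, rfl⟩ := mem_zpowers_iff.mp hw
    have hmem : a ^ ((1 : ℤ) - (p : ℤ) * j) ∈ M := by
      have : a ^ ((1 : ℤ) - (p : ℤ) * j) = m := by
        rw [zpow_sub, zpow_one, zpow_mul, zpow_natCast]
        exact mul_inv_eq_iff_eq_mul.mpr he.symm
      rw [this]; exact hm
    obtain ⟨n, hn⟩ := hA a
    have hn' : a ^ ((p ^ n : ℕ) : ℤ) ∈ M := by rw [zpow_natCast, hn]; exact one_mem M
    have hcop : IsCoprime ((1 : ℤ) - (p : ℤ) * j) ((p ^ n : ℕ) : ℤ) := by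
      push_cast
      exact IsCoprime.pow_right ⟨1, j, by ring⟩
    obtain ⟨u, v, huv⟩ := hcop
    refine ha (pow_mem ?_ p)
    rw [← zpow_one a, ← huv, zpow_add, mul_comm u, mul_comm v, zpow_mul, zpow_mul a ((p ^ n : ℕ) : ℤ)]
    exact mul_mem (zpow_mem hmem _) (zpow_mem hn' _)
  refine hM.1 (top_le_iff.mp fun a _ => ?_)
  have hle : powGen p A B ≤ M.map A.subtype :=
    sup_le (fun b hb => ⟨⟨b, hBA.le hb⟩, hBM (show (⟨b, hBA.le hb⟩ : A) ∈ B.subgroupOf A from hb), rfl⟩)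
      ((closure_le _).mpr (by rintro _ ⟨b, hb, rfl⟩; exact ⟨⟨b, hb⟩ ^ p, hpow _, rfl⟩))
  obtain ⟨m, hm, hma⟩ := hle (e.symm.le a.2)
  rwa [← Subtype.ext hma]

variable [Finite X] [Fact p.Prime]

/-- `S` is a stabiliser subgroup of the section `A/B`. -/
structure IsStab (p : ℕ) (R G A B S : Subgroup X) : Prop where
  le : S ≤ G
  normG : G ≤ normalizer (S : Set X)
  normR : R ≤ normalizer (S : Set X)
  pow : ∀ g ∈ S, ∃ k : ℕ, ∀ a ∈ A, ⁅g ^ p ^ k, a⁆ ∈ B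
  quad : ∀ t ∈ pInv p R G, (∀ a ∈ A, ⁅t, ⁅t, a⁆⁆ ∈ B) → t ∈ S

/-- The elementary case. -/
theorem exists_isStab_elem (hp : 5 ≤ p) (h : Act R G) (hBA : B ≤ A) (he : ∀ a ∈ A, a ^ p ∈ B)
    (hc : ∀ a ∈ A, ∀ b ∈ A, ⁅a, b⁆ ∈ B) (hA : G ⊔ R ≤ normalizer (A : Set X))
    (hB : G ⊔ R ≤ normalizer (B : Set X)) : ∃ S, IsStab p R G A B S := by
  obtain ⟨Sc⟩ := exists_secRep hBA he hc hA hB
  set L := G ⊔ R with hL
  have hact := h.subgroupOf (le_sup_left : G ≤ L) (le_sup_right : R ≤ L)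
  set G' := (G.subgroupOf L).map Sc.ρ with hG'
  set S := (G.subgroupOf L ⊓ (pCoreOf p G').comap Sc.ρ).map L.subtype with hS
  have hnorm : ∀ l : L, (l : X) ∈ normalizer (G : Set X) → (l : X) ∈ normalizer (S : Set X) := by
    intro l hl
    refine mem_normalizer_of_forall ?_
    rintro _ ⟨y, hy, rfl⟩
    refine ⟨l * y * l⁻¹, mem_inf.mpr ⟨mem_subgroupOf.mpr (conj_mem hl hy.1), ?_⟩, rfl⟩
    rw [mem_comap, map_mul, map_mul, map_inv]
    refine conj_mem (normalizer_le_normalizer_pCoreOf ?_) hy.2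
    refine mem_normalizer_of_forall ?_
    rintro _ ⟨z, hz, rfl⟩
    exact ⟨l * z * l⁻¹, mem_subgroupOf.mpr (conj_mem hl hz), by rw [map_mul, map_mul, map_inv]⟩
  refine ⟨S, ⟨?_, fun g hg => hnorm ⟨g, mem_sup_left hg⟩ (le_normalizer hg),
    fun g hg => hnorm ⟨g, mem_sup_right hg⟩ (h.norm hg), ?_, fun t ht hq => ?_⟩⟩
  · rintro _ ⟨y, hy, rfl⟩; exact hy.1
  · rintro _ ⟨y, hy, rfl⟩
    obtain ⟨k, hk⟩ := CosetGraph.SylowIn.isPGroup_pCoreOf p G' ⟨Sc.ρ y, hy.2⟩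
    refine ⟨k, fun a ha => ?_⟩
    have hk' : Sc.ρ (y ^ p ^ k) = 1 := by rw [map_pow]; exact congrArg Subtype.val hk
    have := (Sc.eq_one_iff _).mp hk' a ha
    rwa [SubmonoidClass.coe_pow] at this
  · have ht' := mem_pInv_subgroupOf h (le_sup_left : G ≤ L) (le_sup_right : R ≤ L) ht
    refine ⟨⟨t, mem_sup_left (pInv_le ht)⟩, mem_inf.mpr ⟨pInv_le ht', ?_⟩, rfl⟩
    exact quad_mem_pCoreOf hp (hact.map Sc.ρ) (map_pInv_le hact Sc.ρ ⟨_, ht', rfl⟩)
      (Sc.quad_of _ hq)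

/-- Stabiliser subgroups of sections inside a `p`-group. -/
theorem exists_isStab (hp : 5 ≤ p) (h : Act R G) :
    ∀ (n : ℕ) (A B : Subgroup X), Nat.card A ≤ n → B ≤ A → IsPGroup p A →
      (∀ a ∈ A, ∀ b ∈ A, ⁅a, b⁆ ∈ B) → G ⊔ R ≤ normalizer (A : Set X) →
      G ⊔ R ≤ normalizer (B : Set X) → ∃ S, IsStab p R G A B S := by
  intro n
  induction n with
  | zero =>
    intro A B hn
    have : 0 < Nat.card A := Nat.card_pos
    omega
  | succ n ih =>
    intro A B hn hBA hAp hc hA hB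
    rcases hBA.eq_or_lt with rfl | hlt
    · exact ⟨G, le_rfl, le_normalizer, h.norm, fun g hg => ⟨0, fun a ha => by
        rw [pow_zero, pow_one]
        exact mul_mem (conj_mem (hA (mem_sup_left hg)) ha) (inv_mem ha)⟩, fun t ht _ => pInv_le ht⟩
    set A1 := powGen p A B with hA1
    have hA1A : A1 ≤ A := powGen_le hBA
    have hBA1 : B ≤ A1 := le_sup_left
    have hA1n : G ⊔ R ≤ normalizer (A1 : Set X) := fun g hg =>
      normalizer_powGen (hA hg) (hB hg)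
    have hcard : Nat.card A1 < Nat.card A := by
      have hl := powGen_lt hAp hlt
      exact lt_of_le_of_ne (card_le_of_le hA1A) fun e => hl.ne (eq_of_le_of_card_ge hA1A e.ge)
    obtain ⟨S1, h1⟩ := exists_isStab_elem hp h hA1A (fun a ha => pow_mem_powGen ha)
      (fun a ha b hb => hBA1 (hc a ha b hb)) hA hA1n
    obtain ⟨S2, h2⟩ := ih A1 B (by omega) hBA1 (hAp.to_le hA1A)
      (fun a ha b hb => hc a (hA1A ha) b (hA1A hb)) hA1n hB
    refine ⟨S1 ⊓ S2, inf_le_left.trans h1.le, Coprime.le_normalizer_inf h1.normG h2.normG,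
      Coprime.le_normalizer_inf h1.normR h2.normR, fun g hg => ?_, fun t ht hq => mem_inf.mpr
      ⟨h1.quad t ht fun a ha => hBA1 (hq a ha), h2.quad t ht fun a ha => hq a (hA1A ha)⟩⟩
    obtain ⟨k1, hk1⟩ := h1.pow g hg.1
    obtain ⟨k2, hk2⟩ := h2.pow g hg.2
    have hgn : ∀ i : ℕ, g ^ i ∈ G ⊔ R := fun i => mem_sup_left (pow_mem (h1.le hg.1) i)
    set y := g ^ p ^ (k1 + k2) with hy
    have y1 : ∀ a ∈ A, ⁅y, a⁆ ∈ A1 := by
      rw [hy, pow_add, pow_mul]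
      exact comm_pow_mem (hA1n (hgn _)) hk1 _
    have y2 : ∀ a ∈ A1, ⁅y, a⁆ ∈ B := by
      rw [hy, pow_add, mul_comm, pow_mul]
      exact comm_pow_mem (hB (hgn _)) hk2 _
    obtain ⟨m, hm⟩ := IsPGroup.iff_card.mp hAp
    refine ⟨k1 + k2 + m, fun a ha => ?_⟩
    rw [pow_add p (k1 + k2) m, pow_mul, ← hy]
    have hch := comm_pow_chain ((hA1A).trans (normalizer_of_comm hc hBA)) (hB (hgn _)) y2
      (y1 a ha) (p ^ m)
    have hone : ⁅y, a⁆ ^ p ^ m = 1 := by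
      have : (⟨⁅y, a⁆, hA1A (y1 a ha)⟩ : A) ^ Nat.card A = 1 := pow_card_eq_one'
      rw [← hm]
      exact congrArg Subtype.val this
    rwa [hone, inv_one, one_mul] at hch

/-- A `p'`-element centralising a self-centralising subgroup of a normal `p`-group centralises it. -/
theorem comm_of_centralizes {Q D : Subgroup X} (hQ : IsPGroup p Q) {y : X}
    (hyQ : y ∈ normalizer (Q : Set X)) (hQD : Q ≤ normalizer (D : Set X)) (hDQ : D ≤ Q)
    (hC : Q ⊓ centralizer (D : Set X) ≤ D) (hy : (orderOf y).Coprime p)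
    (hyD : ∀ d ∈ D, ⁅y, d⁆ = 1) : ∀ q ∈ Q, ⁅y, q⁆ = 1 := by
  intro q hq
  refine comm_eq_one_of_coprime (hQ.to_le hDQ) hy hyD ?_
  refine hC (mem_inf.mpr ⟨mul_mem (conj_mem hyQ hq) (inv_mem hq), mem_centralizer_iff.mpr fun d hd => ?_⟩)
  have e1 : y * d = d * y := commutatorElement_eq_one_iff_mul_comm.mp (hyD d hd)
  have e3 : y * (q⁻¹ * d * q) = q⁻¹ * d * q * y := by
    refine commutatorElement_eq_one_iff_mul_comm.mp (hyD _ ?_)
    simpa using conj_mem (inv_mem (hQD hq)) hd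
  calc d * ⁅y, q⁆ = d * (y * q * y⁻¹ * q⁻¹) := by rw [commutatorElement_def]
    _ = d * y * q * y⁻¹ * q⁻¹ := by group
    _ = y * q * (q⁻¹ * d * q) * y⁻¹ * q⁻¹ := by rw [← e1]; group
    _ = y * q * y⁻¹ * (y * (q⁻¹ * d * q)) * y⁻¹ * q⁻¹ := by group
    _ = y * q * y⁻¹ * q⁻¹ * d := by rw [e3]; group
    _ = ⁅y, q⁆ * d := by rw [commutatorElement_def]

/-- Admissible subgroups for a self-centralising subgroup lie in `O_p`. -/
theorem fOp_le_pCoreOf (hp : 5 ≤ p) (h : Act R G)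
    (hC : G ⊓ centralizer (pCoreOf p G : Set X) ≤ pCoreOf p G) {D Y : Subgroup X}
    (hDQ : D ≤ pCoreOf p G) (hD : G ⊔ R ≤ normalizer (D : Set X))
    (hcl : ∀ a ∈ D, ∀ b ∈ D, ∀ c ∈ D, Commute ⁅a, b⁆ c)
    (hCD : pCoreOf p G ⊓ centralizer (D : Set X) ≤ D) (hDY : D ≤ Y) :
    fOp (pInv p R G) Y ≤ pCoreOf p G := by
  set Q := pCoreOf p G with hQdef
  have hQp : IsPGroup p Q := CosetGraph.SylowIn.isPGroup_pCoreOf p G
  have hQG : Q ≤ G := CosetGraph.SylowIn.pCoreOf_le p G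
  set Z := D ⊓ centralizer (D : Set X) with hZ
  have hnZ : G ⊔ R ≤ normalizer (Z : Set X) := Coprime.le_normalizer_inf hD fun g hg => by
    refine mem_normalizer_of_forall fun z hz => mem_centralizer_iff.mpr fun d hd => ?_
    have h1 : g⁻¹ * d * g ∈ D := by simpa using conj_mem (inv_mem (hD hg)) hd
    calc d * (g * z * g⁻¹) = g * ((g⁻¹ * d * g) * z) * g⁻¹ := by group
      _ = g * (z * (g⁻¹ * d * g)) * g⁻¹ := by rw [mem_centralizer_iff.mp hz _ h1]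
      _ = g * z * g⁻¹ * d := by group
  have hZD : Z ≤ D := inf_le_left
  have hb : G ⊔ R ≤ normalizer ((⊥ : Subgroup X) : Set X) := by rw [normalizer_eq_top]; exact le_top
  obtain ⟨S1, h1⟩ := exists_isStab hp h _ Z ⊥ le_rfl bot_le (hQp.to_le (hZD.trans hDQ))
    (fun a ha b hb' => mem_bot.mpr (commutatorElement_eq_one_iff_mul_comm.mpr
      (mem_centralizer_iff.mp hb'.2 a ha.1))) hnZ hb
  obtain ⟨S2, h2⟩ := exists_isStab hp h _ D Z le_rfl hZD (hQp.to_le hDQ)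
    (fun a ha b hb' => mem_inf.mpr ⟨mul_mem (mul_mem (mul_mem ha hb') (inv_mem ha)) (inv_mem hb'),
      mem_centralizer_iff.mpr fun c hc => (hcl a ha b hb' c hc).eq.symm⟩) hD hnZ
  refine fOp_le_iff.mpr fun T hT hAdm t ht => ?_
  have hTD : T ≤ normalizer (D : Set X) := fun u hu => hD (mem_sup_left (pInv_le (hT hu)))
  have hTZ : T ≤ normalizer (Z : Set X) := fun u hu => hnZ (mem_sup_left (pInv_le (hT hu)))
  have t1 : t ∈ S1 := h1.quad t (hT ht) fun a ha => by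
    have := hAdm.1 Z (hZD.trans hDY)
      (fun a ha b hb' => mem_centralizer_iff.mp hb'.2 a ha.1) hTZ a ha t ht t ht
    rw [mem_bot, commutatorElement_eq_one_iff_mul_comm, ← commutatorElement_inv a t]
    exact this.inv_left.symm.eq
  have t2 : t ∈ S2 := h2.quad t (hT ht) fun a ha => by
    have hta : ⁅t, a⁆ ∈ D := mul_mem (conj_mem (hTD ht) ha) (inv_mem ha)
    have htta : ⁅t, ⁅t, a⁆⁆ ∈ D := mul_mem (conj_mem (hTD ht) hta) (inv_mem hta)
    refine mem_inf.mpr ⟨htta, mem_centralizer_iff.mpr fun c hc => ?_⟩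
    have hta' : ⁅t, a⁆⁻¹ ∈ D := inv_mem hta
    have := hAdm.2 D hDY (fun a ha b hb' c hc => hcl a ha b hb' c hc) hTD a ha t ht t ht
      (⁅t, a⁆⁻¹ * c * ⁅t, a⁆) (mul_mem (mul_mem hta' hc) hta)
    rw [show ⁅⁅a, t⁆, t⁆ = ⁅t, a⁆⁻¹ * ⁅t, ⁅t, a⁆⁆ * ⁅t, a⁆ by
      simp only [commutatorElement_def]; group] at this
    calc c * ⁅t, ⁅t, a⁆⁆ = ⁅t, a⁆ * ((⁅t, a⁆⁻¹ * c * ⁅t, a⁆) *
          (⁅t, a⁆⁻¹ * ⁅t, ⁅t, a⁆⁆ * ⁅t, a⁆)) * ⁅t, a⁆⁻¹ := by group
      _ = ⁅t, a⁆ * ((⁅t, a⁆⁻¹ * ⁅t, ⁅t, a⁆⁆ * ⁅t, a⁆) *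
          (⁅t, a⁆⁻¹ * c * ⁅t, a⁆)) * ⁅t, a⁆⁻¹ := by rw [this.eq]
      _ = ⁅t, ⁅t, a⁆⁆ * c := by group
  have hS : S1 ⊓ S2 ≤ Q := by
    refine CosetGraph.SylowIn.le_pCoreOf (inf_le_left.trans h1.le)
      (Coprime.le_normalizer_inf h1.normG h2.normG) ?_
    rintro ⟨g, hg⟩
    obtain ⟨j, hj⟩ := orderOf_coprime_pow (p := p) g
    refine ⟨j, Subtype.ext ?_⟩
    show g ^ p ^ j = 1
    set y := g ^ p ^ j with hy
    have hyG : y ∈ G := pow_mem (h1.le hg.1) _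
    have hyS : y ∈ S1 ⊓ S2 := pow_mem hg _
    have root : ∀ {A B : Subgroup X}, y ∈ normalizer (B : Set X) →
        (∃ k : ℕ, ∀ a ∈ A, ⁅y ^ p ^ k, a⁆ ∈ B) → ∀ a ∈ A, ⁅y, a⁆ ∈ B := by
      rintro A B hyB ⟨k, hk⟩
      obtain ⟨m, hm⟩ := exists_pow_eq_self_of_coprime
        ((hj.symm.pow_left k : (p ^ k).Coprime (orderOf y)))
      rw [← hm]
      exact comm_pow_mem (pow_mem hyB _) hk m
    have z1 : ∀ a ∈ Z, ⁅y, a⁆ = 1 := fun a ha =>
      mem_bot.mp (root (hb (mem_sup_left hyG)) (h1.pow y hyS.1) a ha)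
    have z2 := root (hnZ (mem_sup_left hyG)) (h2.pow y hyS.2)
    have hyD : ∀ d ∈ D, ⁅y, d⁆ = 1 := fun d hd =>
      comm_eq_one_of_coprime (hQp.to_le (hZD.trans hDQ)) hj z1 (z2 d hd)
    have hyQ := comm_of_centralizes hQp (CosetGraph.SylowIn.le_normalizer_pCoreOf p G hyG)
      (fun q hq => hD (mem_sup_left (hQG hq))) hDQ hCD hj hyD
    have hmem : y ∈ Q := hC (mem_inf.mpr ⟨hyG, mem_centralizer_iff.mpr fun q hq =>
      (commutatorElement_eq_one_iff_mul_comm.mp (hyQ q hq)).symm⟩)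
    refine eq_one_of_pow_coprime hQp hmem hj (pow_orderOf_eq_one y)
  exact hS ⟨t1, t2⟩

end Cfsg.Agent.Lib.Flavell42
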