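import Cfsg.Agent.Lib.Flavell42.Pair
import Cfsg.Agent.Lib.Flavell42.Semisimple
import Cfsg.Agent.Lib.QuadPair.Peel

/-!
Square zero maps over the prime field and their unipotent elements, the torus of a pair, and the
nilpotency of the augmentation of a linear `p`-group.
-/

set_option linter.unusedSimpArgs false
set_option linter.style.haveILetI false

namespace Cfsg.Agent.Lib.Flavell42

open QuadPair
open Cfsg.Agent.Lib.RootSubgroups (Unipotent.aug Unipotent.sub_one_mem)

variable {p : ℕ} [Fact p.Prime] {V : Type} [AddCommGroup V] [Module (ZMod p) V]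

local notation "GLV" => LinearMap.GeneralLinearGroup (ZMod p) V
local notation "E" => (V →ₗ[ZMod p] V)

theorem two_ne (hp : 5 ≤ p) : (2 : ZMod p) ≠ 0 := by
  intro h
  have : p ∣ 2 := (ZMod.natCast_eq_zero_iff 2 p).mp (by exact_mod_cast h)
  have := Nat.le_of_dvd two_pos this
  omega

theorem three_ne (hp : 5 ≤ p) : (3 : ZMod p) ≠ 0 := by
  intro h
  have : p ∣ 3 := (ZMod.natCast_eq_zero_iff 3 p).mp (by exact_mod_cast h)
  have := Nat.le_of_dvd three_pos this
  omega

theorem card_ne_three (hp : 5 ≤ p) : Nat.card (ZMod p) ≠ 3 := by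
  rw [Nat.card_zmod]; omega

theorem cj_comp (g h : GLV) (X : E) : cj (g * h) X = cj g (cj h X) := by
  simp [cj, mul_assoc, mul_inv_rev]

theorem cj_one' (X : E) : cj (1 : GLV) X = X := by simp [cj]

theorem cj_cj_inv (g : GLV) (X : E) : cj g (cj g⁻¹ X) = X := by
  rw [← cj_comp, mul_inv_cancel, cj_one']

theorem cj_zero (g : GLV) : cj g (0 : E) = 0 := by simp [cj]

theorem cj_sub (g : GLV) (X Y : E) : cj g (X - Y) = cj g X - cj g Y := by
  simp [cj, mul_sub, sub_mul]

theorem cj_neg (g : GLV) (X : E) : cj g (-X) = -cj g X := by simp [cj]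

theorem cj_inj (g : GLV) {X Y : E} (h : cj g X = cj g Y) : X = Y := by
  rw [← cj_inv_cj g X, h, cj_inv_cj]

theorem cj_eq_iff_commute (g : GLV) (X : E) : cj g X = X ↔ (g : E) * X = X * (g : E) := by
  constructor
  · intro h
    calc (g : E) * X = cj g X * (g : E) := by simp [cj, mul_assoc]
      _ = X * (g : E) := by rw [h]
  · intro h
    rw [cj, h, mul_assoc, Units.mul_inv, mul_one]

open Classical in
/-- The unit `1 + x` of a square zero `x`. -/
noncomputable def tau (x : E) : GLV :=
  if h : x * x = 0 then ⟨1 + x, 1 - x, one_add_mul_one_sub h, one_sub_mul_one_add h⟩ else 1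

theorem val_tau {x : E} (h : x * x = 0) : (tau x : E) = 1 + x := by rw [tau, dif_pos h]

theorem val_tau_inv {x : E} (h : x * x = 0) : (((tau x)⁻¹ : GLV) : E) = 1 - x :=
  Units.inv_eq_of_mul_eq_one_right (by rw [val_tau h, one_add_mul_one_sub h])

theorem neg_sq {x : E} (h : x * x = 0) : -x * -x = 0 := by rw [neg_mul_neg, h]

theorem smul_sq {x : E} (h : x * x = 0) (c : ZMod p) : c • x * c • x = 0 := by
  rw [smul_mul_smul_comm, h, smul_zero]

theorem tau_inv {x : E} (h : x * x = 0) : (tau x)⁻¹ = tau (-x) :=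
  Units.ext (by rw [val_tau_inv h, val_tau (neg_sq h), sub_eq_add_neg])

theorem tau_zero : tau (0 : E) = 1 := Units.ext (by rw [val_tau (mul_zero _)]; simp)

theorem tau_sub_one {x : E} (h : x * x = 0) : (tau x : E) - 1 = x := by
  rw [val_tau h, add_sub_cancel_left]

theorem tau_of_val {t : GLV} (h : ((t : E) - 1) * ((t : E) - 1) = 0) : tau ((t : E) - 1) = t :=
  Units.ext (by rw [val_tau h, add_sub_cancel])

theorem tau_eq_one_iff {x : E} (h : x * x = 0) : tau x = 1 ↔ x = 0 := by
  refine ⟨fun e => ?_, fun e => by rw [e, tau_zero]⟩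
  rw [← tau_sub_one h, e]; simp

theorem tau_mul {x y : E} (hx : x * x = 0) (hy : y * y = 0) (hxy : x * y = 0) (hyx : y * x = 0) :
    tau x * tau y = tau (x + y) := by
  have hs : (x + y) * (x + y) = 0 := by simp [mul_add, add_mul, hx, hy, hxy, hyx]
  refine Units.ext ?_
  rw [Units.val_mul, val_tau hx, val_tau hy, val_tau hs, mul_add, add_mul, add_mul]
  simp [hxy, add_assoc]

theorem tau_pow {x : E} (hx : x * x = 0) (n : ℕ) : tau x ^ n = tau ((n : ZMod p) • x) := by
  induction n with
  | zero => simp [tau_zero]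
  | succ n ih =>
    rw [pow_succ, ih, tau_mul (smul_sq hx _) hx (by rw [smul_mul_assoc, hx, smul_zero])
      (by rw [mul_smul_comm, hx, smul_zero]), Nat.cast_succ, add_smul, one_smul]

theorem conj_tau (g : GLV) {x : E} (hx : x * x = 0) : g * tau x * g⁻¹ = tau (cj g x) := by
  have h : cj g x * cj g x = 0 := by rw [cj_mul, hx, cj_zero]
  refine Units.ext ?_
  rw [Units.val_mul, Units.val_mul, val_tau hx, val_tau h, cj]
  simp [mul_add, add_mul]

theorem mul_tau_comm_iff {g : GLV} {x : E} (hx : x * x = 0) :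
    g * tau x = tau x * g ↔ cj g x = x := by
  rw [cj_eq_iff_commute, Units.ext_iff, Units.val_mul, Units.val_mul, val_tau hx, mul_add, add_mul,
    mul_one, one_mul, add_right_inj]

theorem cj_tau {y : E} (hy : y * y = 0) (x : E) :
    cj (tau y) x = x + (y * x - x * y) - y * x * y := by
  rw [cj, val_tau hy, val_tau_inv hy]; noncomm_ring

variable {G : Subgroup (LinearMap.GeneralLinearGroup (ZMod p) V)}

theorem mem_vals_tau {x : E} (hx : x * x = 0) : 1 + x ∈ vals G ↔ tau x ∈ G := by
  rw [mem_vals]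
  refine ⟨fun ⟨g, hg, he⟩ => ?_, fun h => ⟨_, h, val_tau hx⟩⟩
  rwa [show tau x = g from Units.ext ((val_tau hx).trans he.symm)]

theorem good_of_tau {x : E} (hx : x * x = 0) (h : tau x ∈ G) : Good G x := by
  refine ⟨hx, fun c => ?_⟩
  rw [mem_vals_tau (smul_sq hx c)]
  have : c • x = ((c.val : ℕ) : ZMod p) • x := by rw [ZMod.natCast_val, ZMod.cast_id]
  rw [this, ← tau_pow hx]
  exact pow_mem h _

theorem tau_mem {x : E} (hx : Good G x) : tau x ∈ G := by
  rw [← mem_vals_tau hx.sq]
  simpa using hx.mem 1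

theorem tau_smul_mem {x : E} (hx : Good G x) (c : ZMod p) : tau (c • x) ∈ G := tau_mem (hx.smul c)

theorem good_of_quad {t : GLV} (ht : t ∈ G) (h : ((t : E) - 1) * ((t : E) - 1) = 0) :
    Good G ((t : E) - 1) := good_of_tau h (by rwa [tau_of_val h])

theorem good_mono {H : Subgroup (LinearMap.GeneralLinearGroup (ZMod p) V)} (hle : H ≤ G) {x : E}
    (hx : Good H x) : Good G x := good_of_tau hx.sq (hle (tau_mem hx))

/-! ### The torus of a pair -/

variable {α φ b : V →ₗ[ZMod p] V}

/-- `1 + cα`, `1 - c⁻¹φ`, `1 + cα`. -/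
noncomputable def weyl (α φ : E) (c : ZMod p) : GLV :=
  tau (c • α) * tau ((-c⁻¹) • φ) * tau (c • α)

/-- The torus. -/
noncomputable def torus (α φ : E) (c : ZMod p) : GLV := weyl α φ c * weyl α φ (-1)

theorem val_weyl (h : Units2 α φ) {c : ZMod p} (hc : c ≠ 0) :
    ((weyl α φ c : GLV) : E) = e0 α φ + c • α - c⁻¹ • φ := by
  have e1 : c * -c⁻¹ = -1 := by rw [mul_neg, mul_inv_cancel₀ hc]
  rw [weyl, Units.val_mul, Units.val_mul, val_tau (smul_sq h.aa c), val_tau (smul_sq h.ff _)]
  simp only [e0, add_mul, mul_add, one_mul, mul_one, smul_mul_assoc, mul_smul_comm, smul_smul,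
    mul_assoc, h.aa, h.afa1, smul_zero, add_zero]
  match_scalars <;> field_simp <;> ring

theorem val_torus (h : Units2 α φ) {c : ZMod p} (hc : c ≠ 0) :
    ((torus α φ c : GLV) : E) = e0 α φ + c • (α * φ) + c⁻¹ • (φ * α) := by
  rw [torus, Units.val_mul, val_weyl h hc, val_weyl h (neg_ne_zero.mpr one_ne_zero)]
  simp only [e0, add_mul, mul_add, sub_mul, mul_sub, one_mul, mul_one, smul_mul_assoc,
    mul_smul_comm, smul_smul, mul_assoc, h.aa, h.ff, h.aa', h.ff', h.afa1, h.faf1, h.afa', h.faf',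
    smul_zero, add_zero, zero_add, sub_zero, zero_sub, mul_zero, zero_mul, inv_neg, inv_one]
  module

theorem val_torus_inv (h : Units2 α φ) {c : ZMod p} (hc : c ≠ 0) :
    (((torus α φ c)⁻¹ : GLV) : E) = e0 α φ + c⁻¹ • (α * φ) + c • (φ * α) := by
  refine Units.inv_eq_of_mul_eq_one_right ?_
  rw [val_torus h hc]
  simp only [e0, add_mul, mul_add, sub_mul, mul_sub, one_mul, mul_one, smul_mul_assoc,
    mul_smul_comm, smul_smul, mul_assoc, h.aa, h.ff, h.aa', h.ff', h.afa1, h.faf1, h.afa', h.faf',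
    smul_zero, add_zero, zero_add, sub_zero, zero_sub, mul_zero, zero_mul, inv_mul_cancel₀ hc,
    mul_inv_cancel₀ hc]
  match_scalars <;> field_simp <;> ring

theorem torus_mem (h : Units2 α φ) (hα : Good G α) (hφ : Good G φ) (c : ZMod p) :
    torus α φ c ∈ G := by
  have hw : ∀ c, weyl α φ c ∈ G := fun c =>
    mul_mem (mul_mem (tau_smul_mem hα _) (tau_smul_mem hφ _)) (tau_smul_mem hα _)
  exact mul_mem (hw c) (hw _)

theorem cj_weyl_left (h : Units2 α φ) : cj (weyl α φ 1) α = -φ := by
  have hw := val_weyl h (one_ne_zero (α := ZMod p))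
  have hi : (((weyl α φ 1)⁻¹ : GLV) : E) = e0 α φ - α + φ := by
    refine Units.inv_eq_of_mul_eq_one_right ?_
    rw [hw]
    simp only [e0, add_mul, mul_add, sub_mul, mul_sub, one_mul, mul_one, one_smul, inv_one,
      mul_assoc, h.aa, h.ff, h.aa', h.ff', h.afa1, h.faf1, h.afa', h.faf', mul_zero, zero_mul]
    abel
  rw [cj, hw, hi]
  simp only [e0, add_mul, mul_add, sub_mul, mul_sub, one_mul, mul_one, one_smul, inv_one, mul_assoc,
    h.aa, h.ff, h.aa', h.ff', h.afa1, h.faf1, h.afa', h.faf', mul_zero, zero_mul]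
  abel

theorem cj_torus_wt1 (h : Units2 α φ) {c : ZMod p} (hc : c ≠ 0) (hb : Wt1 α φ b) :
    cj (torus α φ c) b = c • b := by
  have hal' : ∀ w, α * (b * w) = 0 := fun w => by rw [← mul_assoc, hb.al, zero_mul]
  have har' : ∀ w, b * (α * w) = 0 := fun w => by rw [← mul_assoc, hb.ar, zero_mul]
  have hf : φ * (b * φ) = 0 := by rw [← mul_assoc, hb.fbf]
  have hf' : ∀ w, φ * (b * (φ * w)) = 0 := fun w => by
    rw [← mul_assoc, ← mul_assoc, hb.fbf, zero_mul]
  rw [cj, val_torus h hc, val_torus_inv h hc]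
  conv_rhs => rw [hb.eq]
  conv_lhs => rw [hb.eq]
  simp only [e0, add_mul, mul_add, sub_mul, mul_sub, one_mul, mul_one, smul_mul_assoc,
    mul_smul_comm, smul_smul, mul_assoc, h.aa, h.ff, h.aa', h.ff', h.afa1, h.faf1, h.afa', h.faf',
    hb.al, hb.ar, hal', har', hf, hf', smul_zero, add_zero, sub_zero, mul_zero, smul_add]
  match_scalars <;> field_simp <;> ring

theorem cj_torus_fixed (h : Units2 α φ) {c : ZMod p} (hc : c ≠ 0)
    (h1 : α * φ * b = b * (α * φ)) (h2 : φ * α * b = b * (φ * α)) :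
    cj (torus α φ c) b = b := by
  rw [cj_eq_iff_commute, val_torus h hc, e0]
  simp only [add_mul, mul_add, sub_mul, mul_sub, one_mul, mul_one, smul_mul_assoc, mul_smul_comm,
    h1, h2]

theorem part0_swap (α φ b : E) : part0 φ α b = part0 α φ b := by
  have : e0 φ α = e0 α φ := by rw [e0, e0]; abel
  rw [part0, part0, this]; abel

theorem cj_torus_parts (h : Units2 α φ) {c : ZMod p} (hc : c ≠ 0) (ha : α * b * α = 0)
    (hf : φ * b * φ = 0) :
    cj (torus α φ c) b = c • part1 α φ b + part0 α φ b + c⁻¹ • part1 φ α b := by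
  have h0 : cj (torus α φ c) (part0 α φ b) = part0 α φ b :=
    cj_torus_fixed h hc (part0_commute_left h b)
      (by rw [← part0_swap]; exact part0_commute_left h.symm b)
  have hs : torus φ α c⁻¹ = torus α φ c := Units.ext (by
    rw [val_torus h.symm (inv_ne_zero hc), val_torus h hc, inv_inv, e0, e0]; abel)
  conv_lhs => rw [← part_sum h ha hf]
  rw [cj_add, cj_add, h0, cj_torus_wt1 h hc (wt1_part1 h b), ← hs,
    cj_torus_wt1 h.symm (inv_ne_zero hc) (wt1_part1 h.symm b)]

/-- Commuting with the torus means commuting with the idempotents. -/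
theorem commute_idem (h : Units2 α φ) (hp : 5 ≤ p)
    (hb : ∀ c : ZMod p, c ≠ 0 → cj (torus α φ c) b = b) :
    α * φ * b = b * (α * φ) ∧ φ * α * b = b * (φ * α) := by
  have h2 := two_ne hp
  have h3 := three_ne hp
  have key : ∀ c : ZMod p, c ≠ 0 → (c - 1) • (α * φ * b - b * (α * φ)) +
      (c⁻¹ - 1) • (φ * α * b - b * (φ * α)) = 0 := by
    intro c hc
    have e := (cj_eq_iff_commute _ _).mp (hb c hc)
    rw [← sub_eq_zero, val_torus h hc] at e
    rw [← e, e0]
    simp only [add_mul, mul_add, sub_mul, mul_sub, one_mul, mul_one, smul_mul_assoc, mul_smul_comm]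
    module
  have e1 := key (-1) (neg_ne_zero.mpr one_ne_zero)
  have e2 := key 2 h2
  rw [inv_neg, inv_one] at e1
  set Xa := α * φ * b - b * (α * φ) with hA
  set Xb := φ * α * b - b * (φ * α) with hB
  have e3 : (2 : ZMod p) • (Xa + Xb) = 0 := by
    rw [show (2 : ZMod p) • (Xa + Xb) = -(((-1 : ZMod p) - 1) • Xa + ((-1 : ZMod p) - 1) • Xb) by
      module, e1, neg_zero]
  have e4 : Xb = -Xa := eq_neg_of_add_eq_zero_right ((smul_eq_zero.mp e3).resolve_left h2)
  rw [e4] at e2
  have e5 : ((2 : ZMod p) - 2⁻¹) • Xa = 0 := by rw [← e2]; module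
  have e6 : (2 : ZMod p) - 2⁻¹ ≠ 0 := by
    intro e
    apply h3
    have : (2 : ZMod p) * 2 - 2 * 2⁻¹ = 0 := by rw [← mul_sub, e, mul_zero]
    rw [mul_inv_cancel₀ h2] at this
    linear_combination this
  have e7 : Xa = 0 := (smul_eq_zero.mp e5).resolve_left e6
  exact ⟨sub_eq_zero.mp e7, sub_eq_zero.mp (by rw [← hB, e4, e7, neg_zero])⟩

/-! ### Augmentation of a `p`-group -/

variable [Finite V]

instance finiteLinearGroup : Finite (LinearMap.GeneralLinearGroup (ZMod p) V) := finite_gl

theorem exists_coset_fixed {U : Subgroup (LinearMap.GeneralLinearGroup (ZMod p) V)}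
    (hU : IsPGroup p U) {W : Submodule (ZMod p) V} (hW : Inv U W) (hne : W ≠ ⊤) :
    ∃ v, v ∉ W ∧ ∀ u ∈ U, (u : E) v - v ∈ W := by
  letI : MulAction U (V ⧸ W) :=
    { smul := fun u => W.mapQ W (u.1 : E) (fun w hw => hW u.1 u.2 w hw)
      one_smul := fun w => by
        induction w using Submodule.Quotient.induction_on with
        | H v =>
          show Submodule.Quotient.mk (((1 : U).1 : E) v) = Submodule.Quotient.mk v
          simp
      mul_smul := fun u u' w => by
        induction w using Submodule.Quotient.induction_on with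
        | H v =>
          show Submodule.Quotient.mk (((u * u').1 : E) v) =
            Submodule.Quotient.mk ((u.1 : E) ((u'.1 : E) v))
          simp }
  haveI : Nontrivial (V ⧸ W) := Submodule.Quotient.nontrivial_iff.mpr hne
  obtain ⟨x, hx⟩ := exists_ne (0 : V ⧸ W)
  have hcard : p ∣ Nat.card (V ⧸ W) := by
    have h2 : addOrderOf x = p := by
      refine addOrderOf_eq_prime ?_ hx
      rw [← Nat.cast_smul_eq_nsmul (ZMod p), ZMod.natCast_self, zero_smul]
    exact (dvd_of_eq h2.symm).trans (addOrderOf_dvd_natCard x)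
  haveI : Finite (V ⧸ W) := Finite.of_surjective _ (Submodule.mkQ_surjective W)
  obtain ⟨b, hb, hb0⟩ := hU.exists_fixed_point_of_prime_dvd_card_of_fixed_point (V ⧸ W) hcard
    (a := 0) (fun u => map_zero (W.mapQ W (u.1 : E) _))
  obtain ⟨v, rfl⟩ := Submodule.Quotient.mk_surjective W b
  exact ⟨v, fun h => hb0 ((Submodule.Quotient.mk_eq_zero W).mpr h).symm, fun u hu =>
    (Submodule.Quotient.eq W).mp (hb ⟨u, hu⟩)⟩

theorem aug_nilpotent {U : Subgroup (LinearMap.GeneralLinearGroup (ZMod p) V)} (hU : IsPGroup p U) :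
    ∃ n, Unipotent.aug U ^ n = ⊥ := by
  let F : ℕ → Submodule (ZMod p) V := fun i =>
    ⨅ e ∈ Unipotent.aug U ^ i, LinearMap.ker (e : E)
  have hF : ∀ i v, v ∈ F i ↔ ∀ e ∈ Unipotent.aug U ^ i, e v = 0 := fun i v => by
    simp [F, Submodule.mem_iInf]
  suffices h : ∃ n, F n = ⊤ by
    obtain ⟨n, hn⟩ := h
    exact ⟨n, (Submodule.eq_bot_iff _).mpr fun e he => LinearMap.ext fun v =>
      (hF n v).mp (hn ▸ trivial) e he⟩
  have hinv : ∀ i, Inv U (F i) := by
    intro i g hg v hv
    rw [hF]
    intro e he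
    have hmem : e * ((g : E) - 1) ∈ Unipotent.aug U ^ (i + 1) := by
      rw [pow_succ]; exact Submodule.mul_mem_mul he (Unipotent.sub_one_mem hg)
    have hmono : ∀ j, Unipotent.aug U ^ (j + 2) ≤ Unipotent.aug U ^ (j + 1) := fun j => by
      rw [pow_succ, pow_succ, mul_assoc]
      exact mul_le_mul_right RootSubgroups.Unipotent.mul_aug_le _
    cases i with
    | zero =>
      have h0 : v = 0 := (hF 0 v).mp hv 1 (by rw [pow_zero]; exact Submodule.one_le.mp le_rfl)
      rw [h0, map_zero, map_zero]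
    | succ j =>
      have h1 := (hF _ v).mp hv _ (hmono j hmem)
      have h2 := (hF _ v).mp hv e he
      rw [Module.End.mul_apply, LinearMap.sub_apply, Module.End.one_apply, map_sub, h2, sub_zero] at h1
      exact h1
  by_contra hc
  push Not at hc
  have hlt : ∀ i, F i < F (i + 1) := by
    intro i
    refine lt_of_le_not_ge (fun v hv => ?_) fun hle => ?_
    · rw [hF]
      intro e he
      rw [pow_succ'] at he
      refine Submodule.mul_induction_on he (fun a _ c hc' => ?_) (fun a c ha hc' => ?_)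
      · rw [Module.End.mul_apply, (hF i v).mp hv c hc', map_zero]
      · rw [LinearMap.add_apply, ha, hc', add_zero]
    · obtain ⟨v, hv, hfix⟩ := exists_coset_fixed hU (hinv i) (hc i)
      refine hv (hle ((hF _ v).mpr fun e he => ?_))
      rw [pow_succ] at he
      refine Submodule.mul_induction_on he (fun a ha c hc' => ?_) (fun a c ha hc' => ?_)
      · rw [Module.End.mul_apply]
        refine (hF i _).mp ?_ a ha
        have : Unipotent.aug U ≤ (F i).comap (LinearMap.applyₗ v) :=
          RootSubgroups.Unipotent.aug_le fun g hg => by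
            show ((g : E) - 1) v ∈ F i
            simpa using hfix g hg
        exact this hc'
      · rw [LinearMap.add_apply, ha, hc', add_zero]
  obtain ⟨i, hi⟩ := WellFoundedGT.monotone_chain_condition
    (⟨F, (strictMono_nat_of_lt_succ hlt).monotone⟩ : ℕ →o Submodule (ZMod p) V)
  exact (hlt i).ne (hi (i + 1) (Nat.le_succ i))

/-- Elements in a common `p`-group do not form a pair of the second type. -/
theorem sandwich_zero (hp : 5 ≤ p) {U : Subgroup (LinearMap.GeneralLinearGroup (ZMod p) V)}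
    (hU : IsPGroup p U) {N P : E} (hN : Good G N) (hP : IsMin G P)
    (hNU : tau N ∈ U) (hPU : tau P ∈ U) : P * N * P = 0 := by
  by_contra h
  have hr := range_sandwich (two_ne hp) (card_ne_three hp) hN hP h
  obtain ⟨n, hn⟩ := aug_nilpotent hU
  have hmem : P * N ∈ Unipotent.aug U := by
    refine RootSubgroups.Unipotent.mul_aug_le (Submodule.mul_mem_mul ?_ ?_)
    · simpa [val_tau hP.good.sq] using Unipotent.sub_one_mem hPU
    · simpa [val_tau hN.sq] using Unipotent.sub_one_mem hNU
  have hz : (P * N) ^ n = 0 := by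
    have := Submodule.pow_mem_pow (Unipotent.aug U) hmem n
    rwa [hn, Submodule.mem_bot] at this
  have hrange : ∀ j, LinearMap.range P ≤ (LinearMap.range P).map ((P * N) ^ j) := by
    intro j
    induction j with
    | zero => rw [pow_zero, Module.End.one_eq_id, Submodule.map_id]
    | succ j ih =>
      rw [pow_succ', Module.End.mul_eq_comp, Submodule.map_comp]
      refine le_trans ?_ (Submodule.map_mono ih)
      rw [← range_mul, hr]
  have := hrange n
  rw [hz, Submodule.map_zero, le_bot_iff, LinearMap.range_eq_bot] at this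
  exact hP.ne_zero this

end Cfsg.Agent.Lib.Flavell42
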